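import Groth.Agent.L02.CycCover.Poly
import Groth.Agent.L19.SmoothNormal
import Groth.Agent.L24.Bertini.CharZero
import Mathlib.RingTheory.Derivation.MapCoeffs
import Mathlib.RingTheory.Etale.Kaehler

/-!
# The local model `B[τ,σ]/(τ^d - u, σ^n - τ^b x)` of a normalised cyclic cover
-/

set_option autoImplicit false
set_option linter.style.haveILetI false

universe u

open Polynomial

noncomputable section

namespace Groth.L16.CycCov

open Groth.L02.CycCover

variable {k B : Type u} [Field k] [CommRing B] [Algebra k B]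

/-- A derivation extends along an étale algebra. -/
theorem exists_derivation_etale {B' : Type u} [CommRing B'] [Algebra B B'] [Algebra k B'] [IsScalarTower k B B']
    [Algebra.FormallyEtale B B'] (δ : Derivation k B B) :
    ∃ δ' : Derivation k B' B', ∀ b, δ' (algebraMap B B' b) = algebraMap B B' (δ b) := by
  let l : TensorProduct B B' Ω[B⁄k] →ₗ[B'] B' :=
    LinearMap.liftBaseChange B' ((Algebra.linearMap B B').comp δ.liftKaehlerDifferential)
  let e := (KaehlerDifferential.tensorKaehlerEquivOfFormallyEtale k B B').symm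
  refine ⟨(KaehlerDifferential.linearMapEquivDerivation k B') (l.comp e.toLinearMap), fun b => ?_⟩
  show l (e (KaehlerDifferential.D k B' (algebraMap B B' b))) = _
  rw [show e (KaehlerDifferential.D k B' (algebraMap B B' b)) = 1 ⊗ₜ KaehlerDifferential.D k B b from by
    rw [LinearEquiv.symm_apply_eq]
    show _ = KaehlerDifferential.mapBaseChange k B B' (1 ⊗ₜ KaehlerDifferential.D k B b)
    rw [KaehlerDifferential.mapBaseChange_tmul, one_smul, KaehlerDifferential.map_D]]
  rw [LinearMap.liftBaseChange_tmul, one_smul, LinearMap.comp_apply, Derivation.liftKaehlerDifferential_comp_D]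
  rfl

/-- `B'[X]/(X^n - v x)` is smooth when some derivation takes `x` to `1`. -/
theorem smooth_kummer [Algebra.Smooth k B] {n : ℕ} (hn : 0 < n) (hnB : IsUnit (n : B)) {v x : B} (hv : IsUnit v)
    (δ : Derivation k B B) (hδ : δ x = 1) : Algebra.Smooth k (Ring' n (v * x)) := by
  obtain ⟨n', hn'⟩ := hnB.exists_left_inv
  obtain ⟨v', hv'⟩ := hv.exists_left_inv
  haveI : Algebra.Smooth B B[X] := ⟨inferInstance, inferInstance⟩
  haveI : Algebra.Smooth k B[X] := Algebra.Smooth.comp k B B[X]
  let Dd : Derivation k B[X] B[X] := (Polynomial.derivative' : Derivation B B[X] B[X]).restrictScalars k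
  let Δ : Derivation k B[X] B[X] := PolynomialModule.equivPolynomialSelf.compDer δ.mapCoeffs
  have hΔC : ∀ a, Δ (C a) = C (δ a) := fun a => by
    ext i
    show (δ.mapCoeffs (C a)).coeff i = _
    rw [Derivation.mapCoeffs_apply, coeff_C, coeff_C]
    split_ifs <;> simp
  have hΔX : Δ X = 0 := by
    ext i
    show (δ.mapCoeffs X).coeff i = _
    rw [Derivation.mapCoeffs_apply, coeff_X, coeff_zero]
    split_ifs <;> simp
  let α : B[X] := -(C (v' * v' * δ v * n') * X)
  refine Groth.L24.Bertini.smooth_quotient_derivation (k := k) (A := B[X]) (pol n (v * x)) (C (v' * v' * δ v))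
    (α • Dd + (-C v') • Δ) ?_
  have h1 : Dd (pol n (v * x)) = C (n : B) * X ^ (n - 1) := by
    show derivative (X ^ n - C (v * x)) = _
    simp [derivative_X_pow]
  have h2 : Δ (pol n (v * x)) = -C (v + x * δ v) := by
    show Δ (X ^ n - C (v * x)) = _
    rw [map_sub, Derivation.leibniz_pow, hΔX, smul_zero, smul_zero, zero_sub, hΔC, Derivation.leibniz, hδ,
      smul_eq_mul, smul_eq_mul, mul_one]
  rw [Derivation.add_apply, Derivation.smul_apply, Derivation.smul_apply, h1, h2, smul_eq_mul, smul_eq_mul]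
  have hX : (X : B[X]) * X ^ (n - 1) = X ^ n := by rw [← pow_succ', Nat.sub_add_cancel hn]
  have hv2 : C v' * C v = (1 : B[X]) := by rw [← map_mul, hv', map_one]
  have hn2 : C n' * C (n : B) = (1 : B[X]) := by rw [← map_mul, hn', map_one]
  simp only [α, pol, map_mul, map_add]
  linear_combination (-(C v' * C v' * C (δ v) * X * X ^ (n - 1))) * hn2 - (C v' * C v' * C (δ v)) * hX -
    (C v' * C x * C (δ v) - 1) * hv2

variable {d n : ℕ} {u : B} {x : B}

/-- The variable `v = τ^b` of the second step. -/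
abbrev coefV (d : ℕ) (u : B) (b : ℕ) : Ring' d u := AdjoinRoot.root (pol d u) ^ b

/-- The local model. -/
abbrev Model (d n : ℕ) (u x : B) (b : ℕ) : Type u :=
  Ring' n (coefV d u b * AdjoinRoot.of (pol d u) x)

/-- `B → Model`. -/
abbrev ofB (d n : ℕ) (u x : B) (b : ℕ) : B →+* Model d n u x b :=
  (AdjoinRoot.of _).comp (AdjoinRoot.of (pol d u))

theorem model_smooth [Algebra.Smooth k B] (hd : 0 < d) (hn : 0 < n) (hdn : IsUnit ((d * n : ℕ) : B)) (hu : IsUnit u)
    (δ : Derivation k B B) (hδ : δ x = 1) (b : ℕ) : Algebra.Smooth k (Model d n u x b) := by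
  rw [Nat.cast_mul] at hdn
  have hd' : IsUnit (d : B) := isUnit_of_mul_isUnit_left hdn
  have hn' : IsUnit (n : B) := isUnit_of_mul_isUnit_right hdn
  haveI := etale_ring' hd hu hd'
  haveI : Algebra.Smooth B (Ring' d u) := ⟨inferInstance, inferInstance⟩
  haveI : Algebra.Smooth k (Ring' d u) := Algebra.Smooth.comp k B (Ring' d u)
  obtain ⟨δ', hδ'⟩ := exists_derivation_etale (B' := Ring' d u) δ
  refine smooth_kummer hn ?_ ((isUnit_root hd hu).pow b) δ' ?_
  · rw [← map_natCast (algebraMap B (Ring' d u))]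
    exact hn'.map _
  · show δ' (algebraMap B (Ring' d u) x) = 1
    rw [hδ', hδ, map_one]

theorem isReduced_quotient [Algebra.Smooth k B] (hd : 0 < d) (hdu : IsUnit (d : B)) (hu : IsUnit u)
    (δ : Derivation k B B) (hδ : δ x = 1) :
    IsReduced (Ring' d u ⧸ Ideal.span {AdjoinRoot.of (pol d u) x}) := by
  haveI := etale_ring' hd hu hdu
  haveI : Algebra.Smooth B (Ring' d u) := ⟨inferInstance, inferInstance⟩
  haveI : Algebra.Smooth k (Ring' d u) := Algebra.Smooth.comp k B (Ring' d u)
  obtain ⟨δ', hδ'⟩ := exists_derivation_etale (B' := Ring' d u) δ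
  haveI : Algebra.Smooth k (Ring' d u ⧸ Ideal.span {AdjoinRoot.of (pol d u) x}) :=
    Groth.L24.Bertini.smooth_quotient_derivation _ 0 δ' (by
      rw [zero_mul, zero_add, ← AdjoinRoot.algebraMap_eq, hδ', hδ, map_one])
  have hN := Groth.L19.SmoothNormal.isNormalRing_of_smooth k (Ring' d u ⧸ Ideal.span {AdjoinRoot.of (pol d u) x})
    (fun p _ => ⟨inferInstance, inferInstance⟩)
  exact isReduced_ofLocalizationMaximal _ fun p hp => by
    haveI := (hN p).1
    infer_instance

/-- The ideal of the ramification divisor is radical. -/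
theorem radical_root [Algebra.Smooth k B] (hd : 0 < d) (hn : 0 < n) (hdu : IsUnit (d : B)) (hu : IsUnit u)
    (δ : Derivation k B B) (hδ : δ x = 1) (b : ℕ) :
    (Ideal.span {ofB d n u x b x}).radical = Ideal.span {(AdjoinRoot.root _ : Model d n u x b)} := by
  let σ : Model d n u x b := AdjoinRoot.root _
  obtain ⟨v', hv'⟩ := ((isUnit_root hd hu).pow b).exists_left_inv
  have hx : ofB d n u x b x = AdjoinRoot.of _ v' * σ ^ n := by
    rw [root_pow, ← map_mul, ← mul_assoc, hv', one_mul]
    rfl
  apply le_antisymm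
  · let Q := Ring' d u ⧸ Ideal.span {AdjoinRoot.of (pol d u) x}
    haveI : IsReduced Q := isReduced_quotient hd hdu hu δ hδ
    let q : Model d n u x b →+* Q := AdjoinRoot.lift (Ideal.Quotient.mk _) 0 (by
      rw [eval₂_sub, eval₂_X_pow, eval₂_C, zero_pow hn.ne', map_mul,
        show Ideal.Quotient.mk (Ideal.span {AdjoinRoot.of (pol d u) x}) (AdjoinRoot.of (pol d u) x) = 0 from
          Ideal.Quotient.eq_zero_iff_mem.2 (Ideal.mem_span_singleton_self _), mul_zero, sub_zero])
    have hqx : q (ofB d n u x b x) = 0 := by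
      rw [show ofB d n u x b x = AdjoinRoot.of _ (AdjoinRoot.of (pol d u) x) from rfl, AdjoinRoot.lift_of]
      exact Ideal.Quotient.eq_zero_iff_mem.2 (Ideal.mem_span_singleton_self _)
    intro a ha
    obtain ⟨j, hj⟩ := ha
    obtain ⟨c, hc⟩ := Ideal.mem_span_singleton'.1 hj
    have h0 : q a = 0 := IsReduced.eq_zero _ ⟨j, by rw [← map_pow, ← hc, map_mul, hqx, mul_zero]⟩
    have hq : q a = Ideal.Quotient.mk _ (cf hn 0 a) := by
      conv_lhs => rw [eq_sum hn a, map_sum]
      rw [Finset.sum_eq_single_of_mem 0 (Finset.mem_range.2 hn)]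
      · rw [pow_zero, mul_one, AdjoinRoot.lift_of]
      · intro i _ hi
        rw [map_mul, map_pow, AdjoinRoot.lift_root, zero_pow hi, mul_zero]
    rw [hq, Ideal.Quotient.eq_zero_iff_mem, Ideal.mem_span_singleton'] at h0
    obtain ⟨w, hw⟩ := h0
    rw [eq_sum hn a]
    refine Ideal.sum_mem _ fun i _ => ?_
    rcases Nat.eq_zero_or_pos i with h | h
    · subst h
      rw [pow_zero, mul_one, ← hw, map_mul,
        show AdjoinRoot.of _ (AdjoinRoot.of (pol d u) x) = ofB d n u x b x from rfl, hx]
      exact Ideal.mul_mem_left _ _ (Ideal.mul_mem_left _ _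
        (Ideal.pow_mem_of_mem _ (Ideal.mem_span_singleton_self σ) n hn))
    · exact Ideal.mul_mem_left _ _ (Ideal.pow_mem_of_mem _ (Ideal.mem_span_singleton_self σ) i h)
  · rw [Ideal.span_le, Set.singleton_subset_iff]
    refine ⟨n, Ideal.mem_span_singleton'.2 ⟨AdjoinRoot.of _ (coefV d u b), ?_⟩⟩
    rw [root_pow, map_mul]
    rfl

end Groth.L16.CycCov
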