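import Groth.Prelude.Def_EGA4b
import Mathlib.RingTheory.IntegralClosure.IntegrallyClosed
import Mathlib.RingTheory.Polynomial.ScaleRoots
import Mathlib.RingTheory.Ideal.Colon
import Mathlib.RingTheory.LocalProperties.Basic
import Mathlib.RingTheory.Localization.FractionRing

/-!
# Integrally dependent quotients in normal rings
-/

set_option autoImplicit false

universe u

open Polynomial

noncomputable section

namespace Groth.L16.CycCov

/-- In an integrally closed domain a root of a scaled monic polynomial is divisible by the scalar. -/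
theorem dvd_of_scaleRoots_domain {R : Type u} [CommRing R] [IsDomain R] [IsIntegrallyClosed R] {s a : R}
    (hs : s ≠ 0) {P : R[X]} (hP : P.Monic) (h : eval a (scaleRoots P s) = 0) : s ∣ a := by
  let K := FractionRing R
  have hsK : algebraMap R K s ≠ 0 := (map_ne_zero_iff _ (IsFractionRing.injective R K)).2 hs
  let y := algebraMap R K a / algebraMap R K s
  have hy : IsIntegral R y := by
    refine ⟨P, hP, ?_⟩
    have h1 : eval₂ (algebraMap R K) (algebraMap R K s * y) (scaleRoots P s) = 0 := by
      rw [mul_div_cancel₀ _ hsK, eval₂_at_apply, h, map_zero]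
    rw [scaleRoots_eval₂_mul] at h1
    exact (mul_eq_zero.1 h1).resolve_left (pow_ne_zero _ hsK)
  obtain ⟨b, hb⟩ := IsIntegrallyClosed.isIntegral_iff.1 hy
  refine ⟨b, IsFractionRing.injective R K ?_⟩
  rw [map_mul, hb, mul_div_cancel₀ _ hsK]

/-- In a normal ring a root of a scaled monic polynomial is divisible by a regular scalar. -/
theorem dvd_of_scaleRoots {R : Type u} [CommRing R] (hR : EGA4.IsNormalRing R) {s a : R}
    (hs : ∀ c, s * c = 0 → c = 0) {P : R[X]} (hP : P.Monic) (h : eval a (scaleRoots P s) = 0) : s ∣ a := by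
  rw [← Ideal.mem_span_singleton]
  refine Ideal.mem_of_localization_maximal fun p hp => ?_
  haveI := (hR p).1
  haveI := (hR p).2
  rw [Ideal.map_span, Set.image_singleton, Ideal.mem_span_singleton]
  have hs' : algebraMap R (Localization.AtPrime p) s ≠ 0 := fun h0 => by
    obtain ⟨⟨t, ht⟩, ht'⟩ := (IsLocalization.map_eq_zero_iff p.primeCompl _ s).1 h0
    exact ht ((hs t (by rw [mul_comm]; exact ht')) ▸ p.zero_mem)
  refine dvd_of_scaleRoots_domain hs' (hP.map (algebraMap R (Localization.AtPrime p))) ?_
  have h2 : scaleRoots (P.map (algebraMap R (Localization.AtPrime p))) (algebraMap R (Localization.AtPrime p) s) =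
      (scaleRoots P s).map (algebraMap R (Localization.AtPrime p)) :=
    (Polynomial.map_scaleRoots P s _ (by rw [hP.leadingCoeff, map_one]; exact one_ne_zero)).symm
  rw [h2, eval_map, eval₂_at_apply, h, map_zero]

/-- Divisibility can be tested on powers in normal rings. -/
theorem dvd_of_pow_eq {R : Type u} [CommRing R] (hR : EGA4.IsNormalRing R) {s a c : R}
    (hs : ∀ c, s * c = 0 → c = 0) {n : ℕ} (hn : 0 < n) (h : a ^ n = s ^ n * c) : ∃ z, s * z = a ∧ z ^ n = c := by
  obtain ⟨z, hz⟩ : s ∣ a := by
    rcases subsingleton_or_nontrivial R with h' | h'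
    · exact ⟨0, Subsingleton.elim _ _⟩
    refine dvd_of_scaleRoots hR hs (monic_X_pow_sub_C c hn.ne') ?_
    have : scaleRoots (X ^ n - C c) s = X ^ n - C (c * s ^ n) := by
      ext i
      rw [coeff_scaleRoots, natDegree_X_pow_sub_C, coeff_sub, coeff_sub, coeff_X_pow, coeff_C, coeff_C]
      rcases eq_or_ne i n with h1 | h1
      · subst h1
        simp [hn.ne']
      · rcases eq_or_ne i 0 with h2 | h2
        · subst h2
          simp [h1]
        · simp [h1, h2]
    rw [this, eval_sub, eval_pow, eval_X, eval_C, h, mul_comm, sub_self]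
  refine ⟨z, hz.symm, ?_⟩
  have hpow : ∀ (m : ℕ) (d : R), s ^ m * d = 0 → d = 0 := fun m => by
    induction m with
    | zero => intro d hd; simpa using hd
    | succ m ih => intro d hd; exact hs d (ih _ (by rw [← mul_assoc, ← pow_succ]; exact hd))
  refine sub_eq_zero.1 (hpow n _ ?_)
  rw [mul_sub, ← mul_pow, ← hz, h, sub_self]

end Groth.L16.CycCov
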