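import Groth.Agent.L16.CycCov.Local
import Groth.Agent.L16.CycCov.Root
import Groth.Agent.L16.CycCov.Model

/-!
# The normalised cover is free on the roots of the twisted powers
-/

set_option autoImplicit false
set_option linter.style.haveILetI false

universe u

open Polynomial

noncomputable section

namespace Groth.L16.CycCov

open Groth.L02.CycCover

section NormalCrossing

variable {k B : Type u} [Field k] [CommRing B] [Algebra k B] [Algebra.Smooth k B] {ι : Type} [Fintype ι] [DecidableEq ι]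
  {g : ι → B} {δ : ι → Derivation k B B} (hδ : ∀ i l, δ i (g l) = if i = l then 1 else 0)

include hδ

omit [Fintype ι] in
theorem isRadical_g (i : ι) : (Ideal.span {g i}).IsRadical := by
  haveI : Algebra.Smooth k (B ⧸ Ideal.span {g i}) :=
    Groth.L24.Bertini.smooth_quotient_derivation _ 0 (δ i) (by rw [zero_mul, zero_add, hδ, if_pos rfl])
  have hN := Groth.L19.SmoothNormal.isNormalRing_of_smooth k (B ⧸ Ideal.span {g i})
    (fun p _ => ⟨inferInstance, inferInstance⟩)
  rw [Ideal.isRadical_iff_quotient_reduced]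
  exact isReduced_ofLocalizationMaximal _ fun p hp => by
    haveI := (hN p).1
    infer_instance

omit [Fintype ι] in
/-- Another component is regular modulo a component. -/
theorem mem_of_mul_mem {i l : ι} (hil : l ≠ i) {h : B} (hh : h * g l ∈ Ideal.span {g i}) : h ∈ Ideal.span {g i} := by
  obtain ⟨w, hw⟩ := Ideal.mem_span_singleton'.1 hh
  have h1 := congrArg (δ l) hw
  rw [Derivation.leibniz, Derivation.leibniz, hδ, hδ, if_neg hil, if_pos rfl, smul_eq_mul, smul_eq_mul, smul_eq_mul,
    smul_eq_mul, mul_zero, zero_add, mul_one] at h1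
  refine isRadical_g hδ i ⟨2, Ideal.mem_span_singleton'.2 ⟨h * δ l w - δ l h * w, ?_⟩⟩
  linear_combination h * h1 - δ l h * hw

omit [Fintype ι] in
theorem mem_of_mul_prod_mem {i : ι} (R : ι → ℕ) (s : Finset ι) (hs : i ∉ s) {h : B}
    (hh : h * ∏ l ∈ s, g l ^ R l ∈ Ideal.span {g i}) : h ∈ Ideal.span {g i} := by
  induction s using Finset.induction_on generalizing h with
  | empty => simpa using hh
  | insert l s hl ih =>
    rw [Finset.prod_insert hl, ← mul_assoc] at hh
    have hne : l ≠ i := fun e => hs (e ▸ Finset.mem_insert_self _ _)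
    have h2 := ih (fun e => hs (Finset.mem_insert_of_mem e)) hh
    suffices ∀ (m : ℕ) (h : B), h * g l ^ m ∈ Ideal.span {g i} → h ∈ Ideal.span {g i} from this _ _ h2
    intro m
    induction m with
    | zero => intro h h3; simpa using h3
    | succ m ihm => intro h h3; exact ihm h (mem_of_mul_mem hδ hne (by rwa [mul_assoc, ← pow_succ]))

/-- An element with a small denominator whose power is integral is integral. -/
theorem mem_range_of_pow [IsDomain B] [IsIntegrallyClosed B] {K : Type u} [Field K] [Algebra B K] [IsFractionRing B K]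
    {N : ℕ} (hN : 0 < N) (R : ι → ℕ) (hR : ∀ i, R i < N) {x : K}
    (hx : IsIntegral B (x ^ N * algebraMap B K (∏ i, g i ^ R i))) : ∃ b, algebraMap B K b = x := by
  classical
  have hg0 : ∀ i, g i ≠ 0 := fun i h0 => by
    have := hδ i i
    rw [h0, map_zero, if_pos rfl] at this
    exact zero_ne_one this
  obtain ⟨b₀, hb₀⟩ := IsIntegrallyClosed.isIntegral_iff.1 hx
  have key : ∀ (T : ℕ) (e : ι → ℕ), ∑ i, e i = T → (∃ y, algebraMap B K y = x * algebraMap B K (∏ i, g i ^ e i)) →
      ∃ b, algebraMap B K b = x := by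
    intro T
    induction T with
    | zero =>
      intro e he ⟨y, hy⟩
      refine ⟨y, ?_⟩
      rw [hy, Finset.prod_eq_one (fun i hi => by rw [(Finset.sum_eq_zero_iff.1 he) i hi, pow_zero]), map_one, mul_one]
    | succ T ih =>
      intro e he ⟨y, hy⟩
      obtain ⟨i, hi⟩ : ∃ i, e i ≠ 0 := by
        by_contra hc
        push Not at hc
        rw [Finset.sum_eq_zero (fun i _ => hc i)] at he
        omega
      let e' := Function.update e i (e i - 1)
      have he'i : e' i = e i - 1 := Function.update_self i _ e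
      have he'l : ∀ l ∈ Finset.univ.erase i, e' l = e l := fun l hl => Function.update_of_ne (Finset.ne_of_mem_erase hl) _ _
      have hsplit : ∀ f : ι → ℕ, ∏ l, g l ^ f l = g i ^ f i * ∏ l ∈ Finset.univ.erase i, g l ^ f l := fun f =>
        (Finset.mul_prod_erase _ _ (Finset.mem_univ i)).symm
      have he' : ∑ l, e' l = T := by
        rw [← Finset.add_sum_erase _ _ (Finset.mem_univ i), he'i, Finset.sum_congr rfl he'l]
        have h' : e i + ∑ x ∈ Finset.univ.erase i, e x = ∑ x, e x :=
          Finset.add_sum_erase Finset.univ (fun x => e x) (Finset.mem_univ i)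
        have hi' : 0 < e i := Nat.pos_of_ne_zero hi
        rw [he] at h'
        show e i - 1 + ∑ x ∈ Finset.univ.erase i, e x = T
        omega
      have hPe : ∏ l, g l ^ e l = g i * ∏ l, g l ^ e' l := by
        rw [hsplit e, hsplit e', he'i, ← mul_assoc, ← pow_succ', Nat.sub_add_cancel (Nat.pos_of_ne_zero hi)]
        refine congrArg _ (Finset.prod_congr rfl fun l hl => ?_)
        rw [he'l l hl]
      have hrel : y ^ N * ∏ l, g l ^ R l = b₀ * (∏ l, g l ^ e l) ^ N := IsFractionRing.injective B K (by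
        rw [map_mul, map_mul, map_pow, map_pow, hy, hb₀]; ring)
      have hcancel : y ^ N * ∏ l ∈ Finset.univ.erase i, g l ^ R l =
          g i ^ (N - R i) * (b₀ * (∏ l, g l ^ e' l) ^ N) := by
        refine mul_left_cancel₀ (pow_ne_zero (R i) (hg0 i)) ?_
        rw [hsplit R, hPe, mul_pow] at hrel
        rw [← mul_assoc (g i ^ R i) (g i ^ (N - R i)), ← pow_add, Nat.add_sub_cancel' (hR i).le]
        linear_combination hrel
      have hmem : (y * ∏ l ∈ Finset.univ.erase i, g l ^ R l) ^ N ∈ Ideal.span {g i} := by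
        obtain ⟨m, hm⟩ : ∃ m, N - R i = m + 1 := ⟨N - R i - 1, by have := hR i; omega⟩
        refine Ideal.mem_span_singleton'.2 ⟨g i ^ m * (b₀ * (∏ l, g l ^ e' l) ^ N) *
          (∏ l ∈ Finset.univ.erase i, g l ^ R l) ^ (N - 1), ?_⟩
        rw [hm, pow_succ] at hcancel
        have hN1 : (∏ l ∈ Finset.univ.erase i, g l ^ R l) ^ N =
            (∏ l ∈ Finset.univ.erase i, g l ^ R l) * (∏ l ∈ Finset.univ.erase i, g l ^ R l) ^ (N - 1) := by
          rw [← pow_succ', Nat.sub_add_cancel hN]
        rw [mul_pow, hN1]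
        linear_combination (-(∏ l ∈ Finset.univ.erase i, g l ^ R l) ^ (N - 1)) * hcancel
      obtain ⟨y', hy'⟩ := Ideal.mem_span_singleton'.1
        (mem_of_mul_prod_mem hδ R _ (Finset.notMem_erase i _) (isRadical_g hδ i ⟨N, hmem⟩))
      refine ih e' he' ⟨y', ?_⟩
      refine mul_left_cancel₀ ((map_ne_zero_iff _ (IsFractionRing.injective B K)).2 (hg0 i)) ?_
      rw [← map_mul, mul_comm (g i) y', hy', hy, hPe, map_mul]
      ring
  refine key _ R rfl ?_
  have hint : IsIntegral B ((x * algebraMap B K (∏ i, g i ^ R i)) ^ N) := by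
    rw [mul_pow]
    have h2 := hx.mul ((isIntegral_algebraMap (R := B) (A := K) (x := ∏ i, g i ^ R i)).pow (N - 1))
    rwa [mul_assoc, ← pow_succ', Nat.sub_add_cancel hN] at h2
  exact IsIntegrallyClosed.isIntegral_iff.1 (IsIntegral.of_pow hN hint)

/-- The normalised cover is free on the twisted powers of the root. -/
theorem exists_basis [IsDomain B] [IsIntegrallyClosed B] {C : Type u} [CommRing C] (hC : EGA4.IsNormalRing C)
    {N : ℕ} (hN : 0 < N) (hNu : IsUnit (N : B)) {ζ : B} (hζ : IsPrimitiveRoot ζ N) {a u : B} (hu : IsUnit u)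
    (α : ι → ℕ) (ha : a = u * ∏ i, g i ^ α i) (ψ : B →+* C) (hψ : ψ.IsIntegral)
    (χ : Ring' N a →+* C) (hχ : ∀ r, χ (AdjoinRoot.of _ r) = ψ r) (hinj : Function.Injective χ)
    (htors : ∀ g ≠ 0, ∀ y, ψ g * y = 0 → y = 0) {g₀ : B} (hg₀ : g₀ ≠ 0)
    (hloc : ∀ y, ∃ (i : ℕ) (r : Ring' N a), ψ g₀ ^ i * y = χ r) :
    ∃ w : ℕ → C, (∀ l, ψ (∏ i, g i ^ (l * α i / N)) * w l = χ (AdjoinRoot.root _) ^ l) ∧
      Function.Bijective fun b : Fin N → B => ∑ l : Fin N, ψ (b l) * w l := by
  classical
  let G : ℕ → B := fun l => ∏ i, g i ^ (l * α i / N)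
  have hg0 : ∀ i, g i ≠ 0 := fun i h0 => by
    have := hδ i i
    rw [h0, map_zero, if_pos rfl] at this
    exact zero_ne_one this
  have hG0 : ∀ l, G l ≠ 0 := fun l => Finset.prod_ne_zero_iff.2 fun i _ => pow_ne_zero _ (hg0 i)
  have haG : ∀ l, a ^ l = G l ^ N * (u ^ l * ∏ i, g i ^ (l * α i % N)) := fun l => by
    have e1 : G l ^ N * ∏ i, g i ^ (l * α i % N) = (∏ i, g i ^ α i) ^ l := by
      rw [← Finset.prod_pow, ← Finset.prod_mul_distrib, ← Finset.prod_pow]
      refine Finset.prod_congr rfl fun i _ => ?_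
      rw [← pow_mul, ← pow_add, ← pow_mul, Nat.div_add_mod' , mul_comm]
    rw [ha, mul_pow, ← e1]
    ring
  have hex : ∀ l, ∃ w, ψ (G l) * w = χ (AdjoinRoot.root _) ^ l := fun l => by
    obtain ⟨w, hw, -⟩ := dvd_of_pow_eq hC (htors _ (hG0 l)) hN
      (show (χ (AdjoinRoot.root _) ^ l) ^ N = ψ (G l) ^ N * ψ (u ^ l * ∏ i, g i ^ (l * α i % N)) by
        rw [← pow_mul, mul_comm l N, pow_mul, ← map_pow χ, root_pow, hχ, ← map_pow ψ, haG, map_mul, map_pow])
    exact ⟨w, hw⟩
  choose w hw using hex
  let r₀ : (ℕ → B) → Ring' N a := fun f => ∑ l ∈ Finset.range N, AdjoinRoot.of _ (f l) * AdjoinRoot.root _ ^ l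
  have hr₀ : ∀ f, χ (r₀ f) = ∑ l ∈ Finset.range N, ψ (f l) * χ (AdjoinRoot.root _) ^ l := fun f => by
    simp only [r₀, map_sum, map_mul, map_pow, hχ]
  refine ⟨w, hw, fun b₁ b₂ hb => ?_, fun c => ?_⟩
  · let d : ℕ → B := fun l => if h : l < N then b₁ ⟨l, h⟩ - b₂ ⟨l, h⟩ else 0
    have hd : ∑ l ∈ Finset.range N, ψ (d l) * w l = 0 := by
      rw [← Fin.sum_univ_eq_sum_range (fun l => ψ (d l) * w l)]
      simp only [d, Fin.is_lt, dif_pos, map_sub, sub_mul, Finset.sum_sub_distrib]
      exact sub_eq_zero.2 hb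
    let Q : ℕ → B := fun l => ∏ m ∈ (Finset.range N).erase l, G m
    have h1 : χ (r₀ fun l => d l * Q l) = χ 0 := by
      rw [hr₀, map_zero, ← mul_zero (ψ (∏ m ∈ Finset.range N, G m)), ← hd, Finset.mul_sum]
      refine Finset.sum_congr rfl fun l hl => ?_
      rw [← hw, ← Finset.mul_prod_erase _ _ hl, map_mul, map_mul]
      show ψ (d l) * ψ (Q l) * (ψ (G l) * w l) = ψ (G l) * ψ (Q l) * (ψ (d l) * w l)
      ring
    funext l
    have h2 := congrArg (cf hN l.1) (hinj h1)
    rw [show cf hN l.1 (r₀ fun l => d l * Q l) = d l.1 * Q l.1 from cf_sum hN (fun l => d l * Q l) l.2, cf_zero] at h2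
    have h3 := (mul_eq_zero.1 h2).resolve_right (Finset.prod_ne_zero_iff.2 fun m _ => hG0 m)
    simp only [d, Fin.is_lt, dif_pos] at h3
    exact sub_eq_zero.1 h3
  · obtain ⟨p, r, hr⟩ := hloc c
    obtain ⟨P, hP, hPc⟩ := hψ c
    have hQ : eval₂ (AdjoinRoot.of (pol N a)) r (scaleRoots P (g₀ ^ p)) = 0 := hinj (by
      rw [hom_eval₂, map_zero, show χ.comp (AdjoinRoot.of (pol N a)) = ψ from RingHom.ext hχ, ← hr,
        show ψ g₀ ^ p = ψ (g₀ ^ p) from (map_pow ψ g₀ p).symm]
      exact scaleRoots_eval₂_eq_zero ψ hPc)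
    let K := FractionRing B
    have hinjK : Function.Injective (algebraMap B K) := IsFractionRing.injective B K
    have ha1 : algebraMap B K a = (1 : K) ^ N * algebraMap B K a := by rw [one_pow, one_mul]
    let η := bc (d := N) (algebraMap B K) 1 ha1
    let gK := algebraMap B K (g₀ ^ p)
    have hgK : gK ≠ 0 := (map_ne_zero_iff _ hinjK).2 (pow_ne_zero p hg₀)
    let y := AdjoinRoot.of (pol N (algebraMap B K a)) gK⁻¹ * η r
    have hay : η r = algebraMap B (Ring' N (algebraMap B K a)) (g₀ ^ p) * y := by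
      rw [IsScalarTower.algebraMap_apply B K (Ring' N (algebraMap B K a)), AdjoinRoot.algebraMap_eq, ← mul_assoc,
        ← map_mul, mul_inv_cancel₀ hgK, map_one, one_mul]
    have hy : IsIntegral B y := by
      refine ⟨P, hP, ?_⟩
      have hcomp : η.comp (AdjoinRoot.of (pol N a)) = algebraMap B (Ring' N (algebraMap B K a)) :=
        RingHom.ext fun b => by
          rw [IsScalarTower.algebraMap_apply B K (Ring' N (algebraMap B K a)), AdjoinRoot.algebraMap_eq]
          exact bc_of (algebraMap B K) 1 ha1 b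
      have h := congrArg η hQ
      rw [hom_eval₂, map_zero, hcomp, hay, scaleRoots_eval₂_mul] at h
      have hu : IsUnit (algebraMap B (Ring' N (algebraMap B K a)) (g₀ ^ p)) := by
        rw [IsScalarTower.algebraMap_apply B K (Ring' N (algebraMap B K a))]
        exact hgK.isUnit.map _
      exact (hu.pow _).mul_right_eq_zero.1 h
    have hcoef : ∀ l : Fin N, ∃ x : B, G l * cf hN l r = g₀ ^ p * x := fun l => by
      let z := cf hN (l : ℕ) y
      have hzr : algebraMap B K (cf hN l r) = gK * z := by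
        have h1 : algebraMap B K (cf hN l r) = cf hN l (η r) := by
          rw [cf_bc hN _ _ _ _ l.2, one_pow, mul_one]
        have h2 : η r = ∑ i ∈ Finset.range N,
            AdjoinRoot.of (pol N (algebraMap B K a)) (gK * cf hN i y) * AdjoinRoot.root _ ^ i := by
          rw [hay, IsScalarTower.algebraMap_apply B K (Ring' N (algebraMap B K a)), AdjoinRoot.algebraMap_eq]
          conv_lhs => rw [eq_sum hN y, Finset.mul_sum]
          exact Finset.sum_congr rfl fun i _ => by rw [map_mul, mul_assoc]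
        rw [h1, h2, cf_sum hN (fun i => gK * cf hN i y) l.2]
      have hint := pow_coeff_isIntegral hN hNu (hζ.map_of_injective hinjK) hy l.2
      obtain ⟨u', hu'⟩ := (hu.pow (l : ℕ)).exists_left_inv
      obtain ⟨x, hx⟩ := mem_range_of_pow hδ (K := K) hN (fun i => l * α i % N) (fun i => Nat.mod_lt _ hN)
        (x := z * algebraMap B K (G l)) (by
          have h3 := (isIntegral_algebraMap (R := B) (A := K) (x := u')).mul hint
          rw [← map_pow, haG, map_mul, map_mul, map_pow] at h3
          have h6 := congrArg (algebraMap B K) hu'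
          rw [map_mul, map_one] at h6
          have h7 : (z * algebraMap B K (G l)) ^ N * algebraMap B K (∏ i, g i ^ ((l : ℕ) * α i % N)) =
              algebraMap B K u' * (z ^ N * (algebraMap B K (G l) ^ N *
                (algebraMap B K (u ^ (l : ℕ)) * algebraMap B K (∏ i, g i ^ ((l : ℕ) * α i % N))))) := by
            rw [mul_pow]
            linear_combination (-(z ^ N * algebraMap B K (G l) ^ N *
              algebraMap B K (∏ i, g i ^ ((l : ℕ) * α i % N)))) * h6
          rw [h7]
          exact h3)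
      refine ⟨x, hinjK ?_⟩
      rw [map_mul, map_mul, hzr, hx]
      ring
    choose x hx using hcoef
    refine ⟨x, cancel_pow' (htors g₀ hg₀) p ?_⟩
    rw [hr, Finset.mul_sum]
    conv_rhs => rw [eq_sum hN r, map_sum, ← Fin.sum_univ_eq_sum_range]
    refine Finset.sum_congr rfl fun l _ => ?_
    rw [map_mul, map_pow, hχ, ← hw]
    calc ψ g₀ ^ p * (ψ (x l) * w l) = ψ (g₀ ^ p * x l) * w l := by rw [map_mul, map_pow]; ring
      _ = ψ (cf hN l r) * (ψ (G l) * w l) := by rw [← hx l, map_mul]; ring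
where
  cancel_pow' {C : Type u} [CommRing C] {s : C} (hs : ∀ z, s * z = 0 → z = 0) (i : ℕ) {y z : C}
      (h : s ^ i * y = s ^ i * z) : y = z := by
    induction i with
    | zero => simpa using h
    | succ i ih => exact ih (sub_eq_zero.1 (hs _ (by rw [mul_sub, ← mul_assoc, ← mul_assoc, ← pow_succ', h, sub_self])))

end NormalCrossing

end Groth.L16.CycCov
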