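import Groth.Agent.L16.CycCov.Ram
import Groth.Agent.L19.Approx.IdealExt

/-!
# Smoothness of the cyclic cover and the pullback of the branch divisor
-/

set_option autoImplicit false
set_option linter.style.haveILetI false

universe u

open CategoryTheory AlgebraicGeometry TopologicalSpace Opposite
open Groth.L18.Frame
open Groth.L02.CycCover

noncomputable section

namespace Groth.L16.CycCov

theorem map_radical_of_bijective {A C : Type u} [CommRing A] [CommRing C] (φ : A →+* C) (hφ : Function.Bijective φ)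
    (I : Ideal A) : (I.map φ).radical = I.radical.map φ :=
  (Ideal.map_radical_of_surjective hφ.2 (by rw [(RingHom.injective_iff_ker_eq_bot φ).1 hφ.1]; exact bot_le)).symm

variable {X Y : Scheme.{u}} {r : ℕ}

theorem ideal_prod (I : Fin r → X.IdealSheafData) (s : Finset (Fin r)) (U : X.affineOpens) :
    (∏ i ∈ s, I i).ideal U = ∏ i ∈ s, (I i).ideal U := by
  classical
  induction s using Finset.induction_on with
  | empty =>
    rw [Finset.prod_empty, Finset.prod_empty, Scheme.IdealSheafData.one_eq_top, Scheme.IdealSheafData.ideal_top,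
      Pi.top_apply, Ideal.one_eq_top]
  | insert i s hi ih =>
    rw [Finset.prod_insert hi, Finset.prod_insert hi, Scheme.IdealSheafData.ideal_mul, Pi.mul_apply, ih]

theorem ideal_eq_top_of_disjoint (I : X.IdealSheafData) (U : X.affineOpens)
    (h : Disjoint (U.1 : Set X) (I.support : Set X)) : I.ideal U = ⊤ := by
  have := ideal_divIdeal_eq_top (fun _ : Fin 1 => I) (fun _ => 1) U fun _ _ => h
  rwa [CycCov.divIdeal, Fin.prod_univ_one, pow_one] at this

theorem comap_ideal_app (π : Y ⟶ X) [IsAffineHom π] (I : X.IdealSheafData) (U : X.affineOpens) :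
    (I.comap π).ideal ⟨π ⁻¹ᵁ U.1, U.2.preimage π⟩ = (I.ideal U).map (π.app U.1).hom := by
  rw [Groth.L22.Ideals.comap_ideal π I U _ le_rfl, Scheme.Hom.appLE_eq_app]

theorem ideal_eq_of_cover {I J : Y.IdealSheafData} (π : Y ⟶ X) [IsAffineHom π] {W : X.Opens} (V : Y.affineOpens)
    (hV : V.1 ≤ π ⁻¹ᵁ W)
    (h : ∀ x ∈ W, ∃ U : X.affineOpens, x ∈ U.1 ∧
      I.ideal ⟨π ⁻¹ᵁ U.1, U.2.preimage π⟩ = J.ideal ⟨π ⁻¹ᵁ U.1, U.2.preimage π⟩) : I.ideal V = J.ideal V := by
  choose U hxU hU using h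
  let Wk : {y : Y // y ∈ V.1} → Y.affineOpens := fun y =>
    ⟨π ⁻¹ᵁ (U (π y.1) (hV y.2)).1, (U (π y.1) (hV y.2)).2.preimage π⟩
  have hcov : V.1 ≤ ⨆ y, (Wk y).1 := fun y hy => Opens.mem_iSup.2 ⟨⟨y, hy⟩, hxU _ _⟩
  exact le_antisymm (Groth.L19.Approx.ideal_le_of_le_iSup V Wk hcov fun y => (hU _ _).le)
    (Groth.L19.Approx.ideal_le_of_le_iSup V Wk hcov fun y => (hU _ _).ge)

variable {k : Type u} [Field k] [IsAlgClosed k] {L : X.Modules} {N : ℕ}
  {s : Coh.structureModule X ⟶ CohB1.tensorPow L N} {π : Y ⟶ X}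
  {D : Fin r → X.IdealSheafData} {α : Fin r → ℕ}

/-- An open avoiding the components that miss a point. -/
theorem exists_avoid (D : Fin r → X.IdealSheafData) (P : Fin r → Prop) (x : X) (hx : ∀ i, P i → x ∉ (D i).support) :
    ∃ O : X.Opens, x ∈ O ∧ ∀ i, P i → Disjoint (O : Set X) ((D i).support : Set X) := by
  have hc : IsClosed (⋃ i ∈ {i | P i}, ((D i).support : Set X)) :=
    Set.Finite.isClosed_biUnion (Set.toFinite _) fun i _ => (D i).support.2
  refine ⟨⟨_, hc.isOpen_compl⟩, ?_, fun i hi => Set.disjoint_left.2 fun z hz hz' => hz ?_⟩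
  · simp only [← SetLike.mem_coe, TopologicalSpace.Opens.coe_mk, Set.mem_compl_iff, Set.mem_iUnion, not_exists]
    exact fun i hi h => hx i hi h
  · simp only [Set.mem_iUnion]
    exact ⟨i, hi, hz'⟩

/-- The local form of the ramification. -/
theorem exists_radical_pow [IsIntegral X] (f : X ⟶ Spec (CommRingCat.of k)) [Smooth f] (hL : PicF.IsInvertible L)
    (R : CycCov.Root L N s π) (hN : 0 < N) (hNk : (N : k) ≠ 0) (hR : CycCov.IsCover R) (hD : LogNCD.IsNCD D f)
    (hs : CycCov.IsZeroDiv (CohB1.tensorPow L N) s (CycCov.divIdeal D α))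
    {x : X} (hx : ∀ i j : Fin r, x ∈ (D i).support → x ∈ (D j).support → i = j) :
    ∃ U : X.affineOpens, x ∈ U.1 ∧ (∀ i, x ∉ (D i).support → (D i).ideal U = ⊤) ∧
      ∀ j, ((D j).ideal U).map (π.app U.1).hom =
        ((((D j).ideal U).map (π.app U.1).hom).radical) ^ (N / Nat.gcd N (α j)) := by
  obtain ⟨O, hxO, hO⟩ := exists_avoid D (fun i => x ∉ (D i).support) x fun i hi => hi
  suffices H : ∃ U : X.affineOpens, x ∈ U.1 ∧ U.1 ≤ O ∧ ∀ j, x ∈ (D j).support → ((D j).ideal U).map (π.app U.1).hom =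
      ((((D j).ideal U).map (π.app U.1).hom).radical) ^ (N / Nat.gcd N (α j)) by
    obtain ⟨U, hxU, hUO, H⟩ := H
    refine ⟨U, hxU, fun i hi => ideal_eq_top_of_disjoint _ _ ((hO i hi).mono_left hUO), fun j => ?_⟩
    by_cases hj : x ∈ (D j).support
    · exact H j hj
    · rw [ideal_eq_top_of_disjoint _ _ ((hO j hj).mono_left hUO), Ideal.map_top, Ideal.radical_top, Ideal.top_pow]
  by_cases hex : ∃ j, x ∈ (D j).support
  swap
  · obtain ⟨U, hU, hxU, hUO⟩ := exists_isAffineOpen_mem_and_subset hxO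
    exact ⟨⟨U, hU⟩, hxU, hUO, fun j hj => absurd ⟨j, hj⟩ hex⟩
  obtain ⟨j, hj⟩ := hex
  have hother : ∀ i, i ≠ j → Disjoint (O : Set X) ((D i).support : Set X) := fun i hi =>
    hO i fun h => hi (hx i j h hj)
  rcases Nat.eq_zero_or_pos (α j) with h0 | h0
  · obtain ⟨W₁, e₁, hxW₁, he₁⟩ := exists_frame hL x
    obtain ⟨U, g, hxU, hUO, hUg, δ, hδ⟩ := exists_chart f hD hj (show x ∈ O ⊓ W₁ from ⟨hxO, hxW₁⟩)
    letI := algK f U.1
    haveI := smooth_algK f U.2
    haveI : Nonempty U.1 := ⟨⟨_, hxU⟩⟩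
    have he : IsFrame L U.1 (rs L (hUO.trans inf_le_right) e₁) := he₁.mono _
    obtain ⟨a, ha⟩ := (isFrame_lpow he N).exists_coeff le_rfl (SecTwist.val s U.1)
    rw [rs_self] at ha
    have hau : IsUnit a := isUnit_of_isZeroDiv hs U he ha.symm (ideal_divIdeal_eq_top D α U fun i hi =>
      (hother i fun h => by subst h; omega).mono_left (hUO.trans inf_le_left))
    obtain ⟨hNu, hbij⟩ := chart_bijective R f hN hNk hR U he ha.symm hau
    refine ⟨U, hxU, hUO.trans inf_le_left, fun i hi => ?_⟩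
    obtain rfl := hx i j hi hj
    rw [h0, Nat.gcd_zero_right, Nat.div_self hN, pow_one, hUg, Ideal.map_span, Set.image_singleton]
    let χ := CycCov.chart R U _ (isGen_of_isFrame he) a ha.symm
    haveI := isReduced_quotient (k := k) hN hNu hau δ hδ
    have hrad : (Ideal.span {AdjoinRoot.of (pol N a) g}).IsRadical := Ideal.isRadical_iff_quotient_reduced _ |>.2 ‹_›
    have := map_radical_of_bijective χ hbij (Ideal.span {AdjoinRoot.of (pol N a) g})
    rw [hrad.radical, Ideal.map_span, Set.image_singleton,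
      show χ (AdjoinRoot.of (pol N a) g) = π.app U.1 g from AdjoinRoot.lift_of _] at this
    exact this.symm
  · obtain ⟨U, _, g, u, d, b, φ, hxU, hUO, hUg, hd, hu, hdn, hφ, hφB, δ, hδ⟩ :=
      exists_local f hL R hN hNk hR hD hs hj h0 hxO fun i hi _ => hother i hi
    letI := algK f U.1
    haveI := smooth_algK f U.2
    refine ⟨U, hxU, hUO, fun i hi => ?_⟩
    obtain rfl := hx i j hi hj
    have hn : 0 < N / Nat.gcd N (α i) := Nat.div_pos (Nat.gcd_le_left _ hN) (Nat.gcd_pos_of_pos_left _ hN)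
    generalize N / Nat.gcd N (α i) = n at φ hφ hφB hdn hn ⊢
    rw [Nat.cast_mul] at hdn
    have hdu : IsUnit (d : Γ(X, U.1)) := isUnit_of_mul_isUnit_left hdn
    rw [hUg, Ideal.map_span, Set.image_singleton, ← hφB g,
      show Ideal.span {φ (ofB d n u g b g)} = (Ideal.span {ofB d n u g b g}).map φ by
        rw [Ideal.map_span, Set.image_singleton],
      map_radical_of_bijective φ hφ, radical_root (k := k) hd hn hdu hu δ hδ b, ← Ideal.map_pow,
      Ideal.span_singleton_pow, root_pow, map_mul]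
    congr 1
    exact (Ideal.span_singleton_mul_left_unit (((isUnit_root hd hu).pow b).map _) _).symm

theorem comap_eq_radical_pow [IsIntegral X] (f : X ⟶ Spec (CommRingCat.of k)) [Smooth f] (hL : PicF.IsInvertible L)
    (R : CycCov.Root L N s π) (hN : 0 < N) (hNk : (N : k) ≠ 0) (hR : CycCov.IsCover R) (hD : LogNCD.IsNCD D f)
    (hs : CycCov.IsZeroDiv (CohB1.tensorPow L N) s (CycCov.divIdeal D α))
    (W : X.Opens) (hW : ∀ x ∈ W, ∀ j j' : Fin r, x ∈ (D j).support → x ∈ (D j').support → j = j')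
    (j : Fin r) (V : Y.affineOpens) (hV : V.1 ≤ π ⁻¹ᵁ W) :
    ((D j).comap π).ideal V = (((D j).comap π).radical ^ (N / Nat.gcd N (α j))).ideal V := by
  haveI := hR.1
  refine ideal_eq_of_cover π V hV fun x hx => ?_
  obtain ⟨U, hxU, -, H⟩ := exists_radical_pow f hL R hN hNk hR hD hs (hW x hx)
  refine ⟨U, hxU, ?_⟩
  rw [Scheme.IdealSheafData.ideal_pow, Pi.pow_apply, Scheme.IdealSheafData.radical_ideal, comap_ideal_app]
  exact H j

theorem comap_divIdeal_eq [IsIntegral X] (f : X ⟶ Spec (CommRingCat.of k)) [Smooth f] (hL : PicF.IsInvertible L)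
    (R : CycCov.Root L N s π) (hN : 0 < N) (hNk : (N : k) ≠ 0) (hR : CycCov.IsCover R) (hD : LogNCD.IsNCD D f)
    (hs : CycCov.IsZeroDiv (CohB1.tensorPow L N) s (CycCov.divIdeal D α))
    (W : X.Opens) (hW : ∀ x ∈ W, ∀ j j' : Fin r, x ∈ (D j).support → x ∈ (D j').support → j = j')
    (V : Y.affineOpens) (hV : V.1 ≤ π ⁻¹ᵁ W) :
    ((CycCov.divIdeal D α).comap π).ideal V =
      (∏ j : Fin r, ((D j).comap π).radical ^ (N * α j / Nat.gcd N (α j))).ideal V := by
  haveI := hR.1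
  refine ideal_eq_of_cover π V hV fun x hx => ?_
  obtain ⟨U, hxU, -, H⟩ := exists_radical_pow f hL R hN hNk hR hD hs (hW x hx)
  refine ⟨U, hxU, ?_⟩
  rw [comap_ideal_app, CycCov.divIdeal, ideal_prod, ideal_prod,
    show (∏ i, (D i ^ α i).ideal U).map (π.app U.1).hom = ∏ i, ((D i ^ α i).ideal U).map (π.app U.1).hom from
      map_prod (Ideal.mapHom (π.app U.1).hom) _ _]
  refine Finset.prod_congr rfl fun j _ => ?_
  rw [Scheme.IdealSheafData.ideal_pow, Pi.pow_apply, Scheme.IdealSheafData.ideal_pow, Pi.pow_apply,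
    Scheme.IdealSheafData.radical_ideal, comap_ideal_app, Ideal.map_pow]
  conv_lhs => rw [H j]
  rw [← pow_mul, Nat.div_mul_right_comm (Nat.gcd_dvd_left N (α j))]

/-- The cover is smooth where at most one branch component passes. -/
theorem smooth_over [IsIntegral X] (f : X ⟶ Spec (CommRingCat.of k)) [Smooth f] (hL : PicF.IsInvertible L)
    (R : CycCov.Root L N s π) (hN : 0 < N) (hNk : (N : k) ≠ 0) (hR : CycCov.IsCover R) (hD : LogNCD.IsNCD D f)
    (hs : CycCov.IsZeroDiv (CohB1.tensorPow L N) s (CycCov.divIdeal D α)) (W : X.Opens)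
    (hW : ∀ x ∈ W, ∀ j j' : Fin r, 0 < α j → 0 < α j' → x ∈ (D j).support → x ∈ (D j').support → j = j') :
    Smooth ((π ⁻¹ᵁ W).ι ≫ π ≫ f) := by
  haveI := hR.1
  have hloc : ∀ x ∈ W, ∃ U : X.Opens, x ∈ U ∧ U ≤ W ∧ Smooth ((π ⁻¹ᵁ U).ι ≫ π ≫ f) := by
    intro x hx
    by_cases hex : ∃ j, 0 < α j ∧ x ∈ (D j).support
    · obtain ⟨j, hj0, hj⟩ := hex
      obtain ⟨O, hxO, hO⟩ := exists_avoid D (fun i => i ≠ j ∧ 0 < α i) x
        fun i hi h => hi.1 (hW x hx i j hi.2 hj0 h hj)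
      obtain ⟨U, _, g, u, d, b, φ, hxU, hUO, hUg, hd, hu, hdn, hφ, hφB, δ, hδ⟩ :=
        exists_local f hL R hN hNk hR hD hs hj hj0 (show x ∈ O ⊓ W from ⟨hxO, hx⟩)
          fun i hi hi' => (hO i ⟨hi, hi'⟩).mono_left (fun z hz => hz.1)
      refine ⟨U.1, hxU, hUO.trans inf_le_right, ?_⟩
      letI := algK f U.1
      haveI := smooth_algK f U.2
      haveI := model_smooth (k := k) hd (Nat.div_pos (Nat.gcd_le_left _ hN) (Nat.gcd_pos_of_pos_left _ hN)) hdn hu δ hδ b
      have hY : IsAffineOpen (π ⁻¹ᵁ U.1) := U.2.preimage π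
      haveI : IsAffine (π ⁻¹ᵁ U.1 : Scheme.{u}) := hY
      have h1 : ((π.app U.1).hom.comp (κ f U.1)).Smooth := by
        letI : Algebra k Γ(Y, π ⁻¹ᵁ U.1) := ((π.app U.1).hom.comp (κ f U.1)).toAlgebra
        let e : Model d (N / Nat.gcd N (α j)) u g b ≃ₐ[k] Γ(Y, π ⁻¹ᵁ U.1) :=
          AlgEquiv.ofBijective ({ φ with commutes' := fun c => hφB (κ f U.1 c) } :
            Model d (N / Nat.gcd N (α j)) u g b →ₐ[k] Γ(Y, π ⁻¹ᵁ U.1)) hφ
        exact Algebra.Smooth.of_equiv e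
      have h2 : ((π ≫ f).appLE ⊤ (π ⁻¹ᵁ U.1) le_top).hom.Smooth := by
        have e : (π ≫ f).appLE ⊤ (π ⁻¹ᵁ U.1) le_top = f.appLE ⊤ U.1 le_top ≫ π.app U.1 := by
          rw [← Scheme.Hom.appLE_eq_app, Scheme.Hom.appLE_comp_appLE]
        rw [e]
        have := RingHom.Smooth.respectsIso.2 _ (Scheme.ΓSpecIso (CommRingCat.of k)).commRingCatIsoToRingEquiv h1
        refine (congrArg RingHom.Smooth ?_).mp this
        refine RingHom.ext fun c => ?_
        show π.app U.1 (f.appLE ⊤ U.1 le_top ((Scheme.ΓSpecIso (CommRingCat.of k)).inv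
          ((Scheme.ΓSpecIso (CommRingCat.of k)).hom c))) = π.app U.1 (f.appLE ⊤ U.1 le_top c)
        rw [Iso.hom_inv_id_apply]
      rw [HasRingHomProperty.iff_of_isAffine (P := @Smooth), Scheme.Hom.comp_appTop, Scheme.Opens.ι_appTop]
      rw [Scheme.Hom.appLE] at h2
      have := RingHom.Smooth.respectsIso.1 _ (π ⁻¹ᵁ U.1).topIso.symm.commRingCatIsoToRingEquiv h2
      refine (congrArg RingHom.Smooth ?_).mp this
      refine congrArg CommRingCat.Hom.hom (?_ : ((π ≫ f).app ⊤ ≫ Y.presheaf.map _) ≫ (π ⁻¹ᵁ U.1).topIso.inv = _)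
      rw [Category.assoc, Scheme.Opens.topIso_inv]
      exact congrArg ((π ≫ f).appTop ≫ ·) (Y.presheaf.map_comp _ _).symm
    · obtain ⟨O, hxO, hO⟩ := exists_avoid D (fun i => 0 < α i) x fun i hi h => hex ⟨i, hi, h⟩
      refine ⟨O ⊓ W, ⟨hxO, hx⟩, inf_le_right, ?_⟩
      haveI := etale_restrict f hL R hN hNk hR D α hs (O ⊓ W) fun i hi => (hO i hi).mono_left fun z hz => hz.1
      rw [← morphismRestrict_ι_assoc]
      infer_instance
  choose U hxU hUW hU using hloc
  refine (IsZariskiLocalAtSource.iff_of_iSup_eq_top (P := @Smooth)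
    (fun y : ↑(π ⁻¹ᵁ W) => (π ⁻¹ᵁ W).ι ⁻¹ᵁ (π ⁻¹ᵁ U (π y.1) y.2))
    (top_le_iff.1 fun y _ => Opens.mem_iSup.2 ⟨y, hxU _ _⟩)).2 fun y => ?_
  rw [← Scheme.Hom.isoImage_hom_ι_assoc]
  refine (MorphismProperty.cancel_left_of_respectsIso @Smooth _ _).2 ?_
  rw [Scheme.Hom.image_preimage_eq_opensRange_inf, Scheme.Opens.opensRange_ι,
    inf_eq_right.2 (π.preimage_mono (hUW _ _))]
  exact hU _ _

end Groth.L16.CycCov
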