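import Groth.Agent.L16.CycCov.Basis
import Groth.Agent.L16.CycCov.Branch

/-!
# Adapted neighbourhoods and bases of the normalised cover
-/

set_option autoImplicit false
set_option linter.style.haveILetI false

universe u

open CategoryTheory AlgebraicGeometry TopologicalSpace Opposite
open Groth.L18.Frame
open Groth.L02.CycCover

noncomputable section

namespace Groth.L16.CycCov

variable {k : Type u} [Field k] {X Y : Scheme.{u}} {r : ℕ} {D : Fin r → X.IdealSheafData}

/-- Equations of the components through `x` with dual derivations. -/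
theorem exists_equations (f : X ⟶ Spec (CommRingCat.of k)) (hD : LogNCD.IsNCD D f) (x : X) :
    ∃ (W : X.Opens) (_ : x ∈ W) (ι : Type) (_ : Fintype ι) (_ : DecidableEq ι) (c : ι → Fin r) (g : ι → Γ(X, W)),
      Function.Injective c ∧ ∀ (V : X.affineOpens) (h : V.1 ≤ W),
        (∀ i, (D (c i)).ideal V = Ideal.span {ro h (g i)}) ∧ (∀ j, j ∉ Set.range c → (D j).ideal V = ⊤) ∧
        letI := algK f V.1
        ∃ δ : ι → Derivation k Γ(X, V.1) Γ(X, V.1), ∀ i l, δ i (ro h (g l)) = if i = l then 1 else 0 := by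
  classical
  by_cases hex : ∃ j, x ∈ (D j).support
  · obtain ⟨W, hxW, n, v, e, he, hét, hgen, hout⟩ := hD x (hex.elim fun j hj => ⟨⟨j, hj⟩⟩)
    refine ⟨W, hxW, {j : Fin r // x ∈ (D j).support}, inferInstance, inferInstance, Subtype.val,
      fun i => W.topIso.hom (v (ULift.up (e i))), Subtype.val_injective, fun V h => ⟨fun i => hgen i V h, fun j hj =>
        hout j (fun h' => hj ⟨⟨j, h'⟩, rfl⟩) V h, ?_⟩⟩
    obtain ⟨ψ, hψ, hψC, hψX⟩ := exists_chart_ring f W v hét V.2 h
    letI := algK f V.1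
    letI : Algebra (MvPolynomial (ULift.{u} (Fin n)) k) Γ(X, V.1) := ψ.toAlgebra
    haveI : IsScalarTower k (MvPolynomial (ULift.{u} (Fin n)) k) Γ(X, V.1) :=
      IsScalarTower.of_algebraMap_eq fun a => (hψC a).symm
    haveI : Algebra.Etale (MvPolynomial (ULift.{u} (Fin n)) k) Γ(X, V.1) := hψ
    choose δ hδ using fun i : {j : Fin r // x ∈ (D j).support} =>
      exists_derivation_etale (k := k) (B' := Γ(X, V.1)) (MvPolynomial.pderiv (ULift.up.{u} (e i)))
    refine ⟨δ, fun i l => ?_⟩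
    rw [show ro h (W.topIso.hom (v (ULift.up (e l)))) =
      algebraMap (MvPolynomial (ULift.{u} (Fin n)) k) Γ(X, V.1) (MvPolynomial.X (ULift.up (e l))) from (hψX _).symm,
      hδ, MvPolynomial.pderiv_X]
    by_cases hil : i = l
    · subst hil; simp
    · simp only [if_neg hil]
      rw [Pi.single_eq_of_ne (fun h' => hil (he (ULift.up.inj h')).symm), map_zero]
  · obtain ⟨O, hxO, hO⟩ := exists_avoid D (fun _ => True) x fun j _ h => hex ⟨j, h⟩
    refine ⟨O, hxO, Empty, inferInstance, inferInstance, Empty.elim, fun i => i.elim, fun i => i.elim,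
      fun V h => ⟨fun i => i.elim, fun j _ => ideal_eq_top_of_disjoint _ _ ((hO j trivial).mono_left h),
        fun i => i.elim, fun i => i.elim⟩⟩

theorem ideal_divIdeal_span {V : X.affineOpens} (D : Fin r → X.IdealSheafData) (β : Fin r → ℕ) {ι : Type} [Fintype ι]
    (c : ι → Fin r) (hc : Function.Injective c) (g : ι → Γ(X, V.1)) (hg : ∀ i, (D (c i)).ideal V = Ideal.span {g i})
    (hout : ∀ j, j ∉ Set.range c → (D j).ideal V = ⊤) :
    (CycCov.divIdeal D β).ideal V = Ideal.span {∏ i, g i ^ β (c i)} := by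
  classical
  rw [CycCov.divIdeal, ideal_prod,
    ← Finset.prod_subset (Finset.subset_univ (Finset.univ.image c)) (fun j _ hj => ?_),
    Finset.prod_image (fun a _ b _ h => hc h), ← Ideal.prod_span_singleton]
  · refine Finset.prod_congr rfl fun i _ => ?_
    rw [Scheme.IdealSheafData.ideal_pow, Pi.pow_apply, hg, Ideal.span_singleton_pow]
  · rw [Scheme.IdealSheafData.ideal_pow, Pi.pow_apply, hout j (fun ⟨i, hi⟩ => hj (Finset.mem_image.2 ⟨i, Finset.mem_univ _, hi⟩)),
      Ideal.top_pow, Ideal.one_eq_top]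

variable [IsAlgClosed k] {L : X.Modules} {N : ℕ} {s : Coh.structureModule X ⟶ CohB1.tensorPow L N} {π : Y ⟶ X}
  {α : Fin r → ℕ}

theorem span_coeff (hs : CycCov.IsZeroDiv (CohB1.tensorPow L N) s (CycCov.divIdeal D α)) (V : X.affineOpens)
    {e : Γ(L, V.1)} (he : IsFrame L V.1 e) {a : Γ(X, V.1)} (ha : SecTwist.val s V.1 = a • CycCov.lpow L V.1 e N)
    {G : Γ(X, V.1)} (hG : (CycCov.divIdeal D α).ideal V = Ideal.span {G}) : Ideal.span {a} = Ideal.span {G} := by
  have h := hs V
  rw [hG, ha] at h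
  refine le_antisymm ?_ ?_
  · have hmem : a • CycCov.lpow L V.1 e N ∈
        Ideal.span {G} • (⊤ : Submodule Γ(X, V.1) ((CohB1.tensorPow L N).val.obj (op V.1))) :=
      h ▸ Submodule.mem_span_singleton_self _
    rw [Submodule.ideal_span_singleton_smul, Submodule.mem_smul_pointwise_iff_exists] at hmem
    obtain ⟨y, -, hy⟩ := hmem
    obtain ⟨c, hc⟩ := (isFrame_lpow he N).exists_coeff le_rfl y
    rw [rs_self] at hc
    rw [← hc] at hy
    rw [Ideal.span_singleton_le_span_singleton]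
    refine ⟨c, ((isGen_of_isFrame (isFrame_lpow he N)).1 ?_).symm⟩
    exact (mul_smul G c (CycCov.lpow L V.1 e N)).trans hy
  · have hmem : G • CycCov.lpow L V.1 e N ∈ Submodule.span Γ(X, V.1) {a • CycCov.lpow L V.1 e N} :=
      h ▸ Submodule.smul_mem_smul (Ideal.mem_span_singleton_self _) trivial
    obtain ⟨c, hc⟩ := Submodule.mem_span_singleton.1 hmem
    rw [Ideal.span_singleton_le_span_singleton]
    refine ⟨c, (((isGen_of_isFrame (isFrame_lpow he N)).1 ?_).symm).trans (mul_comm c a)⟩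
    exact (mul_smul c a (CycCov.lpow L V.1 e N)).trans hc

/-- Neighbourhoods over whose affine opens the cover is free on twisted powers of the root. -/
theorem exists_basis_nhd [IsIntegral X] (f : X ⟶ Spec (CommRingCat.of k)) [Smooth f] (hL : PicF.IsInvertible L)
    (R : CycCov.Root L N s π) (hN : 0 < N) (hNk : (N : k) ≠ 0) (hR : CycCov.IsCover R) (hD : LogNCD.IsNCD D f)
    (hs : CycCov.IsZeroDiv (CohB1.tensorPow L N) s (CycCov.divIdeal D α)) (x : X) :
    ∃ (W : X.Opens) (e : Γ(L, W)) (he : IsFrame L W e), x ∈ W ∧ ∀ (V : X.affineOpens) (h : V.1 ≤ W), Nonempty V.1 →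
      ∃ (G : ℕ → Γ(X, V.1)) (w : ℕ → Γ(Y, π ⁻¹ᵁ V.1)),
        (∀ l, G l ≠ 0) ∧ (∀ l, (CycCov.floorIdeal D α N l).ideal V = Ideal.span {G l}) ∧
        (∀ l, π.app V.1 (G l) * w l = R.t V (rs L h e) (isGen_of_isFrame (he.mono h)) ^ l) ∧
        Function.Bijective fun b : Fin N → Γ(X, V.1) => ∑ l : Fin N, π.app V.1 (b l) * w l := by
  classical
  obtain ⟨W₀, hxW₀, ι, _, _, c, g, hc, hg⟩ := exists_equations f hD x
  obtain ⟨W₁, e₁, hxW₁, he₁⟩ := exists_frame hL x
  refine ⟨W₀ ⊓ W₁, rs L inf_le_right e₁, he₁.mono _, ⟨hxW₀, hxW₁⟩, fun V h hV => ?_⟩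
  obtain ⟨hgV, hout, δ, hδ⟩ := hg V (h.trans inf_le_left)
  letI := algK f V.1
  haveI := hV
  haveI : Nonempty V.1.toScheme := hV
  haveI := smooth_algK f V.2
  haveI := isIntegrallyClosed_of_smooth f V.1
  haveI := hR.1
  have he : IsFrame L V.1 (rs L h (rs L inf_le_right e₁)) := (he₁.mono _).mono h
  obtain ⟨a, ha⟩ := (isFrame_lpow he N).exists_coeff le_rfl (SecTwist.val s V.1)
  rw [rs_self] at ha
  let gV : ι → Γ(X, V.1) := fun i => ro (h.trans inf_le_left) (g i)
  obtain ⟨u, hu⟩ := (Ideal.span_singleton_eq_span_singleton.1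
    (span_coeff hs V he ha.symm (ideal_divIdeal_span D α c hc gV hgV hout))).symm
  obtain ⟨htors, g₀, hg₀, hloc, hinj⟩ := exists_generic R hN hR V he ha.symm
  haveI : NeZero (N : k) := ⟨hNk⟩
  obtain ⟨ζ, hζ⟩ := HasEnoughRootsOfUnity.exists_primitiveRoot k N
  obtain ⟨w, hw, hbij⟩ := exists_basis (g := gV) hδ (isNormalRing_sections hR.2.1 (V.2.preimage π)) hN
    (isUnit_natCast f V.1 hNk) (hζ.map_of_injective (κ f V.1).injective) u.isUnit (fun i => α (c i))
    (by rw [← hu, mul_comm]) (π.app V.1).hom (RingHom.Finite.to_isIntegral (π.finite_app V.1 V.2))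
    (CycCov.chart R V _ (isGen_of_isFrame he) a ha.symm) (fun z => AdjoinRoot.lift_of _) hinj
    (fun g₁ hg₁ z => htors g₁ hg₁ z) hg₀ hloc
  refine ⟨fun l => ∏ i, gV i ^ (l * α (c i) / N), w, fun l => ?_,
    fun l => ideal_divIdeal_span D (fun j => l * α j / N) c hc gV hgV hout, fun l => ?_, hbij⟩
  · refine Finset.prod_ne_zero_iff.2 fun i _ => pow_ne_zero _ fun h0 => ?_
    have := hδ i i
    rw [show ro (h.trans inf_le_left) (g i) = 0 from h0, map_zero, if_pos rfl] at this
    exact zero_ne_one this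
  · rw [hw l, show CycCov.chart R V _ (isGen_of_isFrame he) a ha.symm (AdjoinRoot.root _) = _ from AdjoinRoot.lift_root _]

end Groth.L16.CycCov
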