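import Groth.Agent.L18.GenLocus
import Groth.Agent.L25.Extend.Main
import Groth.Agent.L16.CurveCompletion.Normal
import Groth.Prelude.Def_CycCov

/-!
# Frames of the powers of an invertible module and the divisor of zeros in a frame
-/

set_option autoImplicit false

universe u

open CategoryTheory AlgebraicGeometry TopologicalSpace Opposite
open Groth.L18.Frame
open Groth.L18.GenLoc (tens tens_rs isFrame_tens)

noncomputable section

namespace Groth.L16.CycCov

variable {X : Scheme.{u}} {L : X.Modules} {W U : X.Opens}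

theorem tens_eq_tmul (L M : X.Modules) (U : X.Opens) (m : Γ(L, U)) (n : Γ(M, U)) :
    (SecTwist.tmul L M U m n : Γ(CohB1.tensorMod L M, U)) = tens L M U m n := rfl

theorem isFrame_lpow {e : Γ(L, W)} (he : IsFrame L W e) :
    ∀ n : ℕ, IsFrame (CohB1.tensorPow L n) W (CycCov.lpow L W e n)
  | 0 => fun V h => by
      have : (fun a : Γ(X, V) => a • rs (CohB1.tensorPow L 0) h (CycCov.lpow L W e 0)) = fun a : Γ(X, V) => a := by
        funext a
        show a * X.presheaf.map (homOfLE h).op (1 : Γ(X, W)) = a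
        rw [map_one, mul_one]
      rw [this]
      exact Function.bijective_id
  | n + 1 => by
      have := isFrame_tens (isFrame_lpow he n) he
      exact this

theorem rs_lpow {V : X.Opens} (h : V ≤ W) (e : Γ(L, W)) :
    ∀ n : ℕ, rs (CohB1.tensorPow L n) h (CycCov.lpow L W e n) = CycCov.lpow L V (rs L h e) n
  | 0 => map_one (X.presheaf.map (homOfLE h).op).hom
  | n + 1 => by
      show rs (CohB1.tensorMod (CohB1.tensorPow L n) L) h (tens (CohB1.tensorPow L n) L W (CycCov.lpow L W e n) e) = _
      rw [tens_rs, rs_lpow h e n]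
      rfl

theorem isGen_of_isFrame {e : Γ(L, W)} (he : IsFrame L W e) : CycCov.IsGen L W e := by
  have := he W le_rfl
  simp only [rs_self] at this
  exact this

theorem val_rs {M : X.Modules} (s : Coh.structureModule X ⟶ M) {V : X.Opens} (h : V ≤ W) :
    rs M h (SecTwist.val s W) = SecTwist.val s V := by
  rw [SecTwist.val, SecTwist.val]
  exact (M.unitHomEquiv s).property (homOfLE h).op

/-- The value of `s` in a frame, restricted. -/
theorem val_restrict {N : ℕ} (s : Coh.structureModule X ⟶ CohB1.tensorPow L N) {e : Γ(L, W)} {a : Γ(X, W)}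
    (ha : SecTwist.val s W = a • CycCov.lpow L W e N) {V : X.Opens} (h : V ≤ W) :
    SecTwist.val s V = ro h a • CycCov.lpow L V (rs L h e) N := by
  rw [← val_rs s h, ← rs_lpow h e N]
  exact (congrArg (rs (CohB1.tensorPow L N) h) ha).trans (rs_smul _ h a _)

/-- A section without zeros on an affine open is a unit times the frame. -/
theorem isUnit_of_isZeroDiv {N : ℕ} {s : Coh.structureModule X ⟶ CohB1.tensorPow L N} {I : X.IdealSheafData}
    (hs : CycCov.IsZeroDiv (CohB1.tensorPow L N) s I) (U : X.affineOpens) {e : Γ(L, U.1)} (he : IsFrame L U.1 e)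
    {a : Γ(X, U.1)} (ha : SecTwist.val s U.1 = a • CycCov.lpow L U.1 e N) (hI : I.ideal U = ⊤) : IsUnit a := by
  have h : CycCov.lpow L U.1 e N ∈ Submodule.span Γ(X, U.1) {SecTwist.val s U.1} := by
    rw [hs U, hI, Submodule.top_smul]
    trivial
  obtain ⟨c, hc⟩ := Submodule.mem_span_singleton.1 h
  rw [ha, smul_smul] at hc
  refine IsUnit.of_mul_eq_one c ?_
  rw [mul_comm]
  refine (isGen_of_isFrame (isFrame_lpow he N)).1 ?_
  show (c * a) • _ = (1 : Γ(X, U.1)) • _
  rw [one_smul]
  exact hc

/-- The divisor is trivial off its positive components. -/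
theorem ideal_divIdeal_eq_top {r : ℕ} (D : Fin r → X.IdealSheafData) (α : Fin r → ℕ) (U : X.affineOpens)
    (hU : ∀ j, 0 < α j → Disjoint (U.1 : Set X) ((D j).support : Set X)) :
    (CycCov.divIdeal D α).ideal U = ⊤ := by
  refine Finset.prod_induction _ (fun J : X.IdealSheafData => J.ideal U = ⊤) (fun I J hI hJ => ?_) ?_ fun j _ => ?_
  · rw [Scheme.IdealSheafData.ideal_mul, Pi.mul_apply, hI, hJ, Ideal.top_mul]
  · rw [Scheme.IdealSheafData.one_eq_top, Scheme.IdealSheafData.ideal_top, Pi.top_apply]
  · rw [Scheme.IdealSheafData.ideal_pow, Pi.pow_apply]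
    rcases Nat.eq_zero_or_pos (α j) with h | h
    · rw [h, pow_zero, Ideal.one_eq_top]
    · suffices (D j).ideal U = ⊤ by rw [this, Ideal.top_pow]
      rw [← PrimeSpectrum.zeroLocus_empty_iff_eq_top, ← Set.subset_empty_iff]
      intro p hp
      have hp' : U.2.fromSpec p ∈ ((D j).support : Set X) ∩ U.1 := by
        rw [(D j).coe_support_inter U, ← U.2.fromSpec_image_zeroLocus ((D j).ideal U : Set Γ(X, U.1))]
        exact ⟨p, hp, rfl⟩
      exact ((Set.disjoint_iff).1 (hU j h) ⟨hp'.2, hp'.1⟩).elim

theorem isIntegrallyClosed_of_smooth {k : Type u} [Field k] (f : X ⟶ Spec (CommRingCat.of k)) [Smooth f]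
    [IsIntegral X] (U : X.Opens) [Nonempty U] : IsIntegrallyClosed Γ(X, U) :=
  Groth.L16.CurveCompletion.isIntegrallyClosed_sections
    (fun x => (Groth.L25.Extend.isNormalScheme_of_smooth f (Groth.L25.Extend.isNormalScheme_field k) x).2) U ‹_›

end Groth.L16.CycCov
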