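import Groth.Agent.L16.CycCov.Local
import Groth.Agent.L16.CycCov.Frames
import Mathlib.AlgebraicGeometry.Morphisms.Finite
import Mathlib.RingTheory.RootsOfUnity.AlgebraicallyClosed

/-!
# Charts of the cyclic cover: torsion-freeness and bijectivity off the branch locus
-/

set_option autoImplicit false
set_option linter.style.haveILetI false

universe u

open CategoryTheory AlgebraicGeometry TopologicalSpace Opposite
open Groth.L18.Frame
open Groth.L02.CycCover

noncomputable section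

namespace Groth.L16.CycCov

variable {X Y : Scheme.{u}} {L : X.Modules} {N : ℕ} {s : Coh.structureModule X ⟶ CohB1.tensorPow L N} {π : Y ⟶ X}

theorem ro_app (π : Y ⟶ X) {U V : X.Opens} (h : V ≤ U) (b : Γ(X, U)) :
    ro (π.preimage_mono h) (π.app U b) = π.app V (ro h b) :=
  (ConcreteCategory.congr_hom (π.naturality (homOfLE h).op) b).symm

theorem algebraMap_ro_eq {U V : X.Opens} (h : V ≤ U) {a : Γ(X, U)} :
    (X.presheaf.map (homOfLE h).op).hom a = (1 : Γ(X, V)) ^ N * ro h a := by rw [one_pow, one_mul]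

variable (R : CycCov.Root L N s π)

theorem chart_res {U V : X.affineOpens} (h : V.1 ≤ U.1) {e : Γ(L, U.1)} (he : IsFrame L U.1 e) {a : Γ(X, U.1)}
    (ha : SecTwist.val s U.1 = a • CycCov.lpow L U.1 e N) (b : Ring' N a) :
    ro (π.preimage_mono h) (CycCov.chart R U e (isGen_of_isFrame he) a ha b) =
      CycCov.chart R V (rs L h e) (isGen_of_isFrame (he.mono h)) (ro h a) (val_restrict s ha h)
        (bc (X.presheaf.map (homOfLE h).op).hom 1 (algebraMap_ro_eq h) b) := by
  refine RingHom.congr_fun (hom_ext'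
    (φ := (Y.presheaf.map (homOfLE (π.preimage_mono h)).op).hom.comp (CycCov.chart R U e (isGen_of_isFrame he) a ha))
    (ψ := (CycCov.chart R V (rs L h e) (isGen_of_isFrame (he.mono h)) (ro h a) (val_restrict s ha h)).comp
      (bc (X.presheaf.map (homOfLE h).op).hom 1 (algebraMap_ro_eq h))) (fun c => ?_) ?_) b
  · rw [RingHom.comp_apply, RingHom.comp_apply, bc_of, CycCov.chart, AdjoinRoot.lift_of, CycCov.chart,
      AdjoinRoot.lift_of]
    exact ro_app π h c
  · rw [RingHom.comp_apply, RingHom.comp_apply, bc_root, map_one, one_mul, CycCov.chart, AdjoinRoot.lift_root,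
      CycCov.chart, AdjoinRoot.lift_root]
    exact R.t_res U V h e (isGen_of_isFrame he) (isGen_of_isFrame (he.mono h))

variable [IsIntegral X] {W₀ : X.Opens}

/-- Functions on the cover over an affine open are torsion free. -/
theorem eq_zero_of_mul_eq_zero (hN : 0 < N) [IsReduced Y] (hd : Dense ((π ⁻¹ᵁ W₀ : Y.Opens) : Set Y))
    (hS : ∀ (U : X.affineOpens), U.1 ≤ W₀ →
      ∀ (e : L.val.obj (op U.1)) (he : CycCov.IsGen L U.1 e) (f : Γ(X, U.1))
        (hf : SecTwist.val s U.1 = f • CycCov.lpow L U.1 e N), Function.Bijective (CycCov.chart R U e he f hf))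
    {U : X.affineOpens} {e : Γ(L, U.1)} (he : IsFrame L U.1 e) {a : Γ(X, U.1)}
    (ha : SecTwist.val s U.1 = a • CycCov.lpow L U.1 e N) {g : Γ(X, U.1)} (hg : g ≠ 0)
    {c : Γ(Y, π ⁻¹ᵁ U.1)} (hc : π.app U.1 g * c = 0) : c = 0 := by
  apply eq_zero_of_basicOpen_eq_bot
  by_contra hne
  have hne' : (Y.basicOpen c : Set Y).Nonempty := by
    rw [Set.nonempty_iff_ne_empty]
    exact fun h => hne (Opens.ext h)
  obtain ⟨y, hy, hyW⟩ := hd.inter_open_nonempty _ (Y.basicOpen c).2 hne'
  have hyU : π y ∈ U.1 := Y.basicOpen_le c hy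
  obtain ⟨V, hV, hyV, hVle⟩ := exists_isAffineOpen_mem_and_subset (show π y ∈ U.1 ⊓ W₀ from ⟨hyU, hyW⟩)
  have hVU : V ≤ U.1 := hVle.trans inf_le_left
  haveI : Nonempty V := ⟨⟨_, hyV⟩⟩
  have hgV : ro hVU g ≠ 0 := fun h => hg
    (map_injective_of_isIntegral X (homOfLE hVU) (h.trans (map_zero _).symm))
  let φ := CycCov.chart R ⟨V, hV⟩ (rs L hVU e) (isGen_of_isFrame (he.mono hVU)) (ro hVU a) (val_restrict s ha hVU)
  have hbij : Function.Bijective φ := hS ⟨V, hV⟩ (hVle.trans inf_le_right) _ _ _ _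
  obtain ⟨b, hb⟩ := hbij.2 (ro (π.preimage_mono hVU) c)
  have h0 : AdjoinRoot.of _ (ro hVU g) * b = 0 := hbij.1 (by
    rw [map_mul, map_zero, hb, show φ (AdjoinRoot.of _ (ro hVU g)) = π.app V (ro hVU g) from AdjoinRoot.lift_of _,
      ← ro_app π hVU g, ← ro_mul, hc]
    exact map_zero _)
  have hb0 : b = 0 := ext_cf hN fun l hl => by
    rw [cf_zero]
    have h1 := congrArg (cf hN l) h0
    rw [cf_zero, eq_sum hN b, Finset.mul_sum] at h1
    simp only [← mul_assoc, ← map_mul] at h1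
    rw [cf_sum hN (fun i => ro hVU g * cf hN i b) hl] at h1
    exact (mul_eq_zero.1 h1).resolve_left hgV
  rw [hb0, map_zero] at hb
  have h2 : y ∈ Y.basicOpen (ro (π.preimage_mono hVU) c) := by
    rw [show Y.basicOpen (ro (π.preimage_mono hVU) c) = _ from Y.basicOpen_res c (homOfLE (π.preimage_mono hVU)).op]
    exact ⟨hyV, hy⟩
  rw [← hb, Scheme.basicOpen_zero] at h2
  exact h2

/-- Over every affine open with a frame the chart is injective and generically surjective. -/
theorem exists_generic (hN : 0 < N) (hR : CycCov.IsCover R) (U : X.affineOpens) [Nonempty U.1]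
    {e : Γ(L, U.1)} (he : IsFrame L U.1 e) {a : Γ(X, U.1)}
    (ha : SecTwist.val s U.1 = a • CycCov.lpow L U.1 e N) :
    (∀ g' : Γ(X, U.1), g' ≠ 0 → ∀ c, π.app U.1 g' * c = 0 → c = 0) ∧
      ∃ g : Γ(X, U.1), g ≠ 0 ∧
        (∀ c, ∃ (n : ℕ) (a' : Ring' N a), π.app U.1 g ^ n * c = CycCov.chart R U e (isGen_of_isFrame he) a ha a') ∧
          Function.Injective (CycCov.chart R U e (isGen_of_isFrame he) a ha) := by
  obtain ⟨hfin, hnor, W₀, hW₀, hd, hS⟩ := hR
  haveI : IsReduced Y := Groth.L25.Extend.isReduced_of_normal hnor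
  refine ⟨fun g' hg' c hc => eq_zero_of_mul_eq_zero R hN hd hS he ha hg' hc, ?_⟩
  obtain ⟨y, hyU, hyW⟩ := hW₀.inter_open_nonempty (U.1 : Set X) U.1.2
    (Set.nonempty_coe_sort.1 ‹Nonempty U.1›)
  obtain ⟨g, hgle, hyg⟩ := U.2.exists_basicOpen_le (V := U.1 ⊓ W₀) ⟨y, hyU, hyW⟩ hyU
  have hg : g ≠ 0 := by
    rintro rfl
    rw [Scheme.basicOpen_zero] at hyg
    exact hyg
  have hle : X.basicOpen g ≤ U.1 := X.basicOpen_le g
  let φ := CycCov.chart R U e (isGen_of_isFrame he) a ha
  let φg := CycCov.chart R ⟨X.basicOpen g, U.2.basicOpen g⟩ (rs L hle e) (isGen_of_isFrame (he.mono hle)) (ro hle a)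
    (val_restrict s ha hle)
  have hbij : Function.Bijective φg := hS ⟨X.basicOpen g, U.2.basicOpen g⟩ (hgle.trans inf_le_right) _ _ _ _
  have htors : ∀ c, π.app U.1 g * c = 0 → c = 0 := fun c hc => eq_zero_of_mul_eq_zero R hN hd hS he ha hg hc
  haveI : Nonempty (X.basicOpen g) := ⟨⟨y, hyg⟩⟩
  letI := (X.presheaf.map (homOfLE hle).op).hom.toAlgebra
  haveI : IsLocalization.Away g Γ(X, X.basicOpen g) := U.2.isLocalization_basicOpen g
  refine ⟨g, hg, fun c => ?_, ?_⟩
  · obtain ⟨b, hb⟩ := hbij.2 (ro (π.preimage_mono hle) c)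
    obtain ⟨n, a', ha'⟩ := bc_surjective_away (S := Γ(X, X.basicOpen g)) g (θ := a) (algebraMap_ro_eq hle) b
    refine ⟨n, a', sub_eq_zero.1 (htors _ ?_)⟩
    have h1 : ro (π.preimage_mono hle) (π.app U.1 g ^ n * c - φ a') = 0 := by
      refine (map_sub (Y.presheaf.map (homOfLE (π.preimage_mono hle)).op).hom _ _).trans (sub_eq_zero.2 ?_)
      refine ((map_mul (Y.presheaf.map (homOfLE (π.preimage_mono hle)).op).hom _ _).trans
        (congrArg (· * ro (π.preimage_mono hle) c)
          ((map_pow (Y.presheaf.map (homOfLE (π.preimage_mono hle)).op).hom _ _).trans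
            (congrArg (· ^ n) (ro_app π hle g))))).trans ?_
      show π.app (X.basicOpen g) (ro hle g) ^ n * ro (π.preimage_mono hle) c = ro (π.preimage_mono hle) (φ a')
      rw [chart_res R (V := ⟨X.basicOpen g, U.2.basicOpen g⟩) hle he ha a']
      refine Eq.trans ?_ (congrArg φg ha')
      rw [map_mul, map_pow, hb]
      congr 2
      exact (AdjoinRoot.lift_of _).symm
    apply eq_zero_of_basicOpen_eq_bot
    rw [Scheme.basicOpen_mul, ← Scheme.preimage_basicOpen, ← Scheme.basicOpen_res _ _ (homOfLE (π.preimage_mono hle)).op]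
    rw [show Y.presheaf.map (homOfLE (π.preimage_mono hle)).op (π.app U.1 g ^ n * c - φ a') = 0 from h1,
      Scheme.basicOpen_zero]
  · rw [injective_iff_map_eq_zero]
    intro b hb
    refine ext_cf hN fun l hl => ?_
    have h1 := chart_res R (V := ⟨X.basicOpen g, U.2.basicOpen g⟩) hle he ha b
    rw [show CycCov.chart R U e (isGen_of_isFrame he) a ha b = 0 from hb] at h1
    replace h1 := (map_zero (Y.presheaf.map (homOfLE (π.preimage_mono hle)).op).hom).symm.trans h1
    have h2 := congrArg (cf hN l) (hbij.1 (h1.symm.trans (map_zero φg).symm))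
    rw [cf_bc hN _ _ _ _ hl, one_pow, mul_one, cf_zero] at h2
    rw [cf_zero]
    exact map_injective_of_isIntegral X (homOfLE hle) (h2.trans (map_zero _).symm)


/-- Off the branch locus the chart is bijective. -/
theorem chart_bijective {k : Type u} [Field k] [IsAlgClosed k] (f : X ⟶ Spec (CommRingCat.of k)) [Smooth f]
    (hN : 0 < N) (hNk : (N : k) ≠ 0) (hR : CycCov.IsCover R) (U : X.affineOpens) [Nonempty U.1]
    {e : Γ(L, U.1)} (he : IsFrame L U.1 e) {a : Γ(X, U.1)}
    (ha : SecTwist.val s U.1 = a • CycCov.lpow L U.1 e N) (hau : IsUnit a) :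
    IsUnit (N : Γ(X, U.1)) ∧ Function.Bijective (CycCov.chart R U e (isGen_of_isFrame he) a ha) := by
  obtain ⟨htors, g, hg, hloc, hinj⟩ := exists_generic R hN hR U he ha
  haveI := hR.1
  haveI : Nonempty U.1.toScheme := ‹_›
  haveI : IsIntegrallyClosed Γ(X, U.1) := isIntegrallyClosed_of_smooth f U.1
  let κ : k →+* Γ(X, U.1) :=
    ((Scheme.ΓSpecIso (CommRingCat.of k)).inv ≫ f.appLE ⊤ U.1 le_top).hom
  have hNu : IsUnit (N : Γ(X, U.1)) := by
    rw [← map_natCast κ]
    exact (IsUnit.mk0 _ hNk).map κ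
  refine ⟨hNu, ?_⟩
  haveI : NeZero (N : k) := ⟨hNk⟩
  obtain ⟨ζ, hζ⟩ := HasEnoughRootsOfUnity.exists_primitiveRoot k N
  exact bijective_of_generic hN hau hNu (hζ.map_of_injective κ.injective) (π.app U.1).hom
    (RingHom.Finite.to_isIntegral (π.finite_app U.1 U.2)) (CycCov.chart R U e (isGen_of_isFrame he) a ha)
    (fun b => AdjoinRoot.lift_of _) hg (fun c hc => htors g hg c hc) hloc hinj

end Groth.L16.CycCov
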