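import Groth.Agent.L16.CycCov.Root
import Groth.Agent.L16.CycCov.Model
import Mathlib.Algebra.Ring.Subring.Basic

/-!
# The local model is the normalisation
-/

set_option autoImplicit false
set_option linter.style.haveILetI false

universe u

open Polynomial

noncomputable section

namespace Groth.L16.CycCov

open Groth.L02.CycCover

variable {k B C : Type u} [Field k] [CommRing B] [CommRing C] [Algebra k B] {N d n m α b c : ℕ} {a u x : B}

theorem cancel_pow {C : Type u} [CommRing C] {s : C} (hs : ∀ z, s * z = 0 → z = 0) :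
    ∀ (i : ℕ) {y z : C}, s ^ i * y = s ^ i * z → y = z := by
  intro i
  induction i with
  | zero => intro y z h; simpa using h
  | succ i ih =>
    intro y z h
    rw [pow_succ, mul_assoc, mul_assoc] at h
    exact sub_eq_zero.1 (hs _ (by rw [mul_sub, ih h, sub_self]))

theorem model_iso [IsDomain B] [Algebra.Smooth k B] (hd : 0 < d) (hn : 0 < n) (hN : N = d * n) (hα : α = d * m)
    (hbc : b * m = 1 + c * n) (hdn : IsUnit ((d * n : ℕ) : B)) (hu : IsUnit u) (ha : a = u * x ^ α) (hx : x ≠ 0)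
    (δ : Derivation k B B) (hδ : δ x = 1)
    (hC : EGA4.IsNormalRing C) (ψ : B →+* C) (hψ : ψ.IsIntegral)
    (χ : Ring' N a →+* C) (hχ : ∀ r, χ (AdjoinRoot.of _ r) = ψ r) (hinj : Function.Injective χ)
    (htors : ∀ g ≠ 0, ∀ y, ψ g * y = 0 → y = 0) {g : B} (hg : g ≠ 0)
    (hloc : ∀ y, ∃ (i : ℕ) (r : Ring' N a), ψ g ^ i * y = χ r) :
    ∃ φ : Model d n u x b →+* C, Function.Bijective φ ∧ ∀ r, φ (ofB d n u x b r) = ψ r := by
  have hNpos : 0 < N := hN ▸ Nat.mul_pos hd hn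
  haveI : Algebra.Smooth k (Model d n u x b) := model_smooth hd hn hdn hu δ hδ b
  have hAn : EGA4.IsNormalRing (Model d n u x b) :=
    Groth.L19.SmoothNormal.isNormalRing_of_smooth k _ (fun p _ => ⟨inferInstance, inferInstance⟩)
  haveI := free_ring' hn (coefV d u b * AdjoinRoot.of (pol d u) x)
  -- `ofB r` is regular on the model for `r ≠ 0`
  have hreg : ∀ r ≠ (0 : B), ∀ z : Model d n u x b, ofB d n u x b r * z = 0 → z = 0 := fun r hr z hz => by
    refine ext_cf hn fun i hi => ?_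
    have h1 := congrArg (cf hn i) hz
    rw [cf_zero, eq_sum hn z, Finset.mul_sum] at h1
    simp only [ofB, RingHom.comp_apply, ← mul_assoc, ← map_mul] at h1
    rw [cf_sum hn (fun i => AdjoinRoot.of (pol d u) r * cf hn i z) hi] at h1
    rw [cf_zero]
    refine ext_cf hd fun j hj => ?_
    have h2 := congrArg (cf hd j) h1
    rw [cf_zero, eq_sum hd (cf hn i z), Finset.mul_sum] at h2
    simp only [← mul_assoc, ← map_mul] at h2
    rw [cf_sum hd (fun j => r * cf hd j (cf hn i z)) hj] at h2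
    rw [cf_zero]
    exact (mul_eq_zero.1 h2).resolve_left hr
  let t := χ (AdjoinRoot.root _)
  have ht : t ^ N = ψ u * ψ x ^ α := by
    rw [← map_pow χ, root_pow, hχ, ha, map_mul, map_pow]
  have hψx : ∀ y, ψ x * y = 0 → y = 0 := htors x hx
  have hψxp : ∀ i y, ψ x ^ i * y = 0 → y = 0 := fun i y h => cancel_pow hψx i (by rw [h, mul_zero])
  obtain ⟨z, hzt, hz⟩ := dvd_of_pow_eq hC (hψxp m) hd (show (t ^ n) ^ d = (ψ x ^ m) ^ d * ψ u by
    rw [← pow_mul, mul_comm n d, ← hN, ht, hα, ← pow_mul, mul_comm d m, mul_comm])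
  obtain ⟨w, hwt, hw⟩ := dvd_of_pow_eq hC (hψxp c) hn (show (t ^ b) ^ n = (ψ x ^ c) ^ n * (z ^ b * ψ x) by
    rw [← pow_mul, mul_comm b n, pow_mul, ← hzt, mul_pow, ← pow_mul, mul_comm m b, hbc, pow_add, pow_one,
      ← pow_mul]
    ring)
  let φ₁ : Ring' d u →+* C := AdjoinRoot.lift ψ z (by rw [eval₂_sub, eval₂_X_pow, eval₂_C, hz, sub_self])
  let φ : Model d n u x b →+* C := AdjoinRoot.lift φ₁ w (by
    rw [eval₂_sub, eval₂_X_pow, eval₂_C, map_mul, map_pow, AdjoinRoot.lift_root, AdjoinRoot.lift_of, hw, sub_self])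
  have hφB : ∀ r, φ (ofB d n u x b r) = ψ r := fun r => by
    rw [RingHom.comp_apply, AdjoinRoot.lift_of, AdjoinRoot.lift_of]
  refine ⟨φ, ?_, hφB⟩
  -- the chart factors through the model
  let τ : Model d n u x b := AdjoinRoot.of _ (AdjoinRoot.root (pol d u))
  let σ : Model d n u x b := AdjoinRoot.root _
  let xA : Model d n u x b := ofB d n u x b x
  have hτd : τ ^ d = ofB d n u x b u := by rw [← map_pow, root_pow]; rfl
  have hσn : σ ^ n = τ ^ b * xA := by
    rw [root_pow, map_mul, map_pow]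
    rfl
  obtain ⟨τ', hτ'⟩ := ((isUnit_root hd hu).map (AdjoinRoot.of (pol n (coefV d u b * AdjoinRoot.of _ x)))).exists_left_inv
  let T : Model d n u x b := σ ^ m * τ' ^ c
  have hττ' : ∀ i : ℕ, τ' ^ i * τ ^ i = 1 := fun i => by rw [← mul_pow, hτ', one_pow]
  have hT : T ^ N = ofB d n u x b a := by
    rw [ha, map_mul, map_pow, ← hτd, hN, hα]
    calc (σ ^ m * τ' ^ c) ^ (d * n) = (σ ^ n) ^ (m * d) * τ' ^ (c * n * d) := by ring
      _ = τ ^ (b * m * d) * xA ^ (m * d) * τ' ^ (c * n * d) := by rw [hσn]; ring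
      _ = τ ^ d * xA ^ (d * m) * (τ' ^ (c * n * d) * τ ^ (c * n * d)) := by rw [hbc]; ring
      _ = τ ^ d * xA ^ (d * m) := by rw [hττ', mul_one]
  let ρ : Ring' N a →+* Model d n u x b := AdjoinRoot.lift (ofB d n u x b) T (by
    rw [eval₂_sub, eval₂_X_pow, eval₂_C, hT, sub_self])
  have hρB : ∀ r, ρ (AdjoinRoot.of _ r) = ofB d n u x b r := fun r => AdjoinRoot.lift_of _
  have hρT : ρ (AdjoinRoot.root _) = T := AdjoinRoot.lift_root _
  have hφT : φ T = t := by
    have hφτ : φ τ = z := by rw [AdjoinRoot.lift_of, AdjoinRoot.lift_root]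
    have hφσ : φ σ = w := AdjoinRoot.lift_root _
    refine cancel_pow hψx (c * m) ?_
    rw [map_mul, map_pow, map_pow, hφσ]
    have h1 : φ τ' ^ c * z ^ c = 1 := by rw [← hφτ, ← map_pow, ← map_pow, ← map_mul, hττ', map_one]
    calc ψ x ^ (c * m) * (w ^ m * φ τ' ^ c) = (ψ x ^ c * w) ^ m * φ τ' ^ c := by ring
      _ = t * (t ^ n) ^ c * φ τ' ^ c := by rw [hwt, ← pow_mul, hbc]; ring
      _ = ψ x ^ (c * m) * t * (φ τ' ^ c * z ^ c) := by rw [← hzt]; ring
      _ = ψ x ^ (c * m) * t := by rw [h1, mul_one]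
  have hφρ : ∀ r, φ (ρ r) = χ r := fun r => by
    refine RingHom.congr_fun (hom_ext' (φ := φ.comp ρ) (ψ := χ) (fun s => ?_) ?_) r
    · rw [RingHom.comp_apply, hρB, hφB, hχ]
    · rw [RingHom.comp_apply, hρT, hφT]
  -- the model is the image of the chart up to powers of `x`
  let S : Subring (Model d n u x b) :=
    { carrier := {z | ∃ (i : ℕ) (r : Ring' N a), xA ^ i * z = ρ r}
      one_mem' := ⟨0, 1, by simp⟩
      zero_mem' := ⟨0, 0, by simp⟩
      mul_mem' := by
        rintro y z ⟨i, r, hr⟩ ⟨j, s, hs⟩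
        exact ⟨i + j, r * s, by rw [map_mul, ← hr, ← hs]; ring⟩
      add_mem' := by
        rintro y z ⟨i, r, hr⟩ ⟨j, s, hs⟩
        exact ⟨i + j, AdjoinRoot.of _ x ^ j * r + AdjoinRoot.of _ x ^ i * s, by
          rw [map_add, map_mul, map_mul, map_pow, map_pow, hρB, ← hr, ← hs]; ring⟩
      neg_mem' := by
        rintro y ⟨i, r, hr⟩
        exact ⟨i, -r, by rw [map_neg, ← hr]; ring⟩ }
  have hBS : ∀ r, ofB d n u x b r ∈ S := fun r => ⟨0, AdjoinRoot.of _ r, by rw [hρB, pow_zero, one_mul]⟩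
  have hτS : τ ∈ S := ⟨m, AdjoinRoot.root _ ^ n, by
    rw [map_pow, hρT]
    calc xA ^ m * τ = xA ^ m * τ * (τ' ^ (c * n) * τ ^ (c * n)) := by rw [hττ', mul_one]
      _ = (τ ^ b * xA) ^ m * τ' ^ (c * n) := by rw [mul_pow, ← pow_mul, hbc]; ring
      _ = (σ ^ m * τ' ^ c) ^ n := by rw [← hσn]; ring⟩
  have hσS : σ ∈ S := ⟨c, AdjoinRoot.root _ ^ b, by
    rw [map_pow, hρT]
    calc xA ^ c * σ = xA ^ c * σ * (τ' ^ (c * b) * τ ^ (c * b)) := by rw [hττ', mul_one]
      _ = σ * (τ ^ b * xA) ^ c * τ' ^ (c * b) := by ring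
      _ = σ * (σ ^ n) ^ c * τ' ^ (c * b) := by rw [hσn]
      _ = σ ^ (b * m) * τ' ^ (c * b) := by rw [hbc]; ring
      _ = (σ ^ m * τ' ^ c) ^ b := by ring⟩
  have hall : ∀ y, y ∈ S := fun y => by
    rw [eq_sum hn y]
    refine Subring.sum_mem S fun i _ => Subring.mul_mem S ?_ (Subring.pow_mem S hσS i)
    rw [eq_sum hd (cf hn i y), map_sum]
    refine Subring.sum_mem S fun j _ => ?_
    rw [map_mul, map_pow]
    exact Subring.mul_mem S (hBS _) (Subring.pow_mem S hτS j)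
  have hφinj : Function.Injective φ := (injective_iff_map_eq_zero φ).2 fun y hy => by
    obtain ⟨i, r, hr⟩ := hall y
    have h1 : χ r = 0 := by rw [← hφρ, ← hr, map_mul, hy, mul_zero]
    rw [hinj (h1.trans (map_zero χ).symm), map_zero] at hr
    exact cancel_pow (hreg x hx) i (hr.trans (mul_zero _).symm)
  refine ⟨hφinj, fun y => ?_⟩
  obtain ⟨i, r, hr⟩ := hloc y
  obtain ⟨P, hP, hPy⟩ := hψ y
  rcases subsingleton_or_nontrivial (Model d n u x b) with h' | h'
  · exact ⟨0, by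
      rw [map_zero, ← one_mul y, ← map_one φ, Subsingleton.elim (1 : Model d n u x b) 0, map_zero, zero_mul]⟩
  have h1 : eval₂ (ofB d n u x b) (ρ r) (scaleRoots P (g ^ i)) = 0 := hφinj (by
    rw [hom_eval₂, map_zero, show φ.comp (ofB d n u x b) = ψ from RingHom.ext hφB, hφρ, ← hr, ← map_pow]
    exact scaleRoots_eval₂_eq_zero ψ hPy)
  obtain ⟨y', hy'⟩ := dvd_of_scaleRoots hAn (fun z hz => cancel_pow (hreg g hg) i (y := z) (z := 0) (by
      rw [mul_zero, ← map_pow]; exact hz))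
    (hP.map (ofB d n u x b)) (s := ofB d n u x b (g ^ i)) (a := ρ r) (by
      rw [← Polynomial.map_scaleRoots _ _ _ (by rw [hP.leadingCoeff, map_one]; exact one_ne_zero), eval_map]
      exact h1)
  refine ⟨y', cancel_pow (htors g hg) i ?_⟩
  rw [hr, ← hφρ, hy', map_mul, hφB, map_pow]

end Groth.L16.CycCov
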