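import Groth.Agent.L16.CycCov.Model
import Groth.Agent.L24.Boot.Coords
import Mathlib.Algebra.MvPolynomial.PDeriv
import Mathlib.RingTheory.TensorProduct.Maps
import Mathlib.RingTheory.Ideal.Maps

/-!
# Étale coordinates on the local model
-/

set_option autoImplicit false
set_option linter.style.haveILetI false

universe u

open Polynomial TensorProduct

noncomputable section

namespace Groth.L16.CycCov

open Groth.L02.CycCover

/-- Adjoining a root commutes with étale base change. -/
theorem etale_bc {R S : Type u} [CommRing R] [CommRing S] [Algebra R S] [Algebra.Etale R S] {n : ℕ} {θ : R} {θ' : S}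
    (h : algebraMap R S θ = 1 ^ n * θ') : (bc (algebraMap R S) 1 h).Etale := by
  letI : Algebra (Ring' n θ) (Ring' n θ') := (bc (algebraMap R S) 1 h).toAlgebra
  haveI : IsScalarTower R (Ring' n θ) (Ring' n θ') := IsScalarTower.of_algebraMap_eq fun r => (bc_of _ _ h r).symm
  let fwd : Ring' n θ ⊗[R] S →ₐ[Ring' n θ] Ring' n θ' :=
    Algebra.TensorProduct.lift (Algebra.ofId _ _) (IsScalarTower.toAlgHom R S (Ring' n θ')) (fun _ _ => .all ..)
  let inv : Ring' n θ' →+* Ring' n θ ⊗[R] S :=
    AdjoinRoot.lift Algebra.TensorProduct.includeRight.toRingHom (AdjoinRoot.root (pol n θ) ⊗ₜ 1) (by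
      rw [eval₂_sub, eval₂_X_pow, eval₂_C, Algebra.TensorProduct.tmul_pow, one_pow, root_pow,
        show θ' = algebraMap R S θ by rw [h, one_pow, one_mul]]
      show (algebraMap R (Ring' n θ) θ) ⊗ₜ[R] (1 : S) - (1 : Ring' n θ) ⊗ₜ[R] algebraMap R S θ = 0
      rw [Algebra.algebraMap_eq_smul_one, Algebra.algebraMap_eq_smul_one, smul_tmul, sub_self])
  have hfb : ∀ a : Ring' n θ, fwd (a ⊗ₜ 1) = bc (algebraMap R S) 1 h a := fun a => by
    show bc (algebraMap R S) 1 h a * algebraMap S (Ring' n θ') 1 = _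
    rw [map_one, mul_one]
  have h1 : ∀ z, fwd (inv z) = z := fun z => by
    refine RingHom.congr_fun (hom_ext' (φ := fwd.toRingHom.comp inv) (ψ := RingHom.id _) (fun s => ?_) ?_) z
    · show fwd (inv (AdjoinRoot.of _ s)) = AdjoinRoot.of _ s
      rw [AdjoinRoot.lift_of]
      show bc (algebraMap R S) 1 h 1 * algebraMap S (Ring' n θ') s = _
      rw [map_one, one_mul]
      rfl
    · show fwd (inv (AdjoinRoot.root _)) = AdjoinRoot.root _
      rw [AdjoinRoot.lift_root, hfb, bc_root, map_one, one_mul]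
  have h2 : ∀ t, inv (fwd t) = t := fun t => by
    induction t using TensorProduct.induction_on with
    | zero => rw [map_zero, map_zero]
    | add x y hx hy => rw [map_add, map_add, hx, hy]
    | tmul a s =>
      have ha : inv (bc (algebraMap R S) 1 h a) = a ⊗ₜ 1 :=
        RingHom.congr_fun (hom_ext' (φ := inv.comp (bc (algebraMap R S) 1 h))
          (ψ := Algebra.TensorProduct.includeLeftRingHom) (fun r => by
            show inv (bc (algebraMap R S) 1 h (AdjoinRoot.of _ r)) = AdjoinRoot.of _ r ⊗ₜ[R] (1 : S)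
            rw [bc_of, AdjoinRoot.lift_of]
            show (1 : Ring' n θ) ⊗ₜ[R] algebraMap R S r = (algebraMap R (Ring' n θ) r) ⊗ₜ[R] (1 : S)
            rw [Algebra.algebraMap_eq_smul_one, Algebra.algebraMap_eq_smul_one, smul_tmul]) (by
            show inv (bc (algebraMap R S) 1 h (AdjoinRoot.root _)) = AdjoinRoot.root _ ⊗ₜ[R] (1 : S)
            rw [bc_root, map_mul, map_one, map_one, one_mul, AdjoinRoot.lift_root])) a
      show inv (bc (algebraMap R S) 1 h a * algebraMap S (Ring' n θ') s) = _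
      rw [map_mul, ha, show inv (algebraMap S (Ring' n θ') s) = (1 : Ring' n θ) ⊗ₜ[R] s from AdjoinRoot.lift_of _,
        Algebra.TensorProduct.tmul_mul_tmul, mul_one, one_mul]
  show Algebra.Etale (Ring' n θ) (Ring' n θ')
  exact Algebra.Etale.of_equiv (AlgEquiv.ofBijective fwd
    ⟨Function.LeftInverse.injective h2, Function.RightInverse.surjective h1⟩)

variable {k : Type u} [Field k] {σ : Type u}

/-- `k[x][T]/(T^n - x_e)` is again a polynomial ring. -/
theorem exists_polyEquiv [DecidableEq σ] {n : ℕ} (e : σ) :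
    ∃ E : MvPolynomial σ k →+* Ring' n (MvPolynomial.X e : MvPolynomial σ k), Function.Bijective E ∧
      (∀ c, E (MvPolynomial.C c) = AdjoinRoot.of _ (MvPolynomial.C c)) ∧
      (∀ i, E (MvPolynomial.X i) = if i = e then AdjoinRoot.root _ else AdjoinRoot.of _ (MvPolynomial.X i)) := by
  let P := MvPolynomial σ k
  let E : P →+* Ring' n (MvPolynomial.X e : P) :=
    MvPolynomial.eval₂Hom ((AdjoinRoot.of _).comp MvPolynomial.C)
      (fun i => if i = e then AdjoinRoot.root _ else AdjoinRoot.of _ (MvPolynomial.X i))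
  let sub : P →+* P :=
    MvPolynomial.eval₂Hom MvPolynomial.C (fun i => if i = e then MvPolynomial.X e ^ n else MvPolynomial.X i)
  let F : Ring' n (MvPolynomial.X e : P) →+* P := AdjoinRoot.lift sub (MvPolynomial.X e) (by
    rw [eval₂_sub, eval₂_X_pow, eval₂_C]
    simp [sub])
  have hEC : ∀ c, E (MvPolynomial.C c) = AdjoinRoot.of _ (MvPolynomial.C c) := fun c => MvPolynomial.eval₂Hom_C _ _ _
  have hEX : ∀ i, E (MvPolynomial.X i) = if i = e then AdjoinRoot.root _ else AdjoinRoot.of _ (MvPolynomial.X i) :=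
    fun i => MvPolynomial.eval₂Hom_X' _ _ _
  have h1 : ∀ p, F (E p) = p := fun p => by
    refine RingHom.congr_fun (MvPolynomial.ringHom_ext (f := F.comp E) (g := RingHom.id _) (fun c => ?_) fun i => ?_) p
    · rw [RingHom.comp_apply, hEC, AdjoinRoot.lift_of]; simp [sub]
    · rw [RingHom.comp_apply, hEX, apply_ite F, AdjoinRoot.lift_root, AdjoinRoot.lift_of]
      split_ifs with h
      · rw [h]; rfl
      · simp [sub, h]
  have h2 : ∀ z, E (F z) = z := fun z => by
    refine RingHom.congr_fun (hom_ext' (φ := E.comp F) (ψ := RingHom.id _) (fun p => ?_) ?_) z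
    · rw [RingHom.comp_apply, AdjoinRoot.lift_of, RingHom.id_apply]
      refine RingHom.congr_fun (MvPolynomial.ringHom_ext (f := E.comp sub) (g := AdjoinRoot.of _) (fun c => ?_) fun i => ?_) p
      · simp [sub, hEC]
      · simp only [RingHom.comp_apply, sub, MvPolynomial.eval₂Hom_X', apply_ite E, map_pow, hEX]
        split_ifs with h
        · rw [h, root_pow]
        · rfl
    · rw [RingHom.comp_apply, AdjoinRoot.lift_root, hEX, if_pos rfl, RingHom.id_apply]
  exact ⟨E, ⟨Function.LeftInverse.injective h1, Function.RightInverse.surjective h2⟩, hEC, hEX⟩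

variable {B : Type u} [CommRing B] [Algebra k B] [Algebra (MvPolynomial σ k) B]
  [IsScalarTower k (MvPolynomial σ k) B]

/-- Étale coordinates on the model near the ramification divisor. -/
theorem exists_coords_model [Fintype σ] [DecidableEq σ] [Algebra.Etale (MvPolynomial σ k) B] {d n : ℕ} (hd : 0 < d)
    (hn : 0 < n) (hdu : IsUnit (d : B)) {u : B} (hu : IsUnit u) (b : ℕ) (e : σ) {g : B}
    (hg : algebraMap (MvPolynomial σ k) B (MvPolynomial.X e) = g) :
    ∃ h : Model d n u g b, (∀ q : Ideal (Model d n u g b), q.IsPrime → AdjoinRoot.root _ ∈ q → h ∉ q) ∧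
      ∃ ψ : MvPolynomial σ k →+* Localization.Away h, ψ.Etale ∧
        (∀ c, ψ (MvPolynomial.C c) = algebraMap _ _ (ofB d n u g b (algebraMap k B c))) ∧
        (∀ i, ψ (MvPolynomial.X i) = algebraMap _ _ (if i = e then AdjoinRoot.root _
          else ofB d n u g b (algebraMap (MvPolynomial σ k) B (MvPolynomial.X i)))) := by
  classical
  let P := MvPolynomial σ k
  haveI := etale_ring' hd hu hdu
  haveI : Algebra.Etale P (Ring' d u) := Algebra.Etale.comp P B (Ring' d u)
  haveI : Algebra.Etale k k := inferInstance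
  obtain ⟨δ, hδ⟩ := exists_derivation_etale (k := k) (B' := Ring' d u) (MvPolynomial.pderiv e)
  let v : Ring' d u := coefV d u b
  let g₁ : Ring' d u := AdjoinRoot.of (pol d u) g
  have hg₁ : algebraMap P (Ring' d u) (MvPolynomial.X e) = g₁ := by
    rw [IsScalarTower.algebraMap_apply P B (Ring' d u), hg]; rfl
  let h₁ : Ring' d u := v + g₁ * δ v
  let B₂ := Localization.Away h₁
  haveI : Algebra.Etale (Ring' d u) B₂ := Algebra.Etale.of_isLocalizationAway h₁
  haveI : Algebra.Etale P B₂ := Algebra.Etale.comp P (Ring' d u) B₂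
  haveI : Algebra.Smooth k P := ⟨inferInstance, inferInstance⟩
  haveI : Algebra.Smooth P B₂ := ⟨inferInstance, inferInstance⟩
  haveI : Algebra.Smooth k B₂ := Algebra.Smooth.comp k P B₂
  let a : σ → B₂ := fun i => if i = e then algebraMap (Ring' d u) B₂ (v * g₁) else algebraMap P B₂ (MvPolynomial.X i)
  let b₀ : Module.Basis σ B₂ Ω[B₂⁄k] :=
    ((KaehlerDifferential.mvPolynomialBasis k σ).baseChange B₂).map
      (KaehlerDifferential.tensorKaehlerEquivOfFormallyEtale k P B₂)
  have hb₀ : ∀ i, b₀ i = KaehlerDifferential.D k B₂ (algebraMap P B₂ (MvPolynomial.X i)) := fun i => by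
    rw [Module.Basis.map_apply, Module.Basis.baseChange_apply, KaehlerDifferential.mvPolynomialBasis_apply]
    show KaehlerDifferential.mapBaseChange k P B₂ _ = _
    rw [KaehlerDifferential.mapBaseChange_tmul, one_smul, KaehlerDifferential.map_D]
  obtain ⟨δ₂, hδ₂⟩ := exists_derivation_etale (k := k) (B' := B₂) δ
  have hcoord : ∀ x : B₂, b₀.repr (KaehlerDifferential.D k B₂ x) e = δ₂ x := fun x => by
    have hl : (b₀.coord e) = δ₂.liftKaehlerDifferential := b₀.ext fun i => by
      rw [Module.Basis.coord_apply, b₀.repr_self, hb₀, Derivation.liftKaehlerDifferential_comp_D,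
        IsScalarTower.algebraMap_apply P (Ring' d u) B₂, hδ₂, hδ, MvPolynomial.pderiv_X]
      by_cases hie : i = e
      · subst hie; simp
      · simp [hie, Ne.symm hie]
    rw [← Module.Basis.coord_apply, hl, Derivation.liftKaehlerDifferential_comp_D]
  let T : σ → Ω[B₂⁄k] := fun i => KaehlerDifferential.D k B₂ (a i)
  have hTe : δ₂ (a e) = algebraMap (Ring' d u) B₂ h₁ := by
    simp only [a, if_pos]
    rw [hδ₂, Derivation.leibniz, ← hg₁, hδ, MvPolynomial.pderiv_X_self, map_one, hg₁, smul_eq_mul, smul_eq_mul, mul_one]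
  have hTi : ∀ i, i ≠ e → T i = b₀ i := fun i hi => by simp only [T, a, if_neg hi, hb₀]
  have hu₁ : IsUnit (algebraMap (Ring' d u) B₂ h₁) := IsLocalization.Away.algebraMap_isUnit h₁
  obtain ⟨w, hw⟩ := hu₁
  have hsum : T e = algebraMap (Ring' d u) B₂ h₁ • b₀ e + ∑ i ∈ Finset.univ.erase e, b₀.repr (T e) i • T i := by
    conv_lhs => rw [← b₀.sum_repr (T e), ← Finset.add_sum_erase _ _ (Finset.mem_univ e)]
    rw [show b₀.repr (T e) e = algebraMap (Ring' d u) B₂ h₁ from (hcoord _).trans hTe]
    refine congrArg₂ (· + ·) rfl (Finset.sum_congr rfl fun i hi => ?_)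
    rw [hTi i (Finset.ne_of_mem_erase hi)]
  have hspan : Submodule.span B₂ (Set.range T) = ⊤ := by
    rw [eq_top_iff, ← b₀.span_eq, Submodule.span_le]
    rintro _ ⟨i, rfl⟩
    by_cases hi : i = e
    · subst hi
      have hmem : algebraMap (Ring' d u) B₂ h₁ • b₀ i ∈ Submodule.span B₂ (Set.range T) := by
        rw [eq_sub_of_add_eq hsum.symm]
        exact Submodule.sub_mem _ (Submodule.subset_span ⟨i, rfl⟩)
          (Submodule.sum_mem _ fun l _ => Submodule.smul_mem _ _ (Submodule.subset_span ⟨l, rfl⟩))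
      rw [← hw] at hmem
      have := Submodule.smul_mem _ (↑w⁻¹ : B₂) hmem
      rwa [smul_smul, Units.inv_mul, one_smul] at this
    · exact Submodule.subset_span ⟨i, hTi i hi⟩
  let f : Ω[B₂⁄k] →ₗ[B₂] Ω[B₂⁄k] := b₀.constr B₂ T
  have hfs : Function.Surjective f := by
    rw [← LinearMap.range_eq_top, Module.Basis.constr_range]; exact hspan
  haveI : Module.Finite B₂ Ω[B₂⁄k] := Module.Finite.of_basis b₀
  let b₁ : Module.Basis σ B₂ Ω[B₂⁄k] := b₀.map
    (LinearEquiv.ofBijective f (OrzechProperty.bijective_of_surjective_endomorphism f hfs))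
  have hb₁ : ∀ i, b₁ i = KaehlerDifferential.D k B₂ (a i) := fun i => by
    rw [Module.Basis.map_apply, LinearEquiv.ofBijective_apply, Module.Basis.constr_basis]
  have hét := Groth.L24.Boot.etale_of_basis_differentials (A := k) a b₁ hb₁
  have haX : ∀ i, i ≠ e → a i = algebraMap (Ring' d u) B₂ (AdjoinRoot.of (pol d u) (algebraMap P B (MvPolynomial.X i))) :=
    fun i hi => by
      simp only [a, if_neg hi]
      rw [IsScalarTower.algebraMap_apply P (Ring' d u) B₂, IsScalarTower.algebraMap_apply P B (Ring' d u)]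
      rfl
  -- base change along `T ↦ T^n`
  obtain ⟨E, hE, hEC, hEX⟩ := exists_polyEquiv (k := k) (n := n) e
  let ψ₀ : P →+* B₂ := (MvPolynomial.aeval a : P →ₐ[k] B₂).toRingHom
  letI algP : Algebra P B₂ := ψ₀.toAlgebra
  haveI : Algebra.Etale P B₂ := hét
  let w₂ : B₂ := algebraMap (Ring' d u) B₂ (v * g₁)
  have hψ : ψ₀ (MvPolynomial.X e) = w₂ := by
    show MvPolynomial.aeval a (MvPolynomial.X e) = _
    rw [MvPolynomial.aeval_X]; simp [a, w₂]
  have hh : ψ₀ (MvPolynomial.X e) = 1 ^ n * w₂ := by rw [hψ, one_pow, one_mul]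
  have hbc : (bc ψ₀ 1 hh).Etale := etale_bc (R := P) (S := B₂) hh
  let h : Model d n u g b := AdjoinRoot.of _ h₁
  let Away' := Localization.Away h
  have hunit : IsUnit (((algebraMap (Model d n u g b) Away').comp (AdjoinRoot.of _)) h₁) :=
    IsLocalization.Away.algebraMap_isUnit h
  let j : B₂ →+* Away' := IsLocalization.Away.lift h₁ hunit
  have hj : ∀ z : Ring' d u, j (algebraMap (Ring' d u) B₂ z) = algebraMap (Model d n u g b) Away' (AdjoinRoot.of _ z) := fun z => IsLocalization.Away.lift_eq _ _ _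
  let toA : Ring' n w₂ →+* Away' :=
    AdjoinRoot.lift j (algebraMap (Model d n u g b) Away' (AdjoinRoot.root (pol n (coefV d u b * g₁)))) (by
    rw [eval₂_sub, eval₂_X_pow, eval₂_C, hj, ← map_pow, root_pow, sub_self])
  let fro₀ : Model d n u g b →+* Ring' n w₂ :=
    bc (algebraMap (Ring' d u) B₂) 1 (show algebraMap (Ring' d u) B₂ _ = 1 ^ n * w₂ by rw [one_pow, one_mul])
  have hfu : IsUnit (fro₀ h) := by
    rw [show fro₀ h = AdjoinRoot.of _ (algebraMap (Ring' d u) B₂ h₁) from bc_of _ _ _ _]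
    exact (IsLocalization.Away.algebraMap_isUnit h₁).map _
  let fro : Away' →+* Ring' n w₂ := IsLocalization.Away.lift h hfu
  have hfro : ∀ z : Model d n u g b, fro (algebraMap (Model d n u g b) Away' z) = fro₀ z := fun z => IsLocalization.Away.lift_eq _ _ _
  have e1 : ∀ z, fro (toA z) = z := fun z => by
    refine RingHom.congr_fun (hom_ext' (φ := fro.comp toA) (ψ := RingHom.id _) (fun t => ?_) ?_) z
    · rw [RingHom.comp_apply, AdjoinRoot.lift_of, RingHom.id_apply]
      refine RingHom.congr_fun (IsLocalization.ringHom_ext (Submonoid.powers h₁) (S := B₂) (j := fro.comp j)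
        (k := AdjoinRoot.of (pol n w₂)) (RingHom.ext fun s => ?_)) t
      rw [RingHom.comp_apply, RingHom.comp_apply, RingHom.comp_apply, hj, hfro]
      exact bc_of _ _ _ _
    · rw [RingHom.comp_apply, AdjoinRoot.lift_root, hfro, RingHom.id_apply]
      show bc _ _ _ _ = _
      rw [bc_root, map_one, one_mul]
  have e2 : ∀ z, toA (fro z) = z := fun z => by
    refine RingHom.congr_fun (IsLocalization.ringHom_ext (Submonoid.powers h) (S := Away') (j := toA.comp fro)
      (k := RingHom.id _) ?_) z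
    refine hom_ext' (fun t => ?_) ?_
    · simp only [RingHom.comp_apply, RingHom.id_apply, hfro]
      show toA (bc _ _ _ _) = _
      rw [bc_of, AdjoinRoot.lift_of, hj]
    · simp only [RingHom.comp_apply, RingHom.id_apply, hfro]
      show toA (bc _ _ _ _) = _
      rw [bc_root, map_one, one_mul, AdjoinRoot.lift_root]
  refine ⟨h, fun q hq hσ hh' => ?_, toA.comp ((bc ψ₀ 1 hh).comp E), ?_, fun c => ?_, fun i => ?_⟩
  · have hgq : AdjoinRoot.of _ (v * g₁) ∈ q := by
      have := Ideal.pow_mem_of_mem q hσ n hn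
      rwa [root_pow] at this
    have hvu : IsUnit (AdjoinRoot.of (pol n (v * g₁)) v) := ((isUnit_root hd hu).pow b).map _
    have hgq' : AdjoinRoot.of (pol n (v * g₁)) g₁ ∈ q := by
      rw [map_mul] at hgq
      exact ((Ideal.IsPrime.mem_or_mem hq hgq).resolve_left fun hv => hq.ne_top (Ideal.eq_top_of_isUnit_mem _ hv hvu))
    refine hq.ne_top (Ideal.eq_top_of_isUnit_mem _ ?_ hvu)
    have h3 : AdjoinRoot.of (pol n (v * g₁)) v = h - AdjoinRoot.of _ g₁ * AdjoinRoot.of _ (δ v) := by
      simp only [h, h₁, map_add, map_mul]; ring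
    rw [h3]
    exact q.sub_mem hh' (Ideal.mul_mem_right _ _ hgq')
  · refine RingHom.Etale.respectsIso.1 ((bc ψ₀ 1 hh).comp E)
      (RingEquiv.ofBijective toA ⟨Function.LeftInverse.injective e1, Function.RightInverse.surjective e2⟩) ?_
    exact RingHom.Etale.respectsIso.2 (bc ψ₀ 1 hh) (RingEquiv.ofBijective E hE) hbc
  · rw [RingHom.comp_apply, RingHom.comp_apply, hEC, bc_of, AdjoinRoot.lift_of,
      show ψ₀ (MvPolynomial.C c) = algebraMap k B₂ c from MvPolynomial.aeval_C a c,
      IsScalarTower.algebraMap_apply k (Ring' d u) B₂, hj, IsScalarTower.algebraMap_apply k B (Ring' d u)]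
    rfl
  · rw [RingHom.comp_apply, RingHom.comp_apply, hEX]
    split_ifs with hi
    · rw [bc_root, map_one, one_mul, AdjoinRoot.lift_root]
    · rw [bc_of, AdjoinRoot.lift_of, show ψ₀ (MvPolynomial.X i) = _ from MvPolynomial.aeval_X a i]
      rw [haX i hi, hj]
      rfl

end Groth.L16.CycCov
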