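import Groth.Agent.L16.CycCov.Frames
import Mathlib.AlgebraicGeometry.FunctionField

/-!
# Extending a root of a section from an open to the whole scheme
-/

set_option autoImplicit false
set_option linter.style.haveILetI false

universe u

open CategoryTheory AlgebraicGeometry TopologicalSpace Opposite
open Groth.L18.Frame
open Groth.L18.GenLoc (tens tens_smul_left tens_smul_right)

noncomputable section

namespace Groth.L16.CycCov

variable {X : Scheme.{u}} {L : X.Modules}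

theorem lpow_smul {W : X.Opens} (c : Γ(X, W)) (e : Γ(L, W)) :
    ∀ n : ℕ, CycCov.lpow L W (c • e) n = c ^ n • CycCov.lpow L W e n
  | 0 => by
      rw [pow_zero]
      exact (one_smul Γ(X, W) (show Γ(CohB1.tensorPow L 0, W) from CycCov.lpow L W e 0)).symm
  | n + 1 => by
      show tens (CohB1.tensorPow L n) L W (CycCov.lpow L W (c • e) n) (c • e) = _
      rw [lpow_smul c e n]
      refine (tens_smul_right c _ e).trans ?_
      refine (congrArg (c • ·) (tens_smul_left (c ^ n) (CycCov.lpow L W e n) e)).trans ?_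
      refine (mul_smul c (c ^ n) _).symm.trans ?_
      rw [pow_succ']
      rfl

/-- A global section as a morphism. -/
theorem exists_hom (M : X.Modules) (S : Γ(M, ⊤)) :
    ∃ t : Coh.structureModule X ⟶ M, ∀ U : X.Opens, SecTwist.val t U = rs M le_top S := by
  refine ⟨M.unitHomEquiv.symm (PresheafOfModules.sectionsMk (fun V => rs M (le_top : V.unop ≤ ⊤) S)
    fun V V' g => ?_), fun U => ?_⟩
  · exact rs_rs M le_top g.unop.le S
  · show ((M.unitHomEquiv (M.unitHomEquiv.symm _)).val (op U)) = _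
    rw [Equiv.apply_symm_apply]
    rfl

variable [IsIntegral X]

theorem nonempty_inf {U V : X.Opens} (hU : Nonempty U) (hV : Nonempty V) : Nonempty (U ⊓ V : X.Opens) := by
  obtain ⟨⟨u, hu⟩⟩ := hU
  obtain ⟨⟨v, hv⟩⟩ := hV
  exact ⟨⟨genericPoint X, ((genericPoint_spec X).mem_open_set_iff U.2).2 ⟨u, trivial, hu⟩,
    ((genericPoint_spec X).mem_open_set_iff V.2).2 ⟨v, trivial, hv⟩⟩⟩

omit [IsIntegral X] in
theorem exists_affine_le {U : X.Opens} (hU : Nonempty U) : ∃ V : X.affineOpens, V.1 ≤ U ∧ Nonempty V.1 := by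
  obtain ⟨⟨u, hu⟩⟩ := hU
  obtain ⟨V, hV, huV, hle⟩ := exists_isAffineOpen_mem_and_subset hu
  exact ⟨⟨V, hV⟩, hle, ⟨⟨u, huV⟩⟩⟩

/-- Sections of a module with a frame are determined on any nonempty open. -/
theorem inj_rs {M : X.Modules} {W : X.Opens} {e : Γ(M, W)} (he : IsFrame M W e) {V : X.Opens} (h : V ≤ W)
    (hV : Nonempty V) {t t' : Γ(M, W)} (htt : rs M h t = rs M h t') : t = t' := by
  obtain ⟨a, rfl⟩ := he.exists_coeff le_rfl t
  obtain ⟨a', rfl⟩ := he.exists_coeff le_rfl t'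
  rw [rs_smul, rs_smul, rs_rs] at htt
  haveI := hV
  haveI : Nonempty V.toScheme := hV
  rw [show a = a' from map_injective_of_isIntegral X (homOfLE h) (he.inj _ htt)]

/-- An element over a nonempty open integral over an affine open comes from it. -/
theorem exists_section_of_isIntegral (hX : ∀ (U : X.Opens) [Nonempty U], IsIntegrallyClosed Γ(X, U))
    {U : X.affineOpens} (hU : Nonempty U.1) {V : X.Opens} (h : V ≤ U.1) (hV : Nonempty V) {μ : ℕ} (hμ : 0 < μ)
    {a : Γ(X, U.1)} {β : Γ(X, V)} (hβ : β ^ μ = ro h a) : ∃ b : Γ(X, U.1), ro h b = β := by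
  haveI := hU
  haveI := hV
  haveI : Nonempty U.1.toScheme := hU
  haveI : Nonempty V.toScheme := hV
  haveI := hX U.1
  haveI := functionField_isFractionRing_of_isAffineOpen X U.1 U.2
  have hint : IsIntegral Γ(X, U.1) (X.germToFunctionField V β) := by
    refine IsIntegral.of_pow hμ ?_
    rw [← map_pow, hβ, show X.germToFunctionField V (ro h a) = algebraMap Γ(X, U.1) X.functionField a from
      TopCat.Presheaf.germ_res_apply _ _ _ _ _]
    exact isIntegral_algebraMap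
  obtain ⟨b, hb⟩ := IsIntegrallyClosed.isIntegral_iff.1 hint
  refine ⟨b, Scheme.germToFunctionField_injective X V ?_⟩
  rw [← hb]
  exact TopCat.Presheaf.germ_res_apply _ _ _ _ _

theorem exists_root_section (hX : ∀ (U : X.Opens) [Nonempty U], IsIntegrallyClosed Γ(X, U))
    (hL : PicF.IsInvertible L) {N μ m : ℕ} (hμ : 0 < μ) (hN : μ * m = N)
    (s : Coh.structureModule X ⟶ CohB1.tensorPow L N) {V₀ : X.Opens} (hV₀ : Nonempty V₀) {e₀ : Γ(L, V₀)}
    {a₀ : Γ(X, V₀)} (ha₀ : SecTwist.val s V₀ = a₀ • CycCov.lpow L V₀ e₀ N)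
    {b₀ : Γ(X, V₀)} (hb₀ : b₀ ^ μ = a₀) :
    ∃ s' : Coh.structureModule X ⟶ CohB1.tensorPow L m, SecTwist.val s' V₀ = b₀ • CycCov.lpow L V₀ e₀ m := by
  let σ₀ : Γ(CohB1.tensorPow L m, V₀) := b₀ • CycCov.lpow L V₀ e₀ m
  -- near every point there is an extension
  have hloc : ∀ x : X, ∃ (U : X.Opens) (e : Γ(L, U)) (σ : Γ(CohB1.tensorPow L m, U)) (V : X.Opens) (hVU : V ≤ U)
      (hV : V ≤ V₀), x ∈ U ∧ IsFrame L U e ∧ Nonempty V ∧ rs _ hVU σ = rs _ hV σ₀ := by
    intro x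
    obtain ⟨W, e₁, hxW, he₁⟩ := exists_frame hL x
    obtain ⟨U, hU, hxU, hUW⟩ := exists_isAffineOpen_mem_and_subset hxW
    have he : IsFrame L U (rs L hUW e₁) := he₁.mono _
    obtain ⟨V, hVle, hV⟩ := exists_affine_le (nonempty_inf ⟨⟨x, hxU⟩⟩ hV₀)
    have hVU : V.1 ≤ U := hVle.trans inf_le_left
    have hV' : V.1 ≤ V₀ := hVle.trans inf_le_right
    obtain ⟨c, hc⟩ := (he.mono hVU).exists_coeff le_rfl (rs L hV' e₀)
    rw [rs_self] at hc
    obtain ⟨a, ha⟩ := (isFrame_lpow he N).exists_coeff le_rfl (SecTwist.val s U)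
    rw [rs_self] at ha
    have haV : ro hVU a = ro hV' a₀ * c ^ N := by
      refine (isGen_of_isFrame (isFrame_lpow (he.mono hVU) N)).1 ?_
      show ro hVU a • CycCov.lpow L V.1 (rs L hVU (rs L hUW e₁)) N = _
      refine (val_restrict s ha.symm hVU).symm.trans ((val_restrict s ha₀ hV').trans ?_)
      rw [← hc, lpow_smul]
      exact (mul_smul (ro hV' a₀) (c ^ N) _).symm
    obtain ⟨b, hb⟩ := exists_section_of_isIntegral hX (U := ⟨U, hU⟩) ⟨⟨x, hxU⟩⟩ hVU hV hμ (a := a)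
      (β := ro hV' b₀ * c ^ m) (by
        rw [haV, mul_pow, ← pow_mul, mul_comm m μ, hN, ← map_pow, hb₀])
    refine ⟨U, _, b • CycCov.lpow L U (rs L hUW e₁) m, V.1, hVU, hV', hxU, he, hV, ?_⟩
    refine (rs_smul _ hVU b _).trans ?_
    rw [hb, rs_lpow]
    refine Eq.trans ?_ (rs_smul _ hV' b₀ _).symm
    rw [rs_lpow, ← hc, lpow_smul]
    exact mul_smul (ro hV' b₀) (c ^ m) _
  choose U e σ V hVU hV hxU he hVne hσ using hloc
  -- it agrees with the given section
  have hagree : ∀ x, rs _ (inf_le_left : U x ⊓ V₀ ≤ U x) (σ x) = rs _ (inf_le_right : U x ⊓ V₀ ≤ V₀) σ₀ := fun x => by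
    refine inj_rs (isFrame_lpow ((he x).mono inf_le_left) m) (V := V x) (le_inf (hVU x) (hV x)) (hVne x) ?_
    rw [rs_rs, rs_rs]
    exact hσ x
  let M := CohB1.tensorPow L m
  let OM : TopCat.Sheaf Ab.{u} X.toTopCat := ⟨M.presheaf, M.isSheaf⟩
  have hcomp : ∀ x y : X, rs M (inf_le_left : U x ⊓ U y ≤ U x) (σ x) = rs M (inf_le_right : U x ⊓ U y ≤ U y) (σ y) := by
    intro x y
    by_cases hne : Nonempty (U x ⊓ U y : X.Opens)
    · refine inj_rs (isFrame_lpow ((he x).mono inf_le_left) m) (V := U x ⊓ U y ⊓ V₀) inf_le_left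
        (nonempty_inf hne hV₀) ?_
      have h1 := congrArg (rs M (show U x ⊓ U y ⊓ V₀ ≤ U x ⊓ V₀ from inf_le_inf_right _ inf_le_left)) (hagree x)
      have h2 := congrArg (rs M (show U x ⊓ U y ⊓ V₀ ≤ U y ⊓ V₀ from inf_le_inf_right _ inf_le_right)) (hagree y)
      rw [rs_rs, rs_rs] at h1 h2 ⊢
      exact h1.trans h2.symm
    · refine OM.eq_of_locally_eq' (fun i : PEmpty.{1} => i.elim) _ (fun i => i.elim) (fun z hz => ?_) _ _
        (fun i => i.elim)
      exact absurd ⟨⟨z, hz⟩⟩ hne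
  have hcov : (⊤ : X.Opens) ≤ ⨆ x, U x := fun x _ => Opens.mem_iSup.2 ⟨x, hxU x⟩
  obtain ⟨S, hS, -⟩ := OM.existsUnique_gluing' U ⊤ (fun _ => homOfLE le_top) hcov σ fun x y => hcomp x y
  obtain ⟨s', hs'⟩ := exists_hom M S
  refine ⟨s', (hs' V₀).trans ?_⟩
  refine OM.eq_of_locally_eq' (fun x => U x ⊓ V₀) _ (fun x => homOfLE inf_le_right)
    (fun z hz => Opens.mem_iSup.2 ⟨z, hxU z, hz⟩) _ _ fun x => ?_
  show rs M inf_le_right (rs M le_top S) = rs M inf_le_right σ₀
  rw [rs_rs, ← hagree x]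
  show rs M le_top S = rs M inf_le_left (σ x)
  rw [← show rs M le_top S = σ x from hS x, rs_rs]

end Groth.L16.CycCov
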