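import Groth.Agent.L16.CycCov.BasisLoc
import Groth.Agent.L03.BlowPt.Frames
import Groth.Agent.L16.CycCov.Glue
import Groth.Agent.L02.CycCover.Sections
import Groth.Agent.L17.BC.Sheaf
import Groth.Agent.L16.NegPow.Gen

/-!
# The direct image of the structure sheaf of the cyclic cover
-/

set_option autoImplicit false
set_option linter.style.haveILetI false

universe u

open CategoryTheory CategoryTheory.Limits AlgebraicGeometry TopologicalSpace Opposite
open Groth.L18.Frame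
open MonoidalCategory
open Groth.L18.GenLoc (tens tens_rs tens_smul_left tens_smul_right isFrame_tens)
open Groth.Agent.L19.IdealInvertible (io io_rs io_smul io_inj)

noncomputable section

namespace Groth.L16.CycCov

variable {X Y : Scheme.{u}} {L : X.Modules} {N : ℕ} {s : Coh.structureModule X ⟶ CohB1.tensorPow L N} {π : Y ⟶ X}
  (R : CycCov.Root L N s π) {r : ℕ} (D : Fin r → X.IdealSheafData) (α : Fin r → ℕ)

theorem sum_app {A B : X.Modules} {ι : Type*} (t : Finset ι) (f : ι → (A ⟶ B)) (V : X.Opens) (z : Γ(A, V)) :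
    (∑ i ∈ t, f i).app V z = ∑ i ∈ t, (f i).app V z := by
  classical
  induction t using Finset.induction_on with
  | empty => rfl
  | insert a t ha ih =>
    rw [Finset.sum_insert ha, Finset.sum_insert ha, ← ih]
    rfl

/-- A chart for the `i`-th summand. -/
structure Dat (i : ℕ) where
  U : X.affineOpens
  e : Γ(L, U.1)
  he : IsFrame L U.1 e
  g : Γ(X, U.1)
  hg : g ≠ 0
  hI : (CycCov.floorIdeal D α N i).ideal U = Ideal.span {g}
  w : Γ(Y, π ⁻¹ᵁ U.1)
  hw : π.app U.1 g * w = R.t U e (isGen_of_isFrame he) ^ i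
  m : Γ(ClSub.idealMod (CycCov.floorIdeal D α N i), U.1)
  hm : (io _ U.1 m : Γ(X, U.1)) = g

variable {R D α} {i : ℕ}

/-- The frame of `L^{(i)}` of a chart. -/
def Dat.ε (d : Dat R D α i) : Γ(CycCov.intPart L D α N i, d.U.1) :=
  tens (CohB1.tensorPow L i) (ClSub.idealMod (CycCov.floorIdeal D α N i)) d.U.1 (CycCov.lpow L d.U.1 d.e i) d.m

theorem Dat.isFrame_ε [IsIntegral X] (hI : PicF.IsInvertible (ClSub.idealMod (CycCov.floorIdeal D α N i)))
    (d : Dat R D α i) : IsFrame (CycCov.intPart L D α N i) d.U.1 d.ε := by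
  haveI : Nonempty d.U.1 := by
    by_contra h
    haveI : Subsingleton Γ(X, d.U.1) :=
      CommRingCat.subsingleton_of_isTerminal (X.sheaf.isTerminalOfEqEmpty
        (Opens.ext (Set.eq_empty_of_forall_notMem fun z hz => h ⟨⟨z, hz⟩⟩)))
    exact d.hg (Subsingleton.elim _ _)
  haveI : Nonempty d.U.1.toScheme := ‹Nonempty d.U.1›
  exact isFrame_tens (isFrame_lpow d.he i)
    (Groth.L03.BlowPt.isFrame_of_span _ hI d.U.2 d.g (mem_nonZeroDivisors_of_ne_zero d.hg) d.hI d.m d.hm)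

section Transfer

variable [IsIntegral X] (htors : ∀ (V : X.affineOpens) (g : Γ(X, V.1)), g ≠ 0 → ∀ c, π.app V.1 g * c = 0 → c = 0)
  {M : X.Modules} (θ : CohB1.tensorMod (CycCov.intPart L D α N i) M ⟶ Coh.structureModule X)

/-- The pairing with a chart, over a smaller open. -/
def Dat.pr (d : Dat R D α i) {V : X.Opens} (h : V ≤ d.U.1) (μ : Γ(M, V)) : Γ(X, V) :=
  show Γ(X, V) from θ.app V (tens (CycCov.intPart L D α N i) M V (rs _ h d.ε) μ)

/-- The value of a chart on a section. -/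
def Dat.val (d : Dat R D α i) {V : X.Opens} (h : V ≤ d.U.1) (μ : Γ(M, V)) : Γ(Y, π ⁻¹ᵁ V) :=
  π.app V (d.pr θ h μ) * ro (π.preimage_mono h) d.w

omit [IsIntegral X] in
theorem Dat.val_rs (d : Dat R D α i) {V V' : X.Opens} (h : V ≤ d.U.1) (h' : V' ≤ V) (μ : Γ(M, V)) :
    ro (π.preimage_mono h') (d.val θ h μ) = d.val θ (h'.trans h) (rs M h' μ) := by
  rw [Dat.val, Dat.val, ro_mul, ro_ro, ro_app π h']
  refine congrArg (fun z => π.app V' z * _) ?_
  have e1 := ConcreteCategory.congr_hom (θ.mapPresheaf.naturality (homOfLE h').op)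
    (tens (CycCov.intPart L D α N i) M V (rs _ h d.ε) μ)
  refine e1.symm.trans ?_
  show θ.app V' (rs _ h' (tens (CycCov.intPart L D α N i) M V (rs _ h d.ε) μ)) = _
  rw [tens_rs, rs_rs]
  rfl

omit [IsIntegral X] in
theorem Dat.val_add (d : Dat R D α i) {V : X.Opens} (h : V ≤ d.U.1) (μ ν : Γ(M, V)) :
    d.val θ h (μ + ν) = d.val θ h μ + d.val θ h ν := by
  have : tens (CycCov.intPart L D α N i) M V (rs _ h d.ε) (μ + ν) =
      tens (CycCov.intPart L D α N i) M V (rs _ h d.ε) μ + tens (CycCov.intPart L D α N i) M V (rs _ h d.ε) ν :=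
    Groth.L00.Tensor.ev_add₂ (Groth.L00.Tensor.unit (Groth.L00.Tensor.pre (CycCov.intPart L D α N i) ⊗ Groth.L00.Tensor.pre M)) (op V) (rs _ h d.ε) μ ν
  rw [Dat.val, Dat.val, Dat.val, ← add_mul, ← map_add]
  refine congrArg (fun z => π.app V z * _) ?_
  rw [Dat.pr, this, map_add]
  rfl

omit [IsIntegral X] in
theorem Dat.val_smul (d : Dat R D α i) {V : X.Opens} (h : V ≤ d.U.1) (b : Γ(X, V)) (μ : Γ(M, V)) :
    d.val θ h (b • μ) = π.app V b * d.val θ h μ := by
  rw [Dat.val, Dat.val, ← mul_assoc, ← map_mul]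
  refine congrArg (fun z => π.app V z * _) ?_
  show θ.app V (tens (CycCov.intPart L D α N i) M V (rs _ h d.ε) (b • μ)) = _
  rw [tens_smul_right, Scheme.Modules.Hom.app_smul]
  rfl

include htors in
/-- Two charts give the same value on an affine open. -/
theorem Dat.val_eq (d d' : Dat R D α i) (V : X.affineOpens) [Nonempty V.1] (h : V.1 ≤ d.U.1) (h' : V.1 ≤ d'.U.1)
    (μ : Γ(M, V.1)) : d.val θ h μ = d'.val θ h' μ := by
  haveI : Nonempty V.1.toScheme := ‹Nonempty V.1›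
  obtain ⟨c, hc⟩ := (d'.he.mono h').exists_coeff le_rfl (rs L h d.e)
  rw [rs_self] at hc
  have hI : ∀ (p : Dat R D α i) (hp : V.1 ≤ p.U.1),
      (CycCov.floorIdeal D α N i).ideal V = Ideal.span {ro hp p.g} := fun p hp => by
    rw [← Scheme.IdealSheafData.map_ideal _ (U := V) (V := p.U) hp, p.hI, Ideal.map_span, Set.image_singleton]
    rfl
  obtain ⟨q, hq⟩ := Ideal.mem_span_singleton'.1
    (((hI d h).symm.trans (hI d' h')).le (Ideal.mem_span_singleton_self (ro h d.g)))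
  have hm : rs _ h d.m = q • rs _ h' d'.m := Groth.L03.BlowPt.eq_smul_of_io _ q _ _ (by
    rw [io_rs, io_rs, d.hm, d'.hm]; exact hq.symm)
  have hε : rs _ h d.ε = (c ^ i * q) • rs _ h' d'.ε := by
    show rs (CohB1.tensorMod _ _) h (tens (CohB1.tensorPow L i) (ClSub.idealMod (CycCov.floorIdeal D α N i)) _
        (CycCov.lpow L d.U.1 d.e i) d.m) = (c ^ i * q) • rs (CohB1.tensorMod _ _) h' (tens (CohB1.tensorPow L i)
        (ClSub.idealMod (CycCov.floorIdeal D α N i)) _ (CycCov.lpow L d'.U.1 d'.e i) d'.m)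
    rw [tens_rs, tens_rs, hm, rs_lpow, rs_lpow, ← hc, lpow_smul]
    refine (tens_smul_left (c ^ i) _ _).trans ?_
    refine (congrArg (c ^ i • ·) (tens_smul_right q _ _)).trans ?_
    exact (mul_smul (c ^ i) q _).symm
  have hpr : d.pr θ h μ = c ^ i * q * d'.pr θ h' μ := by
    rw [Dat.pr, hε, tens_smul_left, Scheme.Modules.Hom.app_smul]
    rfl
  have hres : ∀ (p : Dat R D α i) (hp : V.1 ≤ p.U.1), π.app V.1 (ro hp p.g) * ro (π.preimage_mono hp) p.w =
      R.t V (rs L hp p.e) (isGen_of_isFrame (p.he.mono hp)) ^ i := fun p hp => by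
    rw [← ro_app π hp, ← ro_mul, p.hw]
    refine (map_pow (Y.presheaf.map (homOfLE (π.preimage_mono hp)).op).hom _ i).trans ?_
    exact congrArg (· ^ i) (R.t_res p.U V hp p.e (isGen_of_isFrame p.he) (isGen_of_isFrame (p.he.mono hp)))
  have ht : R.t V (rs L h d.e) (isGen_of_isFrame (d.he.mono h)) * π.app V.1 c =
      R.t V (rs L h' d'.e) (isGen_of_isFrame (d'.he.mono h')) := by
    have key : ∀ (e : Γ(L, V.1)) (hgen : CycCov.IsGen L V.1 e), e = c • rs L h' d'.e →
        R.t V e hgen * π.app V.1 c = R.t V (rs L h' d'.e) (isGen_of_isFrame (d'.he.mono h')) := by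
      rintro e hgen rfl
      exact R.t_smul V _ _ c hgen
    exact key _ _ hc.symm
  have hg' : ro h' d'.g ≠ 0 := fun h0 => d'.hg (by
    haveI : Nonempty d'.U.1 := ⟨⟨_, h' (Classical.arbitrary V.1).2⟩⟩
    exact map_injective_of_isIntegral X (homOfLE h') (h0.trans (map_zero _).symm))
  have hw : ro (π.preimage_mono h') d'.w = π.app V.1 (c ^ i * q) * ro (π.preimage_mono h) d.w := by
    refine sub_eq_zero.1 (htors V _ hg' _ ?_)
    rw [mul_sub, hres d' h', ← ht, mul_pow, ← hres d h, ← hq, map_mul, map_mul, map_pow]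
    ring
  rw [Dat.val, Dat.val, hw, hpr, map_mul]
  ring

include htors in
theorem Dat.val_compat (d d' : Dat R D α i) {V : X.Opens} (h : V ≤ d.U.1) (h' : V ≤ d'.U.1) (μ : Γ(M, V)) :
    d.val θ h μ = d'.val θ h' μ := by
  refine Groth.L02.CycCover.eq_of_affines π _ _ fun V' hV' hle => ?_
  rw [d.val_rs θ h hle, d'.val_rs θ h' hle]
  by_cases hne : Nonempty V'
  · exact d.val_eq htors θ d' ⟨V', hV'⟩ _ _ _
  · haveI : Subsingleton Γ(Y, π ⁻¹ᵁ V') :=
      CommRingCat.subsingleton_of_isTerminal (Y.sheaf.isTerminalOfEqEmpty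
        (Opens.ext (Set.eq_empty_of_forall_notMem fun z hz => hne ⟨⟨π z, hz⟩⟩)))
    exact Subsingleton.elim _ _

include htors in
/-- The morphism to the direct image. -/
theorem exists_summand (hcov : ∀ x : X, ∃ d : Dat R D α i, x ∈ d.U.1) :
    ∃ c : M ⟶ (Scheme.Modules.pushforward π).obj (Coh.structureModule Y),
      ∀ (d : Dat R D α i) {V : X.Opens} (h : V ≤ d.U.1) (μ : Γ(M, V)),
        (show Γ(Y, π ⁻¹ᵁ V) from c.app V μ) = d.val θ h μ := by
  choose d hd using hcov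
  have hglue : ∀ (O : X.Opens) (μ : Γ(M, O)), ∃! z : Γ(Y, π ⁻¹ᵁ O),
      ∀ x, ro (π.preimage_mono (inf_le_left : O ⊓ (d x).U.1 ≤ O)) z = (d x).val θ inf_le_right (rs M inf_le_left μ) := by
    intro O μ
    refine Y.sheaf.existsUnique_gluing' (fun x => π ⁻¹ᵁ (O ⊓ (d x).U.1)) (π ⁻¹ᵁ O)
      (fun x => homOfLE (π.preimage_mono inf_le_left)) (fun y hy => Opens.mem_iSup.2 ⟨π y, hy, hd (π y)⟩)
      (fun x => (d x).val θ inf_le_right (rs M inf_le_left μ)) fun x y => ?_
    show ro (π.preimage_mono (inf_le_left : (O ⊓ (d x).U.1) ⊓ (O ⊓ (d y).U.1) ≤ O ⊓ (d x).U.1)) _ =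
      ro (π.preimage_mono (inf_le_right : (O ⊓ (d x).U.1) ⊓ (O ⊓ (d y).U.1) ≤ O ⊓ (d y).U.1)) _
    rw [(d x).val_rs θ inf_le_right
        (inf_le_left : (O ⊓ (d x).U.1) ⊓ (O ⊓ (d y).U.1) ≤ O ⊓ (d x).U.1),
      (d y).val_rs θ inf_le_right
        (inf_le_right : (O ⊓ (d x).U.1) ⊓ (O ⊓ (d y).U.1) ≤ O ⊓ (d y).U.1), rs_rs, rs_rs]
    exact (d x).val_compat htors θ (d y) _ _ _
  choose z hz hzu using hglue
  have huniq : ∀ (O : X.Opens) (μ : Γ(M, O)) (z' : Γ(Y, π ⁻¹ᵁ O)), (∀ (p : Dat R D α i) (V : X.Opens) (hO : V ≤ O)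
      (hp : V ≤ p.U.1), ro (π.preimage_mono hO) z' = p.val θ hp (rs M hO μ)) → z' = z O μ :=
    fun O μ z' h => hzu O μ z' fun x => h (d x) _ inf_le_left inf_le_right
  have hspec : ∀ (O : X.Opens) (μ : Γ(M, O)) (p : Dat R D α i) (V : X.Opens) (hO : V ≤ O) (hp : V ≤ p.U.1),
      ro (π.preimage_mono hO) (z O μ) = p.val θ hp (rs M hO μ) := fun O μ p V hO hp => by
    refine Y.sheaf.eq_of_locally_eq' (fun x => π ⁻¹ᵁ (V ⊓ (d x).U.1)) (π ⁻¹ᵁ V)
      (fun x => homOfLE (π.preimage_mono inf_le_left)) (fun y hy => Opens.mem_iSup.2 ⟨π y, hy, hd (π y)⟩) _ _ fun x => ?_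
    show ro (π.preimage_mono (inf_le_left : V ⊓ (d x).U.1 ≤ V)) (ro _ (z O μ)) = ro _ _
    rw [ro_ro, p.val_rs θ hp (inf_le_left : V ⊓ (d x).U.1 ≤ V), rs_rs,
      ← ro_ro (π.preimage_mono (inf_le_left : O ⊓ (d x).U.1 ≤ O))
        (π.preimage_mono (inf_le_inf_right _ hO : V ⊓ (d x).U.1 ≤ O ⊓ (d x).U.1)),
      hz O μ x, (d x).val_rs θ inf_le_right (inf_le_inf_right _ hO : V ⊓ (d x).U.1 ≤ O ⊓ (d x).U.1), rs_rs]
    exact (d x).val_compat htors θ p _ _ _
  have hadd : ∀ (O : X.Opens) (μ ν : Γ(M, O)), z O (μ + ν) = z O μ + z O ν := fun O μ ν =>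
    (huniq O (μ + ν) _ fun p V hO hp => by
      rw [show ro (π.preimage_mono hO) (z O μ + z O ν) = ro (π.preimage_mono hO) (z O μ) + ro (π.preimage_mono hO) (z O ν) from
          map_add _ _ _, hspec O μ p V hO hp, hspec O ν p V hO hp,
        show rs M hO (μ + ν) = rs M hO μ + rs M hO ν from map_add _ _ _, Dat.val_add]).symm
  have hsm : ∀ (O : X.Opens) (b : Γ(X, O)) (μ : Γ(M, O)), z O (b • μ) = π.app O b * z O μ := fun O b μ =>
    (huniq O (b • μ) _ fun p V hO hp => by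
      rw [ro_mul, hspec O μ p V hO hp, ro_app π hO, rs_smul, Dat.val_smul]).symm
  let c : M ⟶ (Scheme.Modules.pushforward π).obj (Coh.structureModule Y) := ⟨PresheafOfModules.homMk
    { app := fun O => AddCommGrpCat.ofHom (AddMonoidHom.mk' (fun μ : Γ(M, O.unop) => z O.unop μ) (hadd O.unop))
      naturality := fun {U V} i => by
        ext μ
        refine (huniq V.unop _ _ fun p W hO hp => ?_).symm
        show ro _ (ro (π.preimage_mono i.unop.le) (z U.unop μ)) = p.val θ hp (rs M hO (rs M i.unop.le μ))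
        rw [ro_ro, rs_rs, hspec U.unop μ p W (hO.trans i.unop.le) hp] }
    (fun O b μ => hsm O.unop b μ)⟩
  refine ⟨c, fun p V h μ => ?_⟩
  have := hspec V μ p V le_rfl h
  rwa [ro_self, rs_self] at this

end Transfer

variable {k : Type u} [Field k] [IsAlgClosed k]

theorem exists_cofan [IsIntegral X] (f : X ⟶ Spec (CommRingCat.of k)) [Smooth f] (hL : PicF.IsInvertible L)
    (R : CycCov.Root L N s π) (hN : 0 < N) (hNk : (N : k) ≠ 0) (hR : CycCov.IsCover R) (hD : LogNCD.IsNCD D f)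
    (hs : CycCov.IsZeroDiv (CohB1.tensorPow L N) s (CycCov.divIdeal D α))
    (M : Fin N → X.Modules) (hM : ∀ i : Fin N, ClSub.IsInverseOf (CycCov.intPart L D α N i) (M i)) :
    ∃ c : ∀ i : Fin N, M i ⟶ (Scheme.Modules.pushforward π).obj (Coh.structureModule Y),
      Nonempty (IsColimit (Cofan.mk ((Scheme.Modules.pushforward π).obj (Coh.structureModule Y)) c)) := by
  classical
  haveI := hR.1
  haveI : IsReduced Y := Groth.L25.Extend.isReduced_of_normal hR.2.1
  choose W e he hxW hW using fun x => exists_basis_nhd f hL R hN hNk hR hD hs x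
  have hcov' : ∀ (x : X), ∃ V : X.affineOpens, V.1 ≤ W x ∧ x ∈ V.1 := fun x => by
    obtain ⟨V, hV, hxV, hle⟩ := exists_isAffineOpen_mem_and_subset (hxW x)
    exact ⟨⟨V, hV⟩, hle, hxV⟩
  have htors : ∀ (V : X.affineOpens) (g : Γ(X, V.1)), g ≠ 0 → ∀ c, π.app V.1 g * c = 0 → c = 0 := by
    intro V g hg c hc
    refine Groth.L02.CycCover.eq_of_affines π c 0 fun V' hV' hle => ?_
    rw [show ro (π.preimage_mono hle) (0 : Γ(Y, π ⁻¹ᵁ V.1)) = 0 from map_zero _]
    by_cases hne : Nonempty V'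
    swap
    · haveI : Subsingleton Γ(Y, π ⁻¹ᵁ V') :=
        CommRingCat.subsingleton_of_isTerminal (Y.sheaf.isTerminalOfEqEmpty
          (Opens.ext (Set.eq_empty_of_forall_notMem fun z hz => hne ⟨⟨π z, hz⟩⟩)))
      exact Subsingleton.elim _ _
    haveI := hne
    haveI : Nonempty V'.toScheme := hne
    haveI : Nonempty V.1 := ⟨⟨_, hle (Classical.arbitrary V').2⟩⟩
    refine Y.sheaf.eq_of_locally_eq' (fun x : X => π ⁻¹ᵁ (V' ⊓ W x)) (π ⁻¹ᵁ V')
      (fun x => homOfLE (π.preimage_mono inf_le_left)) (fun y hy => Opens.mem_iSup.2 ⟨π y, hy, hxW (π y)⟩) _ _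
      fun x => Groth.L02.CycCover.eq_of_affines π _ _ fun U hU hUle => ?_
    show ro (π.preimage_mono hUle) (ro _ (ro _ c)) = ro (π.preimage_mono hUle) (ro _ (0 : Γ(Y, π ⁻¹ᵁ V')))
    rw [ro_ro, ro_ro, ro_ro, show ro _ (0 : Γ(Y, π ⁻¹ᵁ V')) = 0 from map_zero _]
    by_cases hneU : Nonempty U
    swap
    · haveI : Subsingleton Γ(Y, π ⁻¹ᵁ U) :=
        CommRingCat.subsingleton_of_isTerminal (Y.sheaf.isTerminalOfEqEmpty
          (Opens.ext (Set.eq_empty_of_forall_notMem fun z hz => hneU ⟨⟨π z, hz⟩⟩)))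
      exact Subsingleton.elim _ _
    haveI := hneU
    have heU : IsFrame L U (rs L (hUle.trans inf_le_right) (e x)) := (he x).mono _
    obtain ⟨a, ha⟩ := (isFrame_lpow heU N).exists_coeff le_rfl (SecTwist.val s U)
    rw [rs_self] at ha
    have hUV : U ≤ V.1 := (hUle.trans inf_le_left).trans hle
    refine (exists_generic R hN hR ⟨U, hU⟩ heU ha.symm).1 (ro hUV g)
      (fun h0 => hg (map_injective_of_isIntegral X (homOfLE hUV) (h0.trans (map_zero _).symm))) _ ?_
    rw [← ro_app π hUV, ← ro_mul, hc]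
    exact map_zero _
  have hinv : ∀ l : ℕ, PicF.IsInvertible (ClSub.idealMod (CycCov.floorIdeal D α N l)) := fun l => by
    rw [Groth.Agent.L19.IdealInvertible.isEffCartier_iff]
    intro x
    obtain ⟨V, hV, hxV⟩ := hcov' x
    obtain ⟨G, w, hG, hI, -, -⟩ := hW x V hV ⟨⟨_, hxV⟩⟩
    haveI : Nonempty V.1 := ⟨⟨_, hxV⟩⟩
    haveI : Nonempty V.1.toScheme := ⟨⟨_, hxV⟩⟩
    exact ⟨V, hxV, G l, mem_nonZeroDivisors_of_ne_zero (hG l), hI l⟩
  have hdat : ∀ (x : X) (V : X.affineOpens) (hV : V.1 ≤ W x), Nonempty V.1 → ∃ d : Fin N → Σ i : Fin N, Dat R D α i.1,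
      (∀ i, (d i).1 = i ∧ (d i).2.U = V) ∧
        ∃ w : Fin N → Γ(Y, π ⁻¹ᵁ V.1), (∀ i (h : V.1 ≤ (d i).2.U.1), ro (π.preimage_mono h) (d i).2.w = w i) ∧
          Function.Bijective fun b : Fin N → Γ(X, V.1) => ∑ l : Fin N, π.app V.1 (b l) * w l := by
    intro x V hV hne
    obtain ⟨G, w, hG, hI, hw, hbij⟩ := hW x V hV hne
    have hm : ∀ l : Fin N, ∃ m : Γ(ClSub.idealMod (CycCov.floorIdeal D α N l), V.1), (io _ V.1 m : Γ(X, V.1)) = G l :=
      fun l => (Groth.L18.IdealModule.mem_ideal_iff _ V.2 _).1 (by rw [hI]; exact Ideal.mem_span_singleton_self _)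
    choose m hm using hm
    refine ⟨fun l => ⟨l, ⟨V, rs L hV (e x), (he x).mono hV, G l, hG l, hI l, w l, hw l, m l, hm l⟩⟩,
      fun l => ⟨rfl, rfl⟩, fun l => w l, fun l h => ro_self _ _, hbij⟩
  have hcov : ∀ (i : Fin N) (x : X), ∃ d : Dat R D α i.1, x ∈ d.U.1 := fun i x => by
    obtain ⟨V, hV, hxV⟩ := hcov' x
    obtain ⟨d, hd, -⟩ := hdat x V hV ⟨⟨_, hxV⟩⟩
    obtain ⟨h1, h2⟩ := hd i
    revert h1 h2
    rcases d i with ⟨i', p⟩
    rintro rfl h2
    exact ⟨p, by rw [h2]; exact hxV⟩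
  let θ := fun i : Fin N => (hM i).some
  choose c hc using fun i : Fin N => exists_summand htors (θ i).hom (hcov i)
  refine ⟨c, ?_⟩
  let φ : ⨁ M ⟶ (Scheme.Modules.pushforward π).obj (Coh.structureModule Y) := biproduct.desc c
  have hinvI : ∀ i : Fin N, PicF.IsInvertible (CycCov.intPart L D α N i) := fun i =>
    Groth.L18.GenLoc.isInvertible_tensor (Groth.L18.Ample.isInvertible_tensorPow hL _) (hinv _)
  haveI : IsIso φ := by
    refine Groth.L17.BC.Classes.isIso_of_affine φ fun x => ?_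
    choose WM eM hxWM heM using fun i : Fin N =>
      Groth.L18.Frame.exists_frame (Groth.L16.NegPow.isInvertible_inverse (hinvI i) (θ i)) x
    refine ⟨W x ⊓ ⟨⋂ i, (WM i : Set X), isOpen_iInter_of_finite fun i => (WM i).2⟩,
      ⟨hxW x, Set.mem_iInter.2 hxWM⟩, fun V hVle hV => ?_⟩
    have hVM : ∀ i, V ≤ WM i := fun i z hz => Set.mem_iInter.1 (hVle hz).2 i
    by_cases hne : Nonempty V
    swap
    · have hV0 : V = ⊥ := Opens.ext (Set.eq_empty_of_forall_notMem fun z hz => hne ⟨⟨z, hz⟩⟩)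
      let OP : TopCat.Sheaf Ab.{u} X.toTopCat := ⟨(⨁ M).presheaf, (⨁ M).isSheaf⟩
      haveI : Subsingleton Γ(⨁ M, V) := AddCommGrpCat.subsingleton_of_isZero
        (IsTerminal.isZero (OP.isTerminalOfEqEmpty hV0))
      haveI : Subsingleton Γ(Y, π ⁻¹ᵁ V) :=
        CommRingCat.subsingleton_of_isTerminal (Y.sheaf.isTerminalOfEqEmpty
          (Opens.ext (Set.eq_empty_of_forall_notMem fun z hz => hne ⟨⟨π z, hz⟩⟩)))
      exact ⟨fun a b _ => Subsingleton.elim _ _, fun b => ⟨0, Subsingleton.elim (α := Γ(Y, π ⁻¹ᵁ V)) _ _⟩⟩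
    obtain ⟨d, hd, w, hdw, hbij⟩ := hdat x ⟨V, hV⟩ (fun z hz => (hVle hz).1) hne
    have hexd : ∀ i : Fin N, ∃ p : Dat R D α i.1, ∃ h : V ≤ p.U.1, ro (π.preimage_mono h) p.w = w i := fun i => by
      obtain ⟨h1, h2⟩ := hd i
      have h3 := hdw i
      revert h1 h2 h3
      rcases d i with ⟨i', p⟩
      rintro rfl h2 h3
      exact ⟨p, by rw [h2], h3 (by rw [h2])⟩
    choose p hp hpw using hexd
    let P : ∀ i : Fin N, Γ(M i, V) → Γ(X, V) := fun i μ => (p i).pr (θ i).hom (hp i) μ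
    have hPb : ∀ i, Function.Bijective (P i) := fun i => by
      let ν := rs (M i) (hVM i) (eM i)
      have hν : IsFrame (M i) V ν := (heM i).mono (hVM i)
      have hε := ((p i).isFrame_ε (hinv _)).mono (hp i)
      refine (Function.Bijective.of_comp_iff (P i) (isGen_of_isFrame hν)).1 ?_
      have e1 : P i ∘ (fun a : Γ(X, V) => a • ν) = (fun z => (θ i).hom.app V z) ∘
          fun a : Γ(X, V) => a • tens (CycCov.intPart L D α N i) (M i) V (rs _ (hp i) (p i).ε) ν := funext fun a => by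
        show (θ i).hom.app V (tens _ _ V _ (a • ν)) = (θ i).hom.app V (a • tens _ _ V _ ν)
        rw [tens_smul_right]
      show Function.Bijective (P i ∘ fun a : Γ(X, V) => a • ν)
      rw [e1]
      exact (ConcreteCategory.bijective_of_isIso ((θ i).hom.app V)).comp (isGen_of_isFrame (isFrame_tens hε hν))
    have hval : ∀ (i : Fin N) (μ : Γ(M i, V)), (show Γ(Y, π ⁻¹ᵁ V) from (c i).app V μ) = π.app V (P i μ) * w i :=
      fun i μ => by rw [hc i (p i) (hp i) μ, Dat.val, hpw i]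
    have hι : ∀ (i : Fin N) (μ : Γ(M i, V)), φ.app V ((biproduct.ι M i).app V μ) = (c i).app V μ := fun i μ =>
      congrArg (fun f : M i ⟶ (Scheme.Modules.pushforward π).obj (Coh.structureModule Y) => f.app V μ) (biproduct.ι_desc c i)
    have htot : ∀ z : Γ(⨁ M, V), z = ∑ i, (biproduct.ι M i).app V ((biproduct.π M i).app V z) := fun z => by
      have h := congrArg (fun f : ⨁ M ⟶ ⨁ M => f.app V z) (biproduct.total (f := M))
      simp only [sum_app] at h
      exact h.symm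
    have hsum : ∀ μ : ∀ i, Γ(M i, V), (show Γ(Y, π ⁻¹ᵁ V) from φ.app V (∑ i, (biproduct.ι M i).app V (μ i))) =
        ∑ i, π.app V (P i (μ i)) * w i := fun μ => by
      rw [map_sum]
      exact Finset.sum_congr rfl fun i _ => (hι i (μ i)).trans (hval i (μ i))
    refine ⟨fun z₁ z₂ hz => ?_, fun t => ?_⟩
    · rw [htot z₁, htot z₂]
      have h := (hsum _).symm.trans ((congrArg _ (htot z₁).symm).trans (hz.trans ((congrArg _ (htot z₂)).trans (hsum _))))
      exact Finset.sum_congr rfl fun i _ => congrArg _ ((hPb i).1 (congrFun (hbij.1 h) i))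
    · obtain ⟨b, hb⟩ := hbij.2 t
      choose μ hμ using fun i => (hPb i).2 (b i)
      refine ⟨∑ i, (biproduct.ι M i).app V (μ i), (hsum μ).trans ?_⟩
      rw [← hb]
      exact Finset.sum_congr rfl fun i _ => by rw [hμ i]
  let e : ⨁ M ≅ (Scheme.Modules.pushforward π).obj (Coh.structureModule Y) := asIso φ
  exact ⟨IsColimit.ofIsoColimit (biproduct.isColimit M) (Cofan.ext e fun i => biproduct.ι_desc c i)⟩

end Groth.L16.CycCov
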