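import Groth.Agent.L16.CycCov.Chart
import Mathlib.AlgebraicGeometry.Morphisms.Etale
import Mathlib.RingTheory.RingHom.Etale

/-!
# The cyclic cover is étale off the branch locus
-/

set_option autoImplicit false
set_option linter.style.haveILetI false

universe u

open CategoryTheory AlgebraicGeometry TopologicalSpace Opposite
open Groth.L18.Frame
open Groth.L02.CycCover

noncomputable section

namespace Groth.L16.CycCov

variable {k : Type u} [Field k] [IsAlgClosed k] {X Y : Scheme.{u}} {L : X.Modules} {N : ℕ}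
  {s : Coh.structureModule X ⟶ CohB1.tensorPow L N} {π : Y ⟶ X} [IsIntegral X]

theorem etale_over_affine (f : X ⟶ Spec (CommRingCat.of k)) [Smooth f] (R : CycCov.Root L N s π)
    (hN : 0 < N) (hNk : (N : k) ≠ 0) (hR : CycCov.IsCover R) (U : X.affineOpens) [Nonempty U.1]
    {e : Γ(L, U.1)} (he : IsFrame L U.1 e) {a : Γ(X, U.1)}
    (ha : SecTwist.val s U.1 = a • CycCov.lpow L U.1 e N) (hau : IsUnit a) : (π.app U.1).hom.Etale := by
  obtain ⟨hNu, hbij⟩ := chart_bijective R f hN hNk hR U he ha hau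
  letI := (π.app U.1).hom.toAlgebra
  haveI := etale_ring' hN hau hNu
  let e' : Ring' N a ≃ₐ[Γ(X, U.1)] Γ(Y, π ⁻¹ᵁ U.1) :=
    AlgEquiv.ofBijective
      ({ CycCov.chart R U e (isGen_of_isFrame he) a ha with
        commutes' := fun b => AdjoinRoot.lift_of _ } : Ring' N a →ₐ[Γ(X, U.1)] Γ(Y, π ⁻¹ᵁ U.1)) hbij
  exact Algebra.Etale.of_equiv e'

theorem etale_restrict (f : X ⟶ Spec (CommRingCat.of k)) [Smooth f] (hL : PicF.IsInvertible L)
    (R : CycCov.Root L N s π) (hN : 0 < N) (hNk : (N : k) ≠ 0) (hR : CycCov.IsCover R)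
    {r : ℕ} (D : Fin r → X.IdealSheafData) (α : Fin r → ℕ)
    (hs : CycCov.IsZeroDiv (CohB1.tensorPow L N) s (CycCov.divIdeal D α))
    (W : X.Opens) (hW : ∀ j : Fin r, 0 < α j → Disjoint (W : Set X) ((D j).support : Set X)) :
    Etale (π ∣_ W) := by
  haveI := hR.1
  refine IsZariskiLocalAtTarget.of_forall_exists_morphismRestrict fun x => ?_
  obtain ⟨W₁, e₁, hxW₁, he₁⟩ := exists_frame hL (W.ι x)
  obtain ⟨U, hU, hxU, hUle⟩ := exists_isAffineOpen_mem_and_subset
    (show W.ι x ∈ W₁ ⊓ W from ⟨hxW₁, x.2⟩)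
  refine ⟨W.ι ⁻¹ᵁ U, hxU, ?_⟩
  have hUW : U ≤ W := fun z hz => (hUle hz).2
  have hUW₁ : U ≤ W₁ := fun z hz => (hUle hz).1
  rw [(MorphismProperty.arrow_mk_iso_iff @Etale (morphismRestrictRestrict π W (W.ι ⁻¹ᵁ U)))]
  rw [Scheme.Hom.image_preimage_eq_opensRange_inf, Scheme.Opens.opensRange_ι,
    inf_eq_right.2 hUW]
  haveI : Nonempty U := ⟨⟨_, hxU⟩⟩
  have he : IsFrame L U (rs L hUW₁ e₁) := he₁.mono _
  obtain ⟨a, ha⟩ := (isFrame_lpow he N).exists_coeff le_rfl (SecTwist.val s U)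
  rw [rs_self] at ha
  have hau : IsUnit a := isUnit_of_isZeroDiv hs ⟨U, hU⟩ he ha.symm
    (ideal_divIdeal_eq_top D α ⟨U, hU⟩ fun j hj => (hW j hj).mono_left hUW)
  have h := etale_over_affine f R hN hNk hR ⟨U, hU⟩ he ha.symm hau
  haveI : IsAffine (U : Scheme.{u}) := hU
  haveI : IsAffine (π ⁻¹ᵁ U : Scheme.{u}) := hU.preimage π
  rw [HasRingHomProperty.iff_of_isAffine (P := @Etale), morphismRestrict_appTop]
  show (RingHom.comp _ _).Etale
  have key : ∀ V : X.Opens, V = U → (π.app V).hom.Etale := by rintro V rfl; exact h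
  exact RingHom.Etale.respectsIso.1 _ (asIso (Y.presheaf.map (eqToHom
    (image_morphismRestrict_preimage π U ⊤)).op)).commRingCatIsoToRingEquiv (key _ U.ι_image_top)

end Groth.L16.CycCov
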