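import Groth.Agent.L02.CycCover.Poly
import Mathlib.FieldTheory.IsAlgClosed.AlgebraicClosure
import Mathlib.RingTheory.RootsOfUnity.PrimitiveRoots
import Mathlib.RingTheory.Polynomial.Vieta
import Mathlib.RingTheory.IntegralClosure.IntegrallyClosed
import Mathlib.RingTheory.Localization.FractionRing

/-!
# When is `B[T]/(T^N - a)` a domain
-/

set_option autoImplicit false
set_option linter.style.haveILetI false

universe u

open Polynomial

noncomputable section

namespace Groth.L16.CycCov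

open Groth.L02.CycCover

/-- In the presence of the roots of unity `T^N - a` is reducible only for a power `a`. -/
theorem exists_pow_eq_of_not_irreducible {K : Type u} [Field K] {N : ℕ} (hN : 0 < N) {ζ : K}
    (hζ : IsPrimitiveRoot ζ N) {a : K} (ha : a ≠ 0) (h : ¬ Irreducible (X ^ N - C a)) :
    ∃ μ, 1 < μ ∧ μ ∣ N ∧ ∃ b : K, b ^ μ = a := by
  classical
  have hmonic : (X ^ N - C a).Monic := monic_X_pow_sub_C a hN.ne'
  have hne1 : X ^ N - C a ≠ 1 := fun h1 => by
    have := congrArg natDegree h1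
    rw [natDegree_X_pow_sub_C, natDegree_one] at this
    omega
  rw [hmonic.irreducible_iff_natDegree] at h
  obtain ⟨g, g', hg, hg', hgg, hg0, hg0'⟩ : ∃ g g' : K[X], g.Monic ∧ g'.Monic ∧ g * g' = X ^ N - C a ∧
      g.natDegree ≠ 0 ∧ g'.natDegree ≠ 0 := by
    by_contra hc
    push Not at hc
    exact h ⟨hne1, fun g g' hg hg' hgg => or_iff_not_imp_left.2 fun h0 => hc g g' hg hg' hgg h0⟩
  have hdeg : g.natDegree + g'.natDegree = N := by
    rw [← hg.natDegree_mul hg', hgg, natDegree_X_pow_sub_C]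
  let A := AlgebraicClosure K
  let f := algebraMap K A
  obtain ⟨α, hα⟩ := IsAlgClosed.exists_pow_nat_eq (f a) hN
  have hα0 : α ≠ 0 := fun h0 => ha (f.injective (by rw [← hα, h0, zero_pow hN.ne', map_zero]))
  have hsp : (g.map f).Splits := IsAlgClosed.splits _
  have hroot : ∀ r ∈ (g.map f).roots, ∃ i, r = f ζ ^ i * α := fun r hr => by
    rw [mem_roots (map_monic_ne_zero hg), IsRoot.def, eval_map] at hr
    have h1 : r ^ N = f a := by
      have h2 := congrArg (eval₂ f r) hgg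
      rw [eval₂_mul, hr, zero_mul, eval₂_sub, eval₂_X_pow, eval₂_C, eq_comm, sub_eq_zero] at h2
      exact h2
    haveI : NeZero N := ⟨hN.ne'⟩
    obtain ⟨i, -, hi⟩ := (hζ.map_of_injective f.injective).eq_pow_of_pow_eq_one (ξ := r / α)
      (by rw [div_pow, h1, hα, div_self ((map_ne_zero f).2 ha)])
    exact ⟨i, by rw [hi, div_mul_cancel₀ _ hα0]⟩
  have hprod : ∀ s : Multiset A, (∀ r ∈ s, ∃ i, r = f ζ ^ i * α) → ∃ j, s.prod = f ζ ^ j * α ^ s.card := by
    intro s
    induction s using Multiset.induction_on with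
    | empty => exact fun _ => ⟨0, by simp⟩
    | cons r s ih =>
      intro hs
      obtain ⟨i, rfl⟩ := hs r (Multiset.mem_cons_self _ _)
      obtain ⟨j, hj⟩ := ih fun r hr => hs r (Multiset.mem_cons_of_mem hr)
      exact ⟨i + j, by rw [Multiset.prod_cons, hj, Multiset.card_cons]; ring⟩
  obtain ⟨j, hj⟩ := hprod _ hroot
  rw [hsp.natDegree_eq_card_roots.symm, natDegree_map] at hj
  have hz : f ζ ^ j ≠ 0 := pow_ne_zero _ ((map_ne_zero f).2 (hζ.ne_zero hN.ne'))
  obtain ⟨c, hc⟩ : ∃ c : K, f c = α ^ g.natDegree := by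
    refine ⟨(-1) ^ g.natDegree * g.coeff 0 / ζ ^ j, ?_⟩
    have h0 : f (g.coeff 0) = (-1) ^ g.natDegree * (g.map f).roots.prod := by
      rw [← coeff_map, hsp.coeff_zero_eq_prod_roots_of_monic (hg.map f), natDegree_map]
    rw [map_div₀, map_mul, map_pow, map_pow, map_neg, map_one, h0, hj, ← mul_assoc, ← pow_add, ← two_mul, pow_mul,
      neg_one_sq, one_pow, one_mul, mul_div_cancel_left₀ _ hz]
  let e := Nat.gcd g.natDegree N
  have he : 0 < e := Nat.gcd_pos_of_pos_right _ hN
  obtain ⟨b, hb⟩ : ∃ b : K, f b = α ^ e := by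
    refine ⟨c ^ Nat.gcdA g.natDegree N * a ^ Nat.gcdB g.natDegree N, ?_⟩
    rw [map_mul, map_zpow₀, map_zpow₀, hc, ← hα, ← zpow_natCast α g.natDegree, ← zpow_natCast α N, ← zpow_mul,
      ← zpow_mul, ← zpow_add₀ hα0, ← Nat.gcd_eq_gcd_ab, zpow_natCast]
  have heN : e * (N / e) = N := Nat.mul_div_cancel' (Nat.gcd_dvd_right _ _)
  refine ⟨N / e, ?_, Nat.div_dvd_of_dvd (Nat.gcd_dvd_right _ _), b,
    f.injective (by rw [map_pow, hb, ← pow_mul, heN, hα])⟩
  by_contra h1
  have h2 : e * (N / e) ≤ e * 1 := Nat.mul_le_mul_left _ (by omega)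
  have h3 : e ≤ g.natDegree := Nat.gcd_le_left _ (Nat.pos_of_ne_zero hg0)
  omega

variable {B : Type u} [CommRing B]

/-- A power gives zero divisors. -/
theorem not_isDomain_of_pow [Nontrivial B] {N μ : ℕ} (hN : 0 < N) (hμ : 1 < μ) (hdvd : μ ∣ N) (b : B) :
    ¬ IsDomain (Ring' N (b ^ μ)) := by
  intro h
  obtain ⟨m, rfl⟩ := hdvd
  have hm : 0 < m := Nat.pos_of_mul_pos_left hN
  let p : B[X] := X ^ m - C b
  let q : B[X] := ∑ i ∈ Finset.range μ, (X ^ m) ^ i * C b ^ (μ - 1 - i)
  have hpq : q * p = pol (μ * m) (b ^ μ) := by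
    rw [geom_sum₂_mul, ← pow_mul, mul_comm m μ, ← map_pow]
  have hp : p.Monic := monic_X_pow_sub_C b hm.ne'
  have hq : q.Monic := hp.of_mul_monic_right (hpq ▸ monic_pol hN _)
  have hdeg : q.natDegree + m = μ * m := by
    have h1 := hq.natDegree_mul hp
    rw [hpq, natDegree_X_pow_sub_C, natDegree_X_pow_sub_C] at h1
    exact h1.symm
  have h1 : AdjoinRoot.mk (pol (μ * m) (b ^ μ)) q * AdjoinRoot.mk _ p = 0 := by
    rw [← map_mul, hpq, AdjoinRoot.mk_self]
  rcases mul_eq_zero.1 h1 with h2 | h2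
  · have := natDegree_le_of_dvd' (AdjoinRoot.mk_eq_zero.1 h2) hq (monic_pol hN _)
    rw [natDegree_X_pow_sub_C] at this
    omega
  · have := natDegree_le_of_dvd' (AdjoinRoot.mk_eq_zero.1 h2) hp (monic_pol hN _)
    rw [natDegree_X_pow_sub_C, natDegree_X_pow_sub_C] at this
    have := Nat.mul_le_mul_right m hμ
    omega
where
  natDegree_le_of_dvd' {B : Type u} [CommRing B] [Nontrivial B] {P Q : B[X]} (h : P ∣ Q) (hQ : Q.Monic) (hP : P.Monic) :
      P.natDegree ≤ Q.natDegree := by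
    by_contra hlt
    push Not at hlt
    obtain ⟨R, rfl⟩ := h
    have hR : R.Monic := hP.of_mul_monic_left hQ
    rw [hP.natDegree_mul hR] at hlt
    omega

/-- Over a normal domain non-domains come from powers. -/
theorem exists_pow_of_not_isDomain [IsDomain B] [IsIntegrallyClosed B] {N : ℕ} (hN : 0 < N) {ζ : B}
    (hζ : IsPrimitiveRoot ζ N) {a : B} (ha : a ≠ 0) (h : ¬ IsDomain (Ring' N a)) :
    ∃ μ, 1 < μ ∧ μ ∣ N ∧ ∃ b : B, b ^ μ = a := by
  let K := FractionRing B
  have hinjB : Function.Injective (algebraMap B K) := IsFractionRing.injective B K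
  by_cases hirr : Irreducible (X ^ N - C (algebraMap B K a))
  · refine absurd ?_ h
    haveI : Fact (Irreducible (pol N (algebraMap B K a))) := ⟨hirr⟩
    have hh : algebraMap B K a = 1 ^ N * algebraMap B K a := by rw [one_pow, one_mul]
    refine Function.Injective.isDomain (bc (algebraMap B K) 1 hh) ?_
    rw [injective_iff_map_eq_zero]
    intro z hz
    refine ext_cf hN fun l hl => ?_
    have h2 := congrArg (cf hN l) hz
    rw [cf_bc hN _ _ _ _ hl, one_pow, mul_one, cf_zero] at h2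
    rw [cf_zero]
    exact hinjB (h2.trans (map_zero _).symm)
  · obtain ⟨μ, hμ, hdvd, b, hb⟩ := exists_pow_eq_of_not_irreducible hN (hζ.map_of_injective hinjB)
      ((map_ne_zero_iff _ hinjB).2 ha) hirr
    have hint : IsIntegral B b := IsIntegral.of_pow (by omega : 0 < μ) (hb ▸ isIntegral_algebraMap)
    obtain ⟨b', hb'⟩ := IsIntegrallyClosed.isIntegral_iff.1 hint
    exact ⟨μ, hμ, hdvd, b', hinjB (by rw [map_pow, hb', hb])⟩

end Groth.L16.CycCov
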