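import Groth.Agent.L16.CycCov.Branch
import Groth.Agent.L16.CycCov.Kummer
import Groth.Agent.L16.CycCov.Glue

/-!
# When is the cyclic cover irreducible
-/

set_option autoImplicit false
set_option linter.style.haveILetI false

universe u

open CategoryTheory AlgebraicGeometry TopologicalSpace Opposite
open Groth.L18.Frame
open Groth.L02.CycCover

noncomputable section

namespace Groth.L16.CycCov

variable {k : Type u} [Field k] {X Y : Scheme.{u}} {L : X.Modules} {N : ℕ}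
  {s : Coh.structureModule X ⟶ CohB1.tensorPow L N} {π : Y ⟶ X} {r : ℕ} {D : Fin r → X.IdealSheafData}

/-- The generic point lies on no component. -/
theorem genericPoint_notMem [IsIntegral X] (f : X ⟶ Spec (CommRingCat.of k)) (hD : LogNCD.IsNCD D f) (j : Fin r) :
    genericPoint X ∉ (D j).support := by
  intro hj
  obtain ⟨U, g, hxU, -, hUg, δ, hδ⟩ := exists_chart f hD hj (show genericPoint X ∈ (⊤ : X.Opens) from trivial)
  haveI : Nonempty U.1 := ⟨⟨_, hxU⟩⟩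
  haveI : Nonempty U.1.toScheme := ⟨⟨_, hxU⟩⟩
  letI := algK f U.1
  have hg : g ≠ 0 := fun h => by rw [h, map_zero] at hδ; exact zero_ne_one hδ
  have h1 : genericPoint X ∈ ((D j).support : Set X) ∩ U.1 := ⟨hj, hxU⟩
  rw [(D j).coe_support_inter U, hUg, Scheme.zeroLocus_span] at h1
  have h2 : genericPoint X ∉ X.basicOpen g := (Scheme.mem_zeroLocus_iff _ _ _).1 h1.1 g rfl
  have hne : X.basicOpen g ≠ ⊥ := fun h => hg ((basicOpen_eq_bot_iff g).1 h)
  obtain ⟨z, hz⟩ : (X.basicOpen g : Set X).Nonempty := by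
    rw [Set.nonempty_iff_ne_empty]
    exact fun h => hne (Opens.ext h)
  exact h2 (((genericPoint_spec X).mem_open_set_iff (X.basicOpen g).2).2 ⟨z, trivial, hz⟩)

theorem isFrame_zero_empty {U : X.Opens} {e : Γ(L, U)} (he : CycCov.IsGen L U e) (h : e = 0) :
    Subsingleton Γ(X, U) :=
  subsingleton_of_zero_eq_one (he.1 (show (0 : Γ(X, U)) • e = (1 : Γ(X, U)) • e by subst h; rw [smul_zero, smul_zero]))

variable [IsAlgClosed k]

omit [IsAlgClosed k] in
/-- A generic affine open for the cover. -/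
theorem exists_good [IsIntegral X] (f : X ⟶ Spec (CommRingCat.of k)) (hL : PicF.IsInvertible L)
    (R : CycCov.Root L N s π) (hN : 0 < N) (hR : CycCov.IsCover R) (hD : LogNCD.IsNCD D f) {α : Fin r → ℕ}
    (hs : CycCov.IsZeroDiv (CohB1.tensorPow L N) s (CycCov.divIdeal D α)) :
    ∃ (U : X.affineOpens) (_ : Nonempty U.1) (e : Γ(L, U.1)) (he : IsFrame L U.1 e) (a : Γ(X, U.1))
      (ha : SecTwist.val s U.1 = a • CycCov.lpow L U.1 e N),
      IsUnit a ∧ Function.Bijective (CycCov.chart R U e (isGen_of_isFrame he) a ha) ∧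
      Dense ((π ⁻¹ᵁ U.1 : Y.Opens) : Set Y) := by
  obtain ⟨O, hxO, hO⟩ := exists_avoid D (fun _ => True) (genericPoint X) fun j _ => genericPoint_notMem f hD j
  obtain ⟨hfin, hnor, W₀, hW₀, hd, hS⟩ := hR
  haveI : IsReduced Y := Groth.L25.Extend.isReduced_of_normal hnor
  haveI := hfin
  obtain ⟨W₁, e₁, hxW₁, he₁⟩ := exists_frame hL (genericPoint X)
  obtain ⟨y, hy, hyW⟩ := hW₀.inter_open_nonempty _ (O ⊓ W₁).2 ⟨_, hxO, hxW₁⟩
  obtain ⟨U, hU, hyU, hUle⟩ := exists_isAffineOpen_mem_and_subset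
    (show y ∈ O ⊓ W₁ ⊓ W₀ from ⟨hy, hyW⟩)
  have hUO : U ≤ O := fun z hz => (hUle hz).1.1
  have hUW₁ : U ≤ W₁ := fun z hz => (hUle hz).1.2
  have he : IsFrame L U (rs L hUW₁ e₁) := he₁.mono _
  obtain ⟨a, ha⟩ := (isFrame_lpow he N).exists_coeff le_rfl (SecTwist.val s U)
  rw [rs_self] at ha
  have hau : IsUnit a := isUnit_of_isZeroDiv hs ⟨U, hU⟩ he ha.symm
    (ideal_divIdeal_eq_top D α ⟨U, hU⟩ fun i _ => (hO i trivial).mono_left hUO)
  refine ⟨⟨U, hU⟩, ⟨⟨y, hyU⟩⟩, _, he, a, ha.symm, hau, hS ⟨U, hU⟩ (fun z hz => (hUle hz).2) _ _ _ _, ?_⟩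
  rw [dense_iff_inter_open]
  intro G hG hGne
  by_contra hcon
  rw [Set.not_nonempty_iff_eq_empty] at hcon
  obtain ⟨z, hz⟩ := hGne
  obtain ⟨W₂, e₂, hzW₂, he₂⟩ := exists_frame hL (π z)
  obtain ⟨U', hU', hzU', hU'le⟩ := exists_isAffineOpen_mem_and_subset hzW₂
  obtain ⟨c, hcle, hzc⟩ := (hU'.preimage π).exists_basicOpen_le (V := ⟨G, hG⟩) ⟨z, hz⟩ hzU'
  haveI : Nonempty U' := ⟨⟨_, hzU'⟩⟩
  obtain ⟨V, hVle, hV⟩ := exists_affine_le (nonempty_inf (U := U) (V := U') ⟨⟨y, hyU⟩⟩ ‹_›)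
  obtain ⟨⟨w, hw⟩⟩ := hV
  obtain ⟨g, hgle, hwg⟩ := hU'.exists_basicOpen_le (V := U) ⟨w, (hVle hw).1⟩ (hVle hw).2
  have hg : g ≠ 0 := by
    rintro rfl
    rw [Scheme.basicOpen_zero] at hwg
    exact hwg
  have he' : IsFrame L U' (rs L hU'le e₂) := he₂.mono _
  obtain ⟨a', ha'⟩ := (isFrame_lpow he' N).exists_coeff le_rfl (SecTwist.val s U')
  rw [rs_self] at ha'
  have hgc : π.app U' g * c = 0 := by
    apply eq_zero_of_basicOpen_eq_bot
    rw [Scheme.basicOpen_mul, ← Scheme.preimage_basicOpen, eq_bot_iff]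
    intro t ht
    exact (Set.ext_iff.1 hcon t).1 ⟨hcle ht.2, hgle ht.1⟩
  rw [eq_zero_of_mul_eq_zero R hN hd hS (U := ⟨U', hU'⟩) he' ha'.symm hg hgc, Scheme.basicOpen_zero] at hzc
  exact hzc

theorem not_irreducible_iff [IsIntegral X] (f : X ⟶ Spec (CommRingCat.of k)) [Smooth f] (hL : PicF.IsInvertible L)
    (R : CycCov.Root L N s π) (hN : 0 < N) (hNk : (N : k) ≠ 0) (hR : CycCov.IsCover R) (hD : LogNCD.IsNCD D f)
    {α : Fin r → ℕ} (hs : CycCov.IsZeroDiv (CohB1.tensorPow L N) s (CycCov.divIdeal D α)) :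
    ¬ IrreducibleSpace Y ↔
      ∃ μ : ℕ, 1 < μ ∧ μ ∣ N ∧ ∃ s' : Coh.structureModule X ⟶ CohB1.tensorPow L (N / μ),
        ∀ (U : X.affineOpens) (e : L.val.obj (op U.1)), CycCov.IsGen L U.1 e →
          ∀ a b : Γ(X, U.1), SecTwist.val s U.1 = a • CycCov.lpow L U.1 e N →
            SecTwist.val s' U.1 = b • CycCov.lpow L U.1 e (N / μ) → a = b ^ μ := by
  obtain ⟨U₀, hU₀, e₀, he₀, a₀, ha₀, hau, hbij, hdense⟩ := exists_good f hL R hN hR hD hs
  haveI := hU₀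
  haveI := hR.1
  haveI : IsReduced Y := Groth.L25.Extend.isReduced_of_normal hR.2.1
  haveI : Nonempty U₀.1.toScheme := hU₀
  haveI : IsIntegrallyClosed Γ(X, U₀.1) := isIntegrallyClosed_of_smooth f U₀.1
  let A := Γ(Y, π ⁻¹ᵁ U₀.1)
  let E : Ring' N a₀ ≃+* A := RingEquiv.ofBijective _ hbij
  have hY : IsAffineOpen (π ⁻¹ᵁ U₀.1) := U₀.2.preimage π
  have hiff : IrreducibleSpace Y ↔ IsDomain (Ring' N a₀) := by
    constructor
    · intro hirr
      haveI := hirr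
      haveI : IsIntegral Y := isIntegral_of_irreducibleSpace_of_isReduced Y
      obtain ⟨y, hy⟩ := hdense.nonempty
      haveI : Nonempty (π ⁻¹ᵁ U₀.1) := ⟨⟨y, hy⟩⟩
      haveI : Nonempty (π ⁻¹ᵁ U₀.1).toScheme := ⟨⟨y, hy⟩⟩
      exact E.toMulEquiv.isDomain _
    · intro hdom
      haveI := hdom
      haveI : IsDomain A := E.symm.toMulEquiv.isDomain _
      haveI : IsAffine (π ⁻¹ᵁ U₀.1 : Scheme.{u}) := hY
      haveI : IsDomain Γ((π ⁻¹ᵁ U₀.1 : Scheme.{u}), ⊤) :=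
        (π ⁻¹ᵁ U₀.1).topIso.commRingCatIsoToRingEquiv.toMulEquiv.isDomain _
      haveI : Nonempty (π ⁻¹ᵁ U₀.1 : Scheme.{u}) := by
        by_contra hne
        haveI : IsEmpty (π ⁻¹ᵁ U₀.1 : Scheme.{u}) := not_nonempty_iff.1 hne
        exact false_of_nontrivial_of_subsingleton Γ((π ⁻¹ᵁ U₀.1 : Scheme.{u}), ⊤)
      haveI : IsIntegral (π ⁻¹ᵁ U₀.1 : Scheme.{u}) := isIntegral_of_isAffine_of_isDomain _
      have h1 := (IrreducibleSpace.isIrreducible_univ (π ⁻¹ᵁ U₀.1 : Scheme.{u})).image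
        (π ⁻¹ᵁ U₀.1).ι (π ⁻¹ᵁ U₀.1).ι.continuous.continuousOn
      rw [Set.image_univ, Scheme.Opens.range_ι] at h1
      have h2 := h1.closure
      rw [hdense.closure_eq] at h2
      exact (irreducibleSpace_def Y).2 h2
  rw [hiff]
  constructor
  · intro hnd
    haveI : NeZero (N : k) := ⟨hNk⟩
    obtain ⟨ζ, hζ⟩ := HasEnoughRootsOfUnity.exists_primitiveRoot k N
    obtain ⟨μ, hμ, hdvd, b₀, hb₀⟩ :=
      exists_pow_of_not_isDomain hN (hζ.map_of_injective (κ f U₀.1).injective) hau.ne_zero hnd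
    refine ⟨μ, hμ, hdvd, ?_⟩
    obtain ⟨s', hs'⟩ := exists_root_section (fun U _ => isIntegrallyClosed_of_smooth f U) hL (μ := μ)
      (m := N / μ) (by omega) (Nat.mul_div_cancel' hdvd) s hU₀ ha₀ hb₀
    refine ⟨s', fun U e he a b ha hb => ?_⟩
    by_cases hU : Nonempty U.1
    swap
    · haveI : Subsingleton Γ(X, U.1) :=
        CommRingCat.subsingleton_of_isTerminal (X.sheaf.isTerminalOfEqEmpty
          (Opens.ext (Set.eq_empty_of_forall_notMem fun z hz => hU ⟨⟨z, hz⟩⟩)))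
      exact Subsingleton.elim _ _
    haveI := hU
    haveI : Nonempty U.1.toScheme := hU
    have hVne := nonempty_inf hU hU₀
    haveI := hVne
    haveI : Nonempty (U.1 ⊓ U₀.1 : X.Opens).toScheme := hVne
    obtain ⟨c, hc⟩ := (he₀.mono (inf_le_right : U.1 ⊓ U₀.1 ≤ U₀.1)).exists_coeff le_rfl (rs L inf_le_left e)
    rw [rs_self] at hc
    have key : ∀ {n : ℕ} {t : Coh.structureModule X ⟶ CohB1.tensorPow L n} {p : Γ(X, U.1)} {q : Γ(X, U₀.1)},
        SecTwist.val t U.1 = p • CycCov.lpow L U.1 e n → SecTwist.val t U₀.1 = q • CycCov.lpow L U₀.1 e₀ n →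
          ro (inf_le_left : U.1 ⊓ U₀.1 ≤ U.1) p * c ^ n = ro (inf_le_right : U.1 ⊓ U₀.1 ≤ U₀.1) q := by
      intro n t p q hp hq
      refine (isGen_of_isFrame (isFrame_lpow (he₀.mono inf_le_right) n)).1 ?_
      show (ro _ p * c ^ n) • CycCov.lpow L _ (rs L inf_le_right e₀) n = ro _ q • _
      refine Eq.trans ?_ ((val_restrict t hp inf_le_left).symm.trans (val_restrict t hq inf_le_right))
      rw [← hc, lpow_smul]
      exact mul_smul _ _ _
    have h1 := key ha ha₀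
    have h2 := key hb hs'
    have h3 : ro (inf_le_left : U.1 ⊓ U₀.1 ≤ U.1) a * c ^ N = ro inf_le_left (b ^ μ) * c ^ N := by
      rw [h1, ← hb₀]
      refine (map_pow (X.presheaf.map (homOfLE inf_le_right).op).hom b₀ μ).trans ?_
      rw [show (X.presheaf.map (homOfLE inf_le_right).op).hom b₀ = _ from h2.symm, mul_pow, ← pow_mul,
        Nat.div_mul_cancel hdvd]
      exact congrArg (· * c ^ N) (map_pow (X.presheaf.map (homOfLE inf_le_left).op).hom b μ).symm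
    have hcu : c ≠ 0 := by
      rintro rfl
      rw [zero_pow hN.ne', mul_zero] at h1
      exact (hau.map (X.presheaf.map (homOfLE inf_le_right).op).hom).ne_zero h1.symm
    exact map_injective_of_isIntegral X (homOfLE inf_le_left) (mul_right_cancel₀ (pow_ne_zero _ hcu) h3)
  · rintro ⟨μ, hμ, hdvd, s', hs'⟩
    obtain ⟨b, hb⟩ := (isFrame_lpow he₀ (N / μ)).exists_coeff le_rfl (SecTwist.val s' U₀.1)
    rw [rs_self] at hb
    rw [hs' U₀ e₀ (isGen_of_isFrame he₀) a₀ b ha₀ hb.symm]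
    exact not_isDomain_of_pow hN hμ hdvd b

end Groth.L16.CycCov
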