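import Groth.Agent.L02.CycCover.Poly
import Mathlib.RingTheory.IntegralClosure.IntegrallyClosed
import Mathlib.RingTheory.RootsOfUnity.PrimitiveRoots
import Mathlib.RingTheory.Polynomial.ScaleRoots
import Mathlib.RingTheory.Localization.FractionRing
import Mathlib.Algebra.Field.GeomSum
import Mathlib.Tactic.IntervalCases

/-!
# Adjoining a root of a unit to an integrally closed domain gives an integrally closed ring
-/

set_option autoImplicit false

universe u

open Polynomial

noncomputable section

namespace Groth.L16.CycCov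

open Groth.L02.CycCover

variable {B C K : Type u} [CommRing B] [CommRing C] [Field K] [Algebra B K] {N : ℕ} {θ : B}

theorem isIntegral_bc {c : K} (hc : algebraMap B K θ = c ^ N * algebraMap B K θ)
    {y : Ring' N (algebraMap B K θ)} (hy : IsIntegral B y) :
    IsIntegral B (bc (RingHom.id K) c hc y) :=
  hy.map (R := B) ({ bc (RingHom.id K) c hc with
    commutes' := fun b => by
      show bc (RingHom.id K) c hc (algebraMap B (Ring' N (algebraMap B K θ)) b) = algebraMap B (Ring' N (algebraMap B K θ)) b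
      rw [IsScalarTower.algebraMap_apply B K (Ring' N (algebraMap B K θ)), AdjoinRoot.algebraMap_eq]
      exact bc_of _ _ _ _ } : Ring' N (algebraMap B K θ) →ₐ[B] Ring' N (algebraMap B K θ))

/-- The monomials of an integral element, times `N`, are integral. -/
theorem term_isIntegral (hN : 0 < N) {ζ : B}
    (hζ : IsPrimitiveRoot (algebraMap B K ζ) N) {y : Ring' N (algebraMap B K θ)} (hy : IsIntegral B y) {l : ℕ}
    (hl : l < N) :
    IsIntegral B (AdjoinRoot.of (pol N (algebraMap B K θ)) ((N : K) * cf hN l y) * AdjoinRoot.root _ ^ l) := by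
  let z := algebraMap B K ζ
  let θK := algebraMap B K θ
  have hpow : ∀ m : ℕ, θK = (z ^ m) ^ N * θK := fun m => by
    rw [← pow_mul, mul_comm m N, pow_mul, show z ^ N = 1 from hζ.pow_eq_one, one_pow, one_mul]
  let of' := AdjoinRoot.of (pol N θK)
  have hint : ∀ b : B, IsIntegral B (of' (algebraMap B K b)) := fun b => by
    have : IsIntegral B (algebraMap B (Ring' N θK) b) := isIntegral_algebraMap
    rwa [IsScalarTower.algebraMap_apply B K (Ring' N θK), AdjoinRoot.algebraMap_eq] at this
  let W := ∑ m ∈ Finset.range N, of' ((z ^ (N - l)) ^ m) * bc (RingHom.id K) (z ^ m) (hpow m) y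
  have hW : IsIntegral B W := IsIntegral.sum _ fun m _ => by
    refine IsIntegral.mul ?_ (isIntegral_bc _ hy)
    rw [← pow_mul, ← map_pow (algebraMap B K)]
    exact hint _
  have hsum : ∀ i < N, (∑ m ∈ Finset.range N, (z ^ (N - l)) ^ m * (z ^ m) ^ i) = if i = l then (N : K) else 0 := by
    intro i hi
    have e : ∀ m ∈ Finset.range N, (z ^ (N - l)) ^ m * (z ^ m) ^ i = (z ^ (N - l + i)) ^ m := fun m _ => by
      rw [← pow_mul, ← pow_mul, ← pow_mul, ← pow_add]
      ring_nf
    rw [Finset.sum_congr rfl e]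
    split_ifs with h
    · subst h
      rw [Nat.sub_add_cancel hl.le, show z ^ N = 1 from hζ.pow_eq_one]
      simp
    · have hne : z ^ (N - l + i) ≠ 1 := fun h1 => by
        obtain ⟨t, ht⟩ := (hζ.pow_eq_one_iff_dvd _).1 h1
        rcases Nat.lt_or_ge t 2 with ht2 | ht2
        · interval_cases t <;> omega
        · have : N * 2 ≤ N * t := Nat.mul_le_mul_left _ ht2
          omega
      rw [geom_sum_eq hne, ← pow_mul, mul_comm _ N, pow_mul, show z ^ N = 1 from hζ.pow_eq_one, one_pow, sub_self,
        zero_div]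
  have hWeq : W = of' ((N : K) * cf hN l y) * AdjoinRoot.root _ ^ l := by
    have e : ∀ m ∈ Finset.range N, of' ((z ^ (N - l)) ^ m) * bc (RingHom.id K) (z ^ m) (hpow m) y =
        ∑ i ∈ Finset.range N, of' ((z ^ (N - l)) ^ m * (z ^ m) ^ i * cf hN i y) * AdjoinRoot.root _ ^ i := by
      intro m _
      conv_lhs => rw [eq_sum hN y, map_sum, Finset.mul_sum]
      refine Finset.sum_congr rfl fun i _ => ?_
      rw [map_mul (bc (RingHom.id K) (z ^ m) (hpow m)), map_pow (bc (RingHom.id K) (z ^ m) (hpow m))]
      erw [bc_of, bc_root]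
      rw [RingHom.id_apply, mul_pow, ← map_pow of']
      simp only [map_mul]
      ring
    rw [show W = _ from Finset.sum_congr rfl e, Finset.sum_comm]
    have e2 : ∀ i ∈ Finset.range N,
        (∑ m ∈ Finset.range N, of' ((z ^ (N - l)) ^ m * (z ^ m) ^ i * cf hN i y) * AdjoinRoot.root (pol N θK) ^ i) =
          if i = l then of' ((N : K) * cf hN i y) * AdjoinRoot.root (pol N θK) ^ i else 0 := fun i hi => by
      rw [← Finset.sum_mul, ← map_sum, ← Finset.sum_mul, hsum i (Finset.mem_range.1 hi)]
      split_ifs <;> simp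
    rw [Finset.sum_congr rfl e2, Finset.sum_ite_eq', if_pos (Finset.mem_range.2 hl)]
  exact hWeq ▸ hW

/-- A power relation for the coefficients of an integral element. -/
theorem pow_coeff_isIntegral (hN : 0 < N) (hNu : IsUnit (N : B)) {ζ : B}
    (hζ : IsPrimitiveRoot (algebraMap B K ζ) N) {y : Ring' N (algebraMap B K θ)} (hy : IsIntegral B y) {l : ℕ}
    (hl : l < N) : IsIntegral B (cf hN l y ^ N * algebraMap B K θ ^ l) := by
  have h := (term_isIntegral hN hζ hy hl).pow N
  rw [mul_pow, ← pow_mul, mul_comm l N, pow_mul, root_pow, ← map_pow, ← map_pow, ← map_mul, mul_pow] at h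
  have hinj : Function.Injective (AdjoinRoot.of (pol N (algebraMap B K θ))) := AdjoinRoot.of.injective_of_degree_ne_zero (by
    rw [degree_X_pow_sub_C hN]
    exact_mod_cast hN.ne')
  have h3 : IsIntegral B ((N : K) ^ N * cf hN l y ^ N * algebraMap B K θ ^ l) :=
    (isIntegral_algHom_iff ({ AdjoinRoot.of (pol N (algebraMap B K θ)) with
      commutes' := fun b => (IsScalarTower.algebraMap_apply B K (Ring' N (algebraMap B K θ)) b).symm } :
        K →ₐ[B] Ring' N (algebraMap B K θ)) hinj).1 h
  obtain ⟨u, hu⟩ := (hNu.pow N).exists_left_inv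
  have h4 := (isIntegral_algebraMap (R := B) (A := K) (x := u)).mul h3
  have h5 : algebraMap B K u * ((N : K) ^ N * cf hN l y ^ N * algebraMap B K θ ^ l) =
      cf hN l y ^ N * algebraMap B K θ ^ l := by
    have h6 := congrArg (algebraMap B K) hu
    rw [map_mul, map_pow, map_natCast, map_one] at h6
    linear_combination (cf hN l y ^ N * algebraMap B K θ ^ l) * h6
  rwa [h5] at h4

/-- The coefficients of an integral element are integral. -/
theorem coeff_isIntegral (hN : 0 < N) (hθ : IsUnit θ) (hNu : IsUnit (N : B)) {ζ : B}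
    (hζ : IsPrimitiveRoot (algebraMap B K ζ) N) {y : Ring' N (algebraMap B K θ)} (hy : IsIntegral B y) {l : ℕ}
    (hl : l < N) : IsIntegral B (cf hN l y) := by
  let θK := algebraMap B K θ
  let of' := AdjoinRoot.of (pol N θK)
  have hint : ∀ b : B, IsIntegral B (of' (algebraMap B K b)) := fun b => by
    have : IsIntegral B (algebraMap B (Ring' N θK) b) := isIntegral_algebraMap
    rwa [IsScalarTower.algebraMap_apply B K (Ring' N θK), AdjoinRoot.algebraMap_eq] at this
  have hterm := term_isIntegral hN hζ hy hl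
  have hroot : IsIntegral B (AdjoinRoot.root (pol N θK)) := by
    refine IsIntegral.of_pow hN ?_
    rw [root_pow]
    exact hint θ
  have h2 : IsIntegral B (of' ((N : K) * cf hN l y * θK)) := by
    have h := hterm.mul (hroot.pow (N - l))
    rwa [mul_assoc, ← pow_add, Nat.add_sub_cancel' hl.le, root_pow, ← map_mul] at h
  have hinj : Function.Injective of' := AdjoinRoot.of.injective_of_degree_ne_zero (by
    rw [degree_X_pow_sub_C hN]
    exact_mod_cast hN.ne')
  have h3 : IsIntegral B ((N : K) * cf hN l y * θK) :=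
    (isIntegral_algHom_iff ({ of' with
      commutes' := fun b => (IsScalarTower.algebraMap_apply B K (Ring' N θK) b).symm } : K →ₐ[B] Ring' N θK) hinj).1 h2
  obtain ⟨u, hu⟩ := (hNu.mul hθ).exists_left_inv
  have h4 := (isIntegral_algebraMap (R := B) (A := K) (x := u)).mul h3
  have h5 : algebraMap B K u * ((N : K) * cf hN l y * θK) = cf hN l y := by
    have h6 := congrArg (algebraMap B K) hu
    rw [map_mul, map_mul, map_natCast, map_one] at h6
    linear_combination (cf hN l y) * h6
  rwa [h5] at h4

/-- An algebra which generically is `B[T]/(T^N - θ)` and is integral and torsion free equals it. -/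
theorem bijective_of_generic [IsDomain B] [IsIntegrallyClosed B] (hN : 0 < N) (hθ : IsUnit θ)
    (hNu : IsUnit (N : B)) {ζ : B} (hζ : IsPrimitiveRoot ζ N) (ψ : B →+* C) (hψ : ψ.IsIntegral)
    (φ : Ring' N θ →+* C) (hφ : ∀ b, φ (AdjoinRoot.of _ b) = ψ b) {g : B} (hg : g ≠ 0)
    (htors : ∀ c, ψ g * c = 0 → c = 0) (hloc : ∀ c, ∃ (n : ℕ) (a : Ring' N θ), ψ g ^ n * c = φ a)
    (hinj : Function.Injective φ) : Function.Bijective φ := by
  refine ⟨hinj, fun c => ?_⟩
  let K := FractionRing B
  have hζK : IsPrimitiveRoot (algebraMap B K ζ) N := hζ.map_of_injective (IsFractionRing.injective B K)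
  obtain ⟨n, a, ha⟩ := hloc c
  obtain ⟨P, hP, hPc⟩ := hψ c
  have hQ : eval₂ (AdjoinRoot.of (pol N θ)) a (scaleRoots P (g ^ n)) = 0 := hinj (by
    rw [hom_eval₂, map_zero, show φ.comp (AdjoinRoot.of (pol N θ)) = ψ from RingHom.ext hφ, ← ha,
      show ψ g ^ n = ψ (g ^ n) from (map_pow ψ g n).symm]
    exact scaleRoots_eval₂_eq_zero ψ hPc)
  have hθ1 : algebraMap B K θ = (1 : K) ^ N * algebraMap B K θ := by rw [one_pow, one_mul]
  let η := bc (d := N) (algebraMap B K) 1 hθ1
  let gK := algebraMap B K (g ^ n)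
  have hgK : gK ≠ 0 := fun h => pow_ne_zero n hg (IsFractionRing.injective B K (h.trans (map_zero _).symm))
  let y := AdjoinRoot.of (pol N (algebraMap B K θ)) gK⁻¹ * η a
  have hay : η a = algebraMap B (Ring' N (algebraMap B K θ)) (g ^ n) * y := by
    rw [IsScalarTower.algebraMap_apply B K (Ring' N (algebraMap B K θ)), AdjoinRoot.algebraMap_eq, ← mul_assoc,
      ← map_mul, mul_inv_cancel₀ hgK, map_one, one_mul]
  have hy : IsIntegral B y := by
    refine ⟨P, hP, ?_⟩
    have hcomp : η.comp (AdjoinRoot.of (pol N θ)) = algebraMap B (Ring' N (algebraMap B K θ)) :=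
      RingHom.ext fun b => by
        rw [IsScalarTower.algebraMap_apply B K (Ring' N (algebraMap B K θ)), AdjoinRoot.algebraMap_eq]
        exact bc_of (algebraMap B K) 1 hθ1 b
    have h := congrArg η hQ
    rw [hom_eval₂, map_zero, hcomp, hay, scaleRoots_eval₂_mul] at h
    have hu : IsUnit (algebraMap B (Ring' N (algebraMap B K θ)) (g ^ n)) := by
      rw [IsScalarTower.algebraMap_apply B K (Ring' N (algebraMap B K θ))]
      exact hgK.isUnit.map _
    exact (hu.pow _).mul_right_eq_zero.1 h
  choose b hb using fun (l : Fin N) =>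
    IsIntegrallyClosed.isIntegral_iff.1 (coeff_isIntegral hN hθ hNu hζK hy l.2)
  let b' : ℕ → B := fun l => if h : l < N then b ⟨l, h⟩ else 0
  let c' := ∑ l ∈ Finset.range N, AdjoinRoot.of (pol N θ) (b' l) * AdjoinRoot.root _ ^ l
  have hc' : a = AdjoinRoot.of _ (g ^ n) * c' := by
    refine ext_cf hN fun l hl => IsFractionRing.injective B K ?_
    have h1 : algebraMap B K (cf hN l a) = cf hN l (η a) := by
      rw [cf_bc hN _ _ _ _ hl, one_pow, mul_one]
    have h2 : η a = ∑ i ∈ Finset.range N,
        AdjoinRoot.of (pol N (algebraMap B K θ)) (gK * cf hN i y) * AdjoinRoot.root _ ^ i := by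
      rw [hay, IsScalarTower.algebraMap_apply B K (Ring' N (algebraMap B K θ)), AdjoinRoot.algebraMap_eq]
      conv_lhs => rw [eq_sum hN y, Finset.mul_sum]
      exact Finset.sum_congr rfl fun i _ => by rw [map_mul, mul_assoc]
    have h3 : AdjoinRoot.of (pol N θ) (g ^ n) * c' =
        ∑ i ∈ Finset.range N, AdjoinRoot.of (pol N θ) (g ^ n * b' i) * AdjoinRoot.root _ ^ i := by
      rw [Finset.mul_sum]
      exact Finset.sum_congr rfl fun i _ => by rw [map_mul, mul_assoc]
    rw [h1, h2, h3, cf_sum hN (fun i => gK * cf hN i y) hl, cf_sum hN (fun i => g ^ n * b' i) hl, map_mul]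
    refine congrArg (gK * ·) ?_
    simp only [b', dif_pos hl]
    exact (hb ⟨l, hl⟩).symm
  refine ⟨c', ?_⟩
  rw [hc', map_mul, hφ, map_pow] at ha
  have key : ∀ (m : ℕ) (d : C), ψ g ^ m * d = 0 → d = 0 := fun m => by
    induction m with
    | zero => intro d hd; simpa using hd
    | succ m ih => intro d hd; exact htors d (ih _ (by rw [← mul_assoc, ← pow_succ]; exact hd))
  exact (sub_eq_zero.1 (key n _ (by rw [mul_sub, ha, sub_self]))).symm

end Groth.L16.CycCov
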