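import Groth.Agent.L16.CycCov.Decomp
import Groth.Agent.L18.RelAmpleCrit
import Groth.Prelude.Def_LogNCD2
import Groth.Prelude.Def_KLin

/-!
# The logarithmic connection on the inverse of the integral part
-/

set_option autoImplicit false
set_option linter.style.haveILetI false

universe u

open CategoryTheory CategoryTheory.Limits AlgebraicGeometry TopologicalSpace Opposite
open Groth.L18.Frame
open MonoidalCategory
open Groth.L18.GenLoc (tens tens_rs tens_smul_left tens_smul_right isFrame_tens)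
open Groth.Agent.L19.IdealInvertible (io io_rs io_smul io_inj)

noncomputable section

namespace Groth.L16.CycCov

/-! ### A derivation on products of powers -/

section Prod

variable {A M ι : Type*} [CommRing A] [AddCommGroup M] [Module A M] (D : A →+ M)

theorem der_one (hD : ∀ a b, D (a * b) = a • D b + b • D a) : D 1 = 0 := by
  have h := hD 1 1
  rw [mul_one, one_smul] at h
  exact left_eq_add.1 h

theorem der_pow (hD : ∀ a b, D (a * b) = a • D b + b • D a) (g : A) (dl : M) (n : ℕ) (h : n ≠ 0 → g • dl = D g) :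
    D (g ^ n) = g ^ n • (n : A) • dl := by
  induction n with
  | zero => simp [der_one D hD]
  | succ n ih =>
    have h' := h (Nat.succ_ne_zero n)
    rw [pow_succ, hD, ih (fun _ => h'), ← h', Nat.cast_succ, add_smul, one_smul, smul_add, ← mul_smul, ← mul_smul,
      ← mul_smul, ← mul_smul, add_comm]
    congr 2
    ring

theorem der_prod (hD : ∀ a b, D (a * b) = a • D b + b • D a) (t : Finset ι) (g : ι → A) (n : ι → ℕ) (dl : ι → M)
    (h : ∀ j ∈ t, n j ≠ 0 → g j • dl j = D (g j)) :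
    D (∏ j ∈ t, g j ^ n j) = (∏ j ∈ t, g j ^ n j) • ∑ j ∈ t, (n j : A) • dl j := by
  classical
  induction t using Finset.induction_on with
  | empty => simp [der_one D hD]
  | insert j t hj ih =>
    rw [Finset.prod_insert hj, Finset.sum_insert hj, hD, ih fun l hl => h l (Finset.mem_insert_of_mem hl),
      der_pow D hD _ _ _ (h j (Finset.mem_insert_self j t)), smul_add, ← mul_smul, ← mul_smul, ← mul_smul,
      ← mul_smul, add_comm]
    congr 2
    ring

/-- The form `dF / NF` of `F = u ^ i * ∏ g ^ ρ`. -/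
theorem exists_form [Fintype ι] (hD : ∀ a b, D (a * b) = a • D b + b • D a) {n : A} (hn : IsUnit n) (u : Aˣ) (i : ℕ)
    (g : ι → A) (ρ : ι → ℕ) (dl : ι → M) (h : ∀ j, g j • dl j = D (g j)) :
    ∃ ω : M, n • ω = (i : A) • ((↑u⁻¹ : A) • D u) + ∑ j, (ρ j : A) • dl j ∧
      (n * ((u : A) ^ i * ∏ j, g j ^ ρ j)) • ω = D ((u : A) ^ i * ∏ j, g j ^ ρ j) := by
  obtain ⟨n', hn'⟩ := hn.exists_left_inv
  refine ⟨n' • ((i : A) • ((↑u⁻¹ : A) • D u) + ∑ j, (ρ j : A) • dl j), ?_, ?_⟩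
  · rw [← mul_smul, mul_comm, hn', one_smul]
  · rw [← mul_smul, show n * ((u : A) ^ i * ∏ j, g j ^ ρ j) * n' = ((u : A) ^ i * ∏ j, g j ^ ρ j) * (n' * n) from by ring,
      hn', mul_one, hD, der_pow D hD _ ((↑u⁻¹ : A) • D u) i fun _ => by rw [← mul_smul, Units.mul_inv, one_smul],
      der_prod D hD Finset.univ g ρ dl fun j _ _ => h j, smul_add, add_comm]
    refine congrArg₂ (· + ·) ?_ ?_
    · rw [← mul_smul]
    · rw [← mul_smul, ← mul_smul, ← mul_smul, ← mul_smul]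
      rw [← mul_smul (_ : A) (↑u⁻¹ : A)]
      exact congrArg (fun t : A => t • D (↑u : A)) (by ring)

end Prod

/-- Torsion-freeness propagates to products of bounded powers. -/
theorem tors_prod {A M : Type*} [CommRing A] [AddCommGroup M] [Module A M] {ι : Type*} [Fintype ι] (g : ι → A)
    (ht : ∀ z : M, (∏ j, g j) • z = 0 → z = 0) {v w : A} (hvw : v * w = 1) (N : ℕ) (ρ : ι → ℕ) (hρ : ∀ j, ρ j ≤ N)
    (z : M) (hz : (v * ∏ j, g j ^ ρ j) • z = 0) : z = 0 := by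
  have hit : ∀ (n : ℕ) (z : M), (∏ j, g j) ^ n • z = 0 → z = 0 := by
    intro n
    induction n with
    | zero => intro z hz; rwa [pow_zero, one_smul] at hz
    | succ n ih => intro z hz; rw [pow_succ', mul_smul] at hz; exact ih z (ht _ hz)
  refine hit N z ?_
  have hsplit : (∏ j, g j) ^ N = ((∏ j, g j ^ (N - ρ j)) * w) * (v * ∏ j, g j ^ ρ j) := by
    rw [show ∀ p q r t : A, p * q * (r * t) = p * t * (r * q) from fun p q r t => by ring, hvw, mul_one,
      ← Finset.prod_pow, ← Finset.prod_mul_distrib]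
    exact Finset.prod_congr rfl fun j _ => by rw [← pow_add, Nat.sub_add_cancel (hρ j)]
  rw [hsplit, mul_smul, hz, smul_zero]

variable {k : Type u} [Field k] {X : Scheme.{u}} {f : X ⟶ Spec (CommRingCat.of k)} {Ω' : X.Modules}

/-! ### Sections -/

theorem der_leibniz {E : X.Modules} (δ : OmegaSh.Der f E) (V : X.Opens) (a b : Γ(X, V)) :
    δ.app V (a * b) = a • δ.app V b + b • δ.app V a := δ.d_mul (X := op V) a b

theorem rs_der {E : X.Modules} (δ : OmegaSh.Der f E) {U V : X.Opens} (h : V ≤ U) (a : Γ(X, U)) :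
    rs E h (δ.app U a) = δ.app V (ro h a) := (δ.d_map (X := op U) (Y := op V) (homOfLE h).op a).symm

theorem rs_app {A B : X.Modules} (φ : A ⟶ B) {U V : X.Opens} (h : V ≤ U) (z : Γ(A, U)) :
    rs B h (φ.app U z) = φ.app V (rs A h z) :=
  (ConcreteCategory.congr_hom (φ.mapPresheaf.naturality (homOfLE h).op) z).symm

theorem rs_add' (A : X.Modules) {U V : X.Opens} (h : V ≤ U) (z z' : Γ(A, U)) :
    rs A h (z + z') = rs A h z + rs A h z' := map_add _ _ _

theorem tens_add_right {A B : X.Modules} (V : X.Opens) (a : Γ(A, V)) (b b' : Γ(B, V)) :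
    tens A B V a (b + b') = tens A B V a b + tens A B V a b' :=
  Groth.L00.Tensor.ev_add₂ (Groth.L00.Tensor.unit (Groth.L00.Tensor.pre A ⊗ Groth.L00.Tensor.pre B)) (op V) a b b'

/-- The section `1` of the structure sheaf of a closed subscheme. -/
abbrev one' (I : X.IdealSheafData) (U : X.Opens) : Γ(ClSub.quotMod I, U) :=
  (ClSub.toSubscheme I).app U (1 : Γ(X, U))

theorem rs_one' (I : X.IdealSheafData) {U V : X.Opens} (h : V ≤ U) :
    rs (ClSub.quotMod I) h (one' I U) = one' I V := by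
  rw [one', rs_app]
  exact congrArg _ (map_one (X.presheaf.map (homOfLE h).op).hom)

theorem smulAb_ext {M N : X.Modules} {a b : Coh.toAb M ⟶ Coh.toAb N}
    (h : ∀ (O : X.Opens) (z : Γ(M, O)), ConnSh.secApp a O z = ConnSh.secApp b O z) : a = b :=
  CategoryTheory.Sheaf.hom_ext (NatTrans.ext (funext fun O => ConcreteCategory.hom_ext _ _ fun z => h O.unop z))

theorem unitorR_inv_app (M : X.Modules) (O : X.Opens) (z : Γ(M, O)) :
    (SecTwist.unitorR M).inv.app O z = tens M (Coh.structureModule X) O z (1 : Γ(X, O)) := by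
  have h1 : (SecTwist.unitorR M).hom.app O (tens M (Coh.structureModule X) O z (1 : Γ(X, O))) = z :=
    (SecTwist.unitorR_tmul M O z (1 : Γ(X, O))).trans (one_smul Γ(X, O) z)
  refine (congrArg ((SecTwist.unitorR M).inv.app O) h1.symm).trans ?_
  exact ConcreteCategory.congr_hom (congrArg (fun φ => Scheme.Modules.Hom.app φ O) (SecTwist.unitorR M).hom_inv_id) _

theorem nsmul_app {A B : X.Modules} (φ : A ⟶ B) (n : ℕ) (O : X.Opens) (z : Γ(A, O)) :
    (n • φ).app O z = n • φ.app O z := by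
  induction n with
  | zero => rw [zero_smul, zero_smul]; rfl
  | succ n ih => rw [succ_nsmul, succ_nsmul, ← ih]; rfl

variable {L : X.Modules} {N : ℕ} (s : Coh.structureModule X ⟶ CohB1.tensorPow L N) {r : ℕ}
  {D : Fin r → X.IdealSheafData} {α : Fin r → ℕ} {i : ℕ} {d : OmegaSh.Der f Ω'}
  (Λ : LogNCD.LogMod d (CycCov.poleDiv D α N i)) {M : X.Modules}
  (θ : CohB1.tensorMod (CycCov.intPart L D α N i) M ⟶ Coh.structureModule X)

/-- A chart of the connection. -/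
structure Ch where
  U : X.affineOpens
  ne : Nonempty U.1
  e : Γ(L, U.1)
  he : IsFrame L U.1 e
  a : Γ(X, U.1)
  ha : SecTwist.val s U.1 = a • CycCov.lpow L U.1 e N
  G : Γ(X, U.1)
  hG : G ≠ 0
  hI : (CycCov.floorIdeal D α N i).ideal U = Ideal.span {G}
  m : Γ(ClSub.idealMod (CycCov.floorIdeal D α N i), U.1)
  hm : (io _ U.1 m : Γ(X, U.1)) = G
  μ : Γ(M, U.1)
  hμ : IsFrame M U.1 μ
  hpair : (show Γ(X, U.1) from θ.app U.1 (tens (CycCov.intPart L D α N i) M U.1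
    (tens (CohB1.tensorPow L i) (ClSub.idealMod (CycCov.floorIdeal D α N i)) U.1 (CycCov.lpow L U.1 e i) m) μ)) = 1
  F : Γ(X, U.1)
  hF : F * G ^ N = a ^ i
  hF0 : F ≠ 0
  ω : Γ(Λ.L, U.1)
  hω : ((N : Γ(X, U.1)) * F) • ω = (LogNCD.der Λ).app U.1 F
  hres : ∀ j, (N : Γ(X, U.1)) • (Λ.res j).app U.1 ω =
    (CycCov.resNum α N i j : Γ(X, U.1)) • one' (CycCov.poleDiv D α N i j) U.1
  htors : ∀ (V : X.affineOpens), Nonempty V.1 → ∀ (h : V.1 ≤ U.1) (z : Γ(Λ.L, V.1)), ro h F • z = 0 → z = 0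

variable {Λ θ s}

omit Λ θ in
/-- Equations for all components near a point. -/
theorem exists_gg [IsIntegral X] (hD : LogNCD.IsNCD D f) (x : X) {O : X.Opens} (hxO : x ∈ O) :
    ∃ (V : X.affineOpens) (_ : x ∈ V.1) (_ : V.1 ≤ O) (gg : Fin r → Γ(X, V.1)),
      (∀ j, gg j ≠ 0) ∧ (∀ j, (D j).ideal V = Ideal.span {gg j}) ∧
      ∀ β : Fin r → ℕ, (CycCov.divIdeal D β).ideal V = Ideal.span {∏ j, gg j ^ β j} := by
  classical
  obtain ⟨W₀, hxW₀, ι, _, _, c, g, hc, hg⟩ := exists_equations f hD x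
  obtain ⟨V, hV, hxV, hle⟩ := exists_isAffineOpen_mem_and_subset (show x ∈ W₀ ⊓ O from ⟨hxW₀, hxO⟩)
  let V' : X.affineOpens := ⟨V, hV⟩
  have h0 : V ≤ W₀ := hle.trans inf_le_left
  obtain ⟨hgV, hout, δ, hδ⟩ := hg V' h0
  haveI : Nonempty V := ⟨⟨x, hxV⟩⟩
  haveI : Nonempty V.toScheme := ⟨⟨x, hxV⟩⟩
  refine ⟨V', hxV, hle.trans inf_le_right, fun j => if h : ∃ l, c l = j then ro h0 (g h.choose) else 1, ?_, ?_⟩
  · intro j h'
    by_cases h : ∃ l, c l = j
    · simp only [dif_pos h] at h'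
      have := hδ h.choose h.choose
      rw [h', map_zero, if_pos rfl] at this
      exact zero_ne_one this
    · simp only [dif_neg h] at h'
      exact one_ne_zero h'
  · have hgg : ∀ j, (D j).ideal V' = Ideal.span {if h : ∃ l, c l = j then ro h0 (g h.choose) else 1} := fun j => by
      by_cases h : ∃ l, c l = j
      · simp only [dif_pos h]
        have := hgV h.choose
        rwa [h.choose_spec] at this
      · simp only [dif_neg h]
        rw [hout j (fun ⟨l, hl⟩ => h ⟨l, hl⟩), Ideal.span_singleton_one]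
    exact ⟨hgg, fun β => ideal_divIdeal_span D β id Function.injective_id _ hgg fun j hj => absurd ⟨j, rfl⟩ hj⟩

theorem exists_ch [IsAlgClosed k] [Smooth f] [IsIntegral X] (hL : PicF.IsInvertible L) (hN : 0 < N) (hNk : (N : k) ≠ 0)
    (hD : LogNCD.IsNCD D f) (hs : CycCov.IsZeroDiv (CohB1.tensorPow L N) s (CycCov.divIdeal D α))
    (hinv : PicF.IsInvertible (ClSub.idealMod (CycCov.floorIdeal D α N i))) [IsIso θ] (x : X) :
    ∃ c : Ch s Λ θ, x ∈ c.U.1 := by
  classical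
  obtain ⟨W₁, e₁, hxW₁, he₁⟩ := exists_frame hL x
  have hinvI : PicF.IsInvertible (CycCov.intPart L D α N i) :=
    Groth.L18.GenLoc.isInvertible_tensor (Groth.L18.Ample.isInvertible_tensorPow hL _) hinv
  obtain ⟨W₂, e₂, hxW₂, he₂⟩ := exists_frame (Groth.L16.NegPow.isInvertible_inverse hinvI (asIso θ)) x
  obtain ⟨V', hxV, hle, gg, hgg0, hgg, hdiv⟩ := exists_gg hD x (show x ∈ W₁ ⊓ W₂ from ⟨hxW₁, hxW₂⟩)
  obtain ⟨V, hV⟩ := V'
  let V' : X.affineOpens := ⟨V, hV⟩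
  have h1 : V ≤ W₁ := hle.trans inf_le_left
  have h2 : V ≤ W₂ := hle.trans inf_le_right
  haveI : Nonempty V := ⟨⟨x, hxV⟩⟩
  haveI : Nonempty V.toScheme := ⟨⟨x, hxV⟩⟩
  let e := rs L h1 e₁
  have he : IsFrame L V e := he₁.mono h1
  obtain ⟨a, ha⟩ := (isFrame_lpow he N).exists_coeff le_rfl (SecTwist.val s V)
  rw [rs_self] at ha
  obtain ⟨u, hu⟩ := (Ideal.span_singleton_eq_span_singleton.1 (span_coeff hs V' he ha.symm (hdiv α))).symm
  have hG : ∏ j, gg j ^ (i * α j / N) ≠ 0 := Finset.prod_ne_zero_iff.2 fun j _ => pow_ne_zero _ (hgg0 j)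
  obtain ⟨m, hm⟩ := (Groth.L18.IdealModule.mem_ideal_iff _ hV (∏ j, gg j ^ (i * α j / N))).1
    (((hdiv fun j => i * α j / N).ge : Ideal.span _ ≤ (CycCov.floorIdeal D α N i).ideal V')
      (Ideal.mem_span_singleton_self _))
  have hε := isFrame_tens (isFrame_lpow he i) (Groth.L03.BlowPt.isFrame_of_span _ hinv hV _
    (mem_nonZeroDivisors_of_ne_zero hG) (hdiv _) m hm)
  have hν : IsFrame M V (rs M h2 e₂) := he₂.mono h2
  have hε' := isGen_of_isFrame (isFrame_tens hε hν)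
  obtain ⟨b, hb⟩ := hε'.2 ((asIso θ).inv.app V (1 : Γ(X, V)))
  have hb1 : b * (show Γ(X, V) from θ.app V (tens (CycCov.intPart L D α N i) M V
      (tens (CohB1.tensorPow L i) (ClSub.idealMod (CycCov.floorIdeal D α N i)) V (CycCov.lpow L V e i) m) (rs M h2 e₂))) = 1 := by
    have := (θ.app_smul b (tens (CycCov.intPart L D α N i) M V
      (tens (CohB1.tensorPow L i) (ClSub.idealMod (CycCov.floorIdeal D α N i)) V (CycCov.lpow L V e i) m)
      (rs M h2 e₂))).symm.trans (congrArg (θ.app V) hb)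
    exact this.trans (ConcreteCategory.congr_hom
      (congrArg (fun φ => Scheme.Modules.Hom.app φ V) (asIso θ).inv_hom_id) _)
  let g' : Fin r → Γ(X, V) := fun j => if N ∣ i * α j then 1 else gg j
  have hg' : ∀ j, (CycCov.poleDiv D α N i j).ideal V' = Ideal.span {g' j} := fun j => by
    by_cases h : N ∣ i * α j
    · simp only [CycCov.poleDiv, g', if_pos h]
      rw [Ideal.span_singleton_one]; rfl
    · simp only [CycCov.poleDiv, g', if_neg h]
      exact hgg j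
  obtain ⟨-, dl, hdl, -, hr1, hr2⟩ := Λ.rule V' g' hg'
  let ρ : Fin r → ℕ := CycCov.resNum α N i
  have hρ : ∀ j, gg j ^ ρ j = g' j ^ ρ j := fun j => by
    by_cases h : N ∣ i * α j
    · have : ρ j = 0 := Nat.mod_eq_zero_of_dvd h
      rw [this, pow_zero, pow_zero]
    · simp only [g', if_neg h]
  obtain ⟨ω, hωN, hω⟩ := exists_form ((LogNCD.der Λ).app V) (der_leibniz (LogNCD.der Λ) V)
    (isUnit_natCast f V hNk) u i g' ρ dl hdl
  let F : Γ(X, V) := (u : Γ(X, V)) ^ i * ∏ j, g' j ^ ρ j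
  have hF0 : F ≠ 0 := mul_ne_zero (pow_ne_zero _ u.ne_zero) (Finset.prod_ne_zero_iff.2 fun j _ => pow_ne_zero _ (by
    by_cases h : N ∣ i * α j
    · simp only [g', if_pos h]; exact one_ne_zero
    · simp only [g', if_neg h]; exact hgg0 j))
  refine ⟨⟨V', ‹_›, e, he, a, ha.symm, _, hG, hdiv _, m, hm, b • rs M h2 e₂,
    hν.smul_unit (IsUnit.of_mul_eq_one _ hb1), ?_, F, ?_, hF0, ω, ?_, fun j => ?_, ?_⟩, hxV⟩
  · rw [tens_smul_right, Scheme.Modules.Hom.app_smul]
    exact hb1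
  · rw [← hu, mul_comm (∏ j, gg j ^ α j) (u : Γ(X, V)), mul_pow, ← Finset.prod_pow, ← Finset.prod_pow]
    show (u : Γ(X, V)) ^ i * (∏ j, g' j ^ ρ j) * _ = _
    rw [mul_assoc, ← Finset.prod_mul_distrib]
    refine congrArg (_ * ·) (Finset.prod_congr rfl fun j _ => ?_)
    rw [← hρ, ← pow_mul, ← pow_add, ← pow_mul, mul_comm (α j) i]
    exact congrArg (gg j ^ ·) (Nat.mod_add_div' (i * α j) N)
  · exact hω
  · rw [← Scheme.Modules.Hom.app_smul, hωN, map_add, Scheme.Modules.Hom.app_smul, Scheme.Modules.Hom.app_smul, map_sum]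
    have hι : (Λ.res j).app V ((LogNCD.der Λ).app V u) = 0 :=
      ConcreteCategory.congr_hom (congrArg (fun φ => Scheme.Modules.Hom.app φ V) (Λ.res_ι j)) (d.app V u)
    rw [hι, smul_zero, smul_zero, zero_add, Finset.sum_eq_single j]
    · rw [Scheme.Modules.Hom.app_smul]
      exact congrArg (_ • ·) (hr1 j)
    · intro l _ hl
      rw [Scheme.Modules.Hom.app_smul, show (Λ.res j).app V (dl l) = 0 from hr2 l j hl, smul_zero]
    · intro h; exact absurd (Finset.mem_univ j) h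
  · intro U hU h z hz
    have hU' : ∀ j, (CycCov.poleDiv D α N i j).ideal U = Ideal.span {ro h (g' j)} := fun j => by
      rw [← Scheme.IdealSheafData.map_ideal _ (U := U) (V := V') h, hg', Ideal.map_span, Set.image_singleton]
      rfl
    refine tors_prod (fun j => ro h (g' j)) (Λ.rule U _ hU').1
      (v := ro h ((u : Γ(X, V)) ^ i)) (w := ro h ((↑u⁻¹ : Γ(X, V)) ^ i)) ?_ N ρ (fun j => (Nat.mod_lt _ hN).le) z ?_
    · rw [← ro_mul, ← mul_pow, Units.mul_inv, one_pow]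
      exact map_one _
    · refine Eq.trans (congrArg (· • z) ?_) hz
      rw [ro_mul, show ro h (∏ j, g' j ^ ρ j) = ∏ j, ro h (g' j ^ ρ j) from map_prod _ _ _]
      exact congrArg (_ * ·) (Finset.prod_congr rfl fun j _ => (map_pow _ _ _).symm)

/-! ### The glued connection -/

variable (c c' : Ch s Λ θ)

/-- The value of a chart on a section. -/
def Ch.val {V : X.Opens} (h : V ≤ c.U.1) (z : Γ(M, V)) : Γ(CohB1.tensorMod M Λ.L, V) :=
  tens M Λ.L V (rs M h c.μ) ((c.hμ.exists_coeff h z).choose • rs Λ.L h c.ω +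
    (LogNCD.der Λ).app V (c.hμ.exists_coeff h z).choose)

theorem Ch.val_spec {V : X.Opens} (h : V ≤ c.U.1) {z : Γ(M, V)} {b : Γ(X, V)} (hb : b • rs M h c.μ = z) :
    c.val h z = tens M Λ.L V (rs M h c.μ) (b • rs Λ.L h c.ω + (LogNCD.der Λ).app V b) := by
  have : (c.hμ.exists_coeff h z).choose = b := c.hμ.inj h ((c.hμ.exists_coeff h z).choose_spec.trans hb.symm)
  rw [Ch.val, this]

theorem Ch.val_rs {V V' : X.Opens} (h : V ≤ c.U.1) (h' : V' ≤ V) (z : Γ(M, V)) :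
    rs _ h' (c.val h z) = c.val (h'.trans h) (rs M h' z) := by
  obtain ⟨b, hb⟩ := c.hμ.exists_coeff h z
  rw [c.val_spec h hb, c.val_spec (h'.trans h) (b := ro h' b) (by rw [← hb, rs_smul, rs_rs]), tens_rs, rs_rs,
    rs_add', rs_smul, rs_rs, rs_der]

theorem Ch.val_add {V : X.Opens} (h : V ≤ c.U.1) (z z' : Γ(M, V)) : c.val h (z + z') = c.val h z + c.val h z' := by
  obtain ⟨b, hb⟩ := c.hμ.exists_coeff h z
  obtain ⟨b', hb'⟩ := c.hμ.exists_coeff h z'
  rw [c.val_spec h hb, c.val_spec h hb', c.val_spec h (b := b + b') (by rw [add_smul, hb, hb']), ← tens_add_right]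
  refine congrArg (tens M Λ.L V _) ?_
  rw [add_smul, map_add]
  abel

theorem Ch.val_smul {V : X.Opens} (h : V ≤ c.U.1) (t : Γ(X, V)) (z : Γ(M, V)) :
    c.val h (t • z) = t • c.val h z + tens M Λ.L V z ((LogNCD.der Λ).app V t) := by
  obtain ⟨b, hb⟩ := c.hμ.exists_coeff h z
  rw [c.val_spec h hb, c.val_spec h (b := t * b) (by rw [mul_smul, hb]), ← hb, tens_smul_left, ← tens_smul_right t,
    ← tens_smul_right b, ← tens_add_right]
  refine congrArg (tens M Λ.L V _) ?_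
  rw [der_leibniz, smul_add, mul_smul]
  abel

variable [IsIntegral X]

theorem Ch.transition (hN : 0 < N) (hNk : (N : k) ≠ 0) (V : X.affineOpens) [Nonempty V.1] (h : V.1 ≤ c.U.1)
    (h' : V.1 ≤ c'.U.1) : ∃ v : Γ(X, V.1), rs M h' c'.μ = v • rs M h c.μ ∧
      v • rs Λ.L h' c'.ω = v • rs Λ.L h c.ω + (LogNCD.der Λ).app V.1 v := by
  haveI : Nonempty V.1.toScheme := ‹Nonempty V.1›
  obtain ⟨c₀, hc₀⟩ := (c'.he.mono h').exists_coeff le_rfl (rs L h c.e)
  rw [rs_self] at hc₀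
  have hI : ∀ (p : Ch s Λ θ) (hp : V.1 ≤ p.U.1),
      (CycCov.floorIdeal D α N i).ideal V = Ideal.span {ro hp p.G} := fun p hp => by
    rw [← Scheme.IdealSheafData.map_ideal _ (U := V) (V := p.U) hp, p.hI, Ideal.map_span, Set.image_singleton]
    rfl
  obtain ⟨q, hq⟩ := Ideal.mem_span_singleton'.1
    (((hI c h).symm.trans (hI c' h')).le (Ideal.mem_span_singleton_self (ro h c.G)))
  have hm : rs _ h c.m = q • rs _ h' c'.m := Groth.L03.BlowPt.eq_smul_of_io _ q _ _ (by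
    rw [io_rs, io_rs, c.hm, c'.hm]; exact hq.symm)
  let εc := tens (CohB1.tensorPow L i) (ClSub.idealMod (CycCov.floorIdeal D α N i)) c.U.1 (CycCov.lpow L c.U.1 c.e i) c.m
  let εd := tens (CohB1.tensorPow L i) (ClSub.idealMod (CycCov.floorIdeal D α N i)) c'.U.1 (CycCov.lpow L c'.U.1 c'.e i) c'.m
  have hε : rs (CycCov.intPart L D α N i) h εc = (c₀ ^ i * q) • rs (CycCov.intPart L D α N i) h' εd := by
    show rs (CohB1.tensorMod _ _) h (tens (CohB1.tensorPow L i) (ClSub.idealMod (CycCov.floorIdeal D α N i)) _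
        (CycCov.lpow L c.U.1 c.e i) c.m) = (c₀ ^ i * q) • rs (CohB1.tensorMod _ _) h' (tens (CohB1.tensorPow L i)
        (ClSub.idealMod (CycCov.floorIdeal D α N i)) _ (CycCov.lpow L c'.U.1 c'.e i) c'.m)
    rw [tens_rs, tens_rs, hm, rs_lpow, rs_lpow, ← hc₀, lpow_smul]
    refine (tens_smul_left (c₀ ^ i) _ _).trans ?_
    refine (congrArg (c₀ ^ i • ·) (tens_smul_right q _ _)).trans ?_
    exact (mul_smul (c₀ ^ i) q _).symm
  obtain ⟨v, hv⟩ := (c.hμ.mono h).exists_coeff le_rfl (rs M h' c'.μ)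
  rw [rs_self] at hv
  refine ⟨v, hv.symm, ?_⟩
  let P : Γ(X, V.1) := show Γ(X, V.1) from
    θ.app V.1 (tens (CycCov.intPart L D α N i) M V.1 (rs _ h' εd) (rs M h c.μ))
  have hp1 : c₀ ^ i * q * P = 1 := by
    have e1 := (rs_app θ h (tens (CycCov.intPart L D α N i) M c.U.1 εc c.μ)).symm.trans
      (congrArg (ro h) c.hpair)
    rw [show ro h (1 : Γ(X, c.U.1)) = 1 from map_one _, tens_rs, hε, tens_smul_left, Scheme.Modules.Hom.app_smul] at e1
    exact e1
  have hp2 : v * P = 1 := by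
    have e1 := (rs_app θ h' (tens (CycCov.intPart L D α N i) M c'.U.1 εd c'.μ)).symm.trans
      (congrArg (ro h') c'.hpair)
    rw [show ro h' (1 : Γ(X, c'.U.1)) = 1 from map_one _, tens_rs, ← hv, tens_smul_right,
      Scheme.Modules.Hom.app_smul] at e1
    exact e1
  have hv' : v = c₀ ^ i * q := by
    linear_combination (1 - (c₀ ^ i * q) * P) * 0 + (c₀ ^ i * q) * hp2 - v * hp1
  have hvu : IsUnit v := IsUnit.of_mul_eq_one _ hp2
  have ha : ro h' c'.a = ro h c.a * c₀ ^ N := by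
    refine (isGen_of_isFrame (isFrame_lpow (c'.he.mono h') N)).1 ?_
    have e0 : SecTwist.val s V.1 = rs _ h (SecTwist.val s c.U.1) := (SecTwist.map_val s (homOfLE h)).symm
    have e1 : SecTwist.val s V.1 = rs _ h' (SecTwist.val s c'.U.1) := (SecTwist.map_val s (homOfLE h')).symm
    have e2 := e1.symm.trans e0
    have f1 : rs (CohB1.tensorPow L N) h' (SecTwist.val s c'.U.1) = ro h' c'.a • CycCov.lpow L V.1 (rs L h' c'.e) N := by
      rw [← rs_lpow h' c'.e N]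
      exact (congrArg (rs (CohB1.tensorPow L N) h') c'.ha).trans (rs_smul (CohB1.tensorPow L N) h' c'.a _)
    have f2 : rs (CohB1.tensorPow L N) h (SecTwist.val s c.U.1) = ro h c.a • CycCov.lpow L V.1 (rs L h c.e) N := by
      rw [← rs_lpow h c.e N]
      exact (congrArg (rs (CohB1.tensorPow L N) h) c.ha).trans (rs_smul (CohB1.tensorPow L N) h c.a _)
    have f3 := f1.symm.trans (e2.trans f2)
    rw [← hc₀, lpow_smul, ← mul_smul] at f3
    exact f3
  have hG : ro h' c'.G ≠ 0 := fun h0 => c'.hG (by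
    haveI := c'.ne
    exact map_injective_of_isIntegral X (homOfLE h') (h0.trans (map_zero _).symm))
  have hF : ro h' c'.F = v ^ N * ro h c.F := by
    refine mul_right_cancel₀ (pow_ne_zero N hG) ?_
    have e1 : ro h c.F * ro h c.G ^ N = ro h c.a ^ i := by
      rw [← show ro h (c.G ^ N) = ro h c.G ^ N from map_pow _ _ _, ← ro_mul, c.hF]
      exact map_pow _ _ _
    have e2 : ro h' c'.F * ro h' c'.G ^ N = ro h' c'.a ^ i := by
      rw [← show ro h' (c'.G ^ N) = ro h' c'.G ^ N from map_pow _ _ _, ← ro_mul, c'.hF]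
      exact map_pow _ _ _
    rw [e2, ha, mul_pow, ← e1, ← hq, hv']
    ring
  obtain ⟨K, rfl⟩ : ∃ K, N = K + 1 := ⟨N - 1, (Nat.succ_pred_eq_of_pos hN).symm⟩
  have hωc : (((K + 1 : ℕ) : Γ(X, V.1)) * ro h c.F) • rs Λ.L h c.ω = (LogNCD.der Λ).app V.1 (ro h c.F) := by
    rw [← rs_der, ← c.hω, rs_smul, ro_mul, show ro h ((K + 1 : ℕ) : Γ(X, c.U.1)) = _ from map_natCast _ _]
  have hωd : (((K + 1 : ℕ) : Γ(X, V.1)) * ro h' c'.F) • rs Λ.L h' c'.ω = (LogNCD.der Λ).app V.1 (ro h' c'.F) := by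
    rw [← rs_der, ← c'.hω, rs_smul, ro_mul, show ro h' ((K + 1 : ℕ) : Γ(X, c'.U.1)) = _ from map_natCast _ _]
  rw [hF] at hωd
  rw [der_leibniz, der_pow ((LogNCD.der Λ).app V.1) (der_leibniz _ _) v
    ((↑hvu.unit⁻¹ : Γ(X, V.1)) • (LogNCD.der Λ).app V.1 v) (K + 1)
    (fun _ => by rw [← mul_smul, IsUnit.mul_val_inv, one_smul]), ← hωc] at hωd
  refine sub_eq_zero.1 (c.htors V ‹_› h _ ?_)
  obtain ⟨w, hw⟩ := ((isUnit_natCast f V.1 hNk).mul (hvu.pow K)).exists_left_inv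
  have key : (((K + 1 : ℕ) : Γ(X, V.1)) * v ^ K) • (ro h c.F • (v • rs Λ.L h' c'.ω -
      (v • rs Λ.L h c.ω + (LogNCD.der Λ).app V.1 v))) = 0 := by
    rw [smul_sub, smul_sub, smul_add, smul_add, ← mul_smul, ← mul_smul, ← mul_smul, ← mul_smul, ← mul_smul, sub_eq_zero]
    have hvv : v * ↑hvu.unit⁻¹ = 1 := IsUnit.mul_val_inv hvu
    calc (((K + 1 : ℕ) : Γ(X, V.1)) * v ^ K * ro h c.F * v) • rs Λ.L h' c'.ω
        = (((K + 1 : ℕ) : Γ(X, V.1)) * (v ^ (K + 1) * ro h c.F)) • rs Λ.L h' c'.ω := by congr 1; ring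
      _ = _ := hωd
      _ = _ := by
        simp only [← mul_smul]
        refine congrArg₂ (· + ·) (congrArg (· • _) ?_) (congrArg (· • _) ?_)
        · ring
        · linear_combination (ro h c.F * v ^ K * ((K + 1 : ℕ) : Γ(X, V.1))) * hvv
  have := congrArg (w • ·) key
  rwa [← mul_smul, hw, one_smul, smul_zero] at this

theorem Ch.val_eq (hN : 0 < N) (hNk : (N : k) ≠ 0) (V : X.affineOpens) [Nonempty V.1] (h : V.1 ≤ c.U.1)
    (h' : V.1 ≤ c'.U.1) (z : Γ(M, V.1)) : c.val h z = c'.val h' z := by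
  obtain ⟨v, hμ, hω⟩ := c.transition c' hN hNk V h h'
  obtain ⟨b, hb⟩ := c'.hμ.exists_coeff h' z
  rw [c'.val_spec h' hb, c.val_spec h (b := b * v) (by rw [mul_smul, ← hμ, hb]), hμ, tens_smul_left, ← tens_smul_right]
  refine congrArg (tens M Λ.L V.1 _) ?_
  rw [der_leibniz, smul_add, ← mul_smul v b, mul_comm v b, mul_smul, mul_smul, hω, smul_add]
  abel

theorem Ch.val_compat (hN : 0 < N) (hNk : (N : k) ≠ 0) {V : X.Opens} (h : V ≤ c.U.1) (h' : V ≤ c'.U.1)
    (z : Γ(M, V)) : c.val h z = c'.val h' z := by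
  let OM : TopCat.Sheaf Ab.{u} X.toTopCat :=
    ⟨(CohB1.tensorMod M Λ.L).presheaf, (CohB1.tensorMod M Λ.L).isSheaf⟩
  choose W hW hxW hle using fun x : V => exists_isAffineOpen_mem_and_subset x.2
  refine OM.eq_of_locally_eq' W V (fun x => homOfLE (hle x))
    (fun y hy => Opens.mem_iSup.2 ⟨⟨y, hy⟩, hxW _⟩) _ _ fun x => ?_
  show rs _ (hle x) (c.val h z) = rs _ (hle x) (c'.val h' z)
  rw [c.val_rs h (hle x), c'.val_rs h' (hle x)]
  haveI : Nonempty (⟨W x, hW x⟩ : X.affineOpens).1 := ⟨⟨x.1, hxW x⟩⟩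
  exact c.val_eq c' hN hNk ⟨W x, hW x⟩ _ _ _

omit c c' in
theorem exists_conn (hN : 0 < N) (hNk : (N : k) ≠ 0) (hcov : ∀ x : X, ∃ c : Ch s Λ θ, x ∈ c.U.1) :
    ∃ nabla : Coh.toAb M ⟶ Coh.toAb (CohB1.tensorMod M Λ.L), ConnSh.IsConn (LogNCD.der Λ) M nabla ∧
      ∀ (c : Ch s Λ θ) (V O : X.Opens) (hO : V ≤ O) (h : V ≤ c.U.1) (z : Γ(M, O)),
        rs (CohB1.tensorMod M Λ.L) hO (ConnSh.secApp nabla O z) = c.val h (rs M hO z) := by
  choose c hc using hcov
  let OM : TopCat.Sheaf Ab.{u} X.toTopCat :=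
    ⟨(CohB1.tensorMod M Λ.L).presheaf, (CohB1.tensorMod M Λ.L).isSheaf⟩
  have hglue : ∀ (O : X.Opens) (z : Γ(M, O)), ∃! y : Γ(CohB1.tensorMod M Λ.L, O),
      ∀ x, rs _ (inf_le_left : O ⊓ (c x).U.1 ≤ O) y = (c x).val inf_le_right (rs M inf_le_left z) := by
    intro O z
    refine OM.existsUnique_gluing' (fun x => O ⊓ (c x).U.1) O
      (fun x => homOfLE inf_le_left) (fun y hy => Opens.mem_iSup.2 ⟨y, hy, hc y⟩)
      (fun x => (c x).val inf_le_right (rs M inf_le_left z)) fun x y => ?_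
    show rs _ (inf_le_left : (O ⊓ (c x).U.1) ⊓ (O ⊓ (c y).U.1) ≤ O ⊓ (c x).U.1) _ =
      rs _ (inf_le_right : (O ⊓ (c x).U.1) ⊓ (O ⊓ (c y).U.1) ≤ O ⊓ (c y).U.1) _
    rw [(c x).val_rs inf_le_right (inf_le_left : (O ⊓ (c x).U.1) ⊓ (O ⊓ (c y).U.1) ≤ O ⊓ (c x).U.1),
      (c y).val_rs inf_le_right (inf_le_right : (O ⊓ (c x).U.1) ⊓ (O ⊓ (c y).U.1) ≤ O ⊓ (c y).U.1), rs_rs, rs_rs]
    exact (c x).val_compat (c y) hN hNk _ _ _
  choose y hy hyu using hglue
  have huniq : ∀ (O : X.Opens) (z : Γ(M, O)) (y' : Γ(CohB1.tensorMod M Λ.L, O)), (∀ (p : Ch s Λ θ) (V : X.Opens)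
      (hO : V ≤ O) (hp : V ≤ p.U.1), rs _ hO y' = p.val hp (rs M hO z)) → y' = y O z :=
    fun O z y' h => hyu O z y' fun x => h (c x) _ inf_le_left inf_le_right
  have hspec : ∀ (O : X.Opens) (z : Γ(M, O)) (p : Ch s Λ θ) (V : X.Opens) (hO : V ≤ O) (hp : V ≤ p.U.1),
      rs _ hO (y O z) = p.val hp (rs M hO z) := fun O z p V hO hp => by
    refine OM.eq_of_locally_eq' (fun x => V ⊓ (c x).U.1) V
      (fun x => homOfLE inf_le_left) (fun w hw => Opens.mem_iSup.2 ⟨w, hw, hc w⟩) _ _ fun x => ?_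
    show rs _ (inf_le_left : V ⊓ (c x).U.1 ≤ V) (rs _ _ (y O z)) = rs _ _ _
    rw [rs_rs, p.val_rs hp (inf_le_left : V ⊓ (c x).U.1 ≤ V), rs_rs,
      ← rs_rs _ (inf_le_left : O ⊓ (c x).U.1 ≤ O) (inf_le_inf_right _ hO : V ⊓ (c x).U.1 ≤ O ⊓ (c x).U.1),
      hy O z x, (c x).val_rs inf_le_right (inf_le_inf_right _ hO : V ⊓ (c x).U.1 ≤ O ⊓ (c x).U.1), rs_rs]
    exact (c x).val_compat p hN hNk _ _ _
  have hadd : ∀ (O : X.Opens) (z z' : Γ(M, O)), y O (z + z') = y O z + y O z' := fun O z z' =>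
    (huniq O (z + z') _ fun p V hO hp => by
      rw [rs_add', hspec O z p V hO hp, hspec O z' p V hO hp, rs_add', p.val_add]).symm
  let nabla : Coh.toAb M ⟶ Coh.toAb (CohB1.tensorMod M Λ.L) := ⟨
    { app := fun O => AddCommGrpCat.ofHom (AddMonoidHom.mk' (fun z : Γ(M, O.unop) => y O.unop z) (hadd O.unop))
      naturality := fun {U V} j => ConcreteCategory.hom_ext _ _ fun (z : Γ(M, U.unop)) => by
        refine (huniq V.unop _ _ fun p W hO hp => ?_).symm
        show rs _ hO (rs _ j.unop.le (y U.unop z)) = p.val hp (rs M hO (rs M j.unop.le z))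
        rw [rs_rs, rs_rs, hspec U.unop z p W (hO.trans j.unop.le) hp] }⟩
  refine ⟨nabla, fun O t z₀ => ?_, fun p V O hO hp z => hspec O z p V hO hp⟩
  let z : Γ(M, O) := z₀
  show y O (t • z) = t • y O z + tens M Λ.L O z ((LogNCD.der Λ).app O t)
  refine (huniq O (t • z) _ fun p V hO hp => ?_).symm
  rw [rs_add', rs_smul, rs_smul, hspec O z p V hO hp, tens_rs, rs_der, p.val_smul]

omit c c' in
/-- The connection with its residues. -/
theorem exists_logConn [IsAlgClosed k] [Smooth f] (hL : PicF.IsInvertible L) (hN : 0 < N) (hNk : (N : k) ≠ 0)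
    (hD : LogNCD.IsNCD D f) (hs : CycCov.IsZeroDiv (CohB1.tensorPow L N) s (CycCov.divIdeal D α)) [IsIso θ] :
    ∃ nabla : Coh.toAb M ⟶ Coh.toAb (CohB1.tensorMod M Λ.L),
      ConnSh.IsConn (LogNCD.der Λ) M nabla ∧
      ∀ j : Fin r, ∃ ρ : M ⟶ CohB1.tensorMod M (ClSub.quotMod (CycCov.poleDiv D α N i j)),
        LogNCD.IsResidue Λ M nabla j ρ ∧
        N • ρ = CycCov.resNum α N i j •
          ((SecTwist.unitorR M).inv ≫ KoszTw.tensorMap (𝟙 M) (ClSub.toSubscheme (CycCov.poleDiv D α N i j))) := by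
  have hinv : PicF.IsInvertible (ClSub.idealMod (CycCov.floorIdeal D α N i)) := by
    rw [Groth.Agent.L19.IdealInvertible.isEffCartier_iff]
    intro x
    obtain ⟨V, hxV, -, gg, hgg0, -, hdiv⟩ := exists_gg hD x (O := ⊤) trivial
    haveI : Nonempty V.1 := ⟨⟨_, hxV⟩⟩
    haveI : Nonempty V.1.toScheme := ⟨⟨_, hxV⟩⟩
    exact ⟨V, hxV, _, mem_nonZeroDivisors_of_ne_zero (Finset.prod_ne_zero_iff.2 fun j _ => pow_ne_zero _ (hgg0 j)),
      hdiv fun j => i * α j / N⟩
  have hcov := fun x => exists_ch (Λ := Λ) (θ := θ) hL hN hNk hD hs hinv x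
  obtain ⟨nabla, hconn, hspec⟩ := exists_conn hN hNk hcov
  refine ⟨nabla, hconn, fun j => ?_⟩
  let σ : Γ(X, ⊤) := f.appTop ((Scheme.ΓSpecIso (CommRingCat.of k)).inv ((CycCov.resNum α N i j : k) / N))
  let cc : M ⟶ CohB1.tensorMod M (ClSub.quotMod (CycCov.poleDiv D α N i j)) :=
    (SecTwist.unitorR M).inv ≫ KoszTw.tensorMap (𝟙 M) (ClSub.toSubscheme (CycCov.poleDiv D α N i j))
  have hcc : ∀ (O : X.Opens) (z : Γ(M, O)), cc.app O z = tens M _ O z (one' _ O) := fun O z => by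
    show (KoszTw.tensorMap _ _).app O ((SecTwist.unitorR M).inv.app O z) = _
    rw [unitorR_inv_app]
    exact KoszTw.tensorMap_tmul _ _ O z _
  let ρ := cc ≫ Formal.smulModΓ _ σ
  have hρ : ∀ (O : X.Opens) (z : Γ(M, O)), ρ.app O z = ro (le_top : O ≤ ⊤) σ • tens M _ O z (one' _ O) :=
    fun O z => by
      show (Formal.smulModΓ _ σ).app O (cc.app O z) = _
      rw [hcc]
      exact KLin.smulModΓ_app_apply _ σ O _
  have hσ : ∀ O : X.Opens, (N : Γ(X, O)) * ro (le_top : O ≤ ⊤) σ = (CycCov.resNum α N i j : Γ(X, O)) := fun O => by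
    let φ : k →+* Γ(X, O) := (X.presheaf.map (homOfLE (le_top : O ≤ ⊤)).op).hom.comp
      (f.appTop.hom.comp (Scheme.ΓSpecIso (CommRingCat.of k)).inv.hom)
    show _ * φ ((CycCov.resNum α N i j : k) / N) = _
    rw [← map_natCast φ N, ← map_mul, mul_div_cancel₀ _ hNk, map_natCast]
  refine ⟨ρ, smulAb_ext fun O z => ?_, ?_⟩
  · show ρ.app O z = (KoszTw.tensorMap (𝟙 M) (Λ.res j)).app O (ConnSh.secApp nabla O z)
    let OT : TopCat.Sheaf Ab.{u} X.toTopCat := ⟨(CohB1.tensorMod M (ClSub.quotMod (CycCov.poleDiv D α N i j))).presheaf,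
      (CohB1.tensorMod M (ClSub.quotMod (CycCov.poleDiv D α N i j))).isSheaf⟩
    choose p hp using hcov
    refine OT.eq_of_locally_eq' (fun x => O ⊓ (p x).U.1) O
      (fun x => homOfLE inf_le_left) (fun w hw => Opens.mem_iSup.2 ⟨w, hw, hp w⟩) _ _ fun x => ?_
    show rs _ (inf_le_left : O ⊓ (p x).U.1 ≤ O) (ρ.app O z) = rs _ (inf_le_left : O ⊓ (p x).U.1 ≤ O) _
    rw [hρ, rs_smul, ro_ro, tens_rs, rs_one', rs_app, hspec (p x) _ O inf_le_left inf_le_right z]
    obtain ⟨b, hb⟩ := (p x).hμ.exists_coeff (inf_le_right : O ⊓ (p x).U.1 ≤ _) (rs M inf_le_left z)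
    rw [(p x).val_spec _ hb, ← hb, tens_smul_left]
    refine Eq.trans ?_ (KoszTw.tensorMap_tmul (𝟙 M) (Λ.res j) _ _ _).symm
    show _ = tens M _ _ (rs M _ (p x).μ) ((Λ.res j).app _ _)
    have h0 : (Λ.res j).app (O ⊓ (p x).U.1) ((LogNCD.der Λ).app _ b) = 0 :=
      ConcreteCategory.congr_hom (congrArg (fun φ => Scheme.Modules.Hom.app φ (O ⊓ (p x).U.1)) (Λ.res_ι j))
        (d.app _ b)
    rw [map_add, h0, add_zero, Scheme.Modules.Hom.app_smul, tens_smul_right]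
    have h1 : (Λ.res j).app (O ⊓ (p x).U.1) (rs Λ.L inf_le_right (p x).ω) =
        ro (le_top : O ⊓ (p x).U.1 ≤ ⊤) σ • one' (CycCov.poleDiv D α N i j) (O ⊓ (p x).U.1) := by
      obtain ⟨w, hw⟩ := (isUnit_natCast f (O ⊓ (p x).U.1) hNk).exists_left_inv
      have e1 := congrArg (rs _ (inf_le_right : O ⊓ (p x).U.1 ≤ (p x).U.1)) ((p x).hres j)
      rw [rs_smul, rs_smul, rs_app, rs_one', show ro (inf_le_right : O ⊓ (p x).U.1 ≤ (p x).U.1)
        (N : Γ(X, (p x).U.1)) = _ from map_natCast _ _, show ro (inf_le_right : O ⊓ (p x).U.1 ≤ (p x).U.1)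
        (CycCov.resNum α N i j : Γ(X, (p x).U.1)) = _ from map_natCast _ _, ← hσ, mul_smul] at e1
      have := congrArg (w • ·) e1
      rwa [← mul_smul, ← mul_smul, hw, one_smul, one_smul] at this
    rw [h1, tens_smul_right, ← mul_smul, ← mul_smul, mul_comm]
  · refine Scheme.Modules.hom_ext _ _ fun O => ?_
    ext z
    show (N • ρ).app O z = (CycCov.resNum α N i j • cc).app O z
    rw [nsmul_app, nsmul_app, hρ, hcc, ← Nat.cast_smul_eq_nsmul Γ(X, O), ← Nat.cast_smul_eq_nsmul Γ(X, O), ← mul_smul, hσ]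

end Groth.L16.CycCov
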