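import Groth.Prelude.Def_LogNCD
import Groth.Agent.L16.CycCov.Model
import Mathlib.AlgebraicGeometry.AffineSpace
import Mathlib.AlgebraicGeometry.Morphisms.Etale
import Mathlib.RingTheory.RingHom.Etale
import Mathlib.RingTheory.RingHom.Smooth
import Mathlib.Algebra.MvPolynomial.PDeriv

/-!
# Affine charts adapted to a component of a normal crossing divisor
-/

set_option autoImplicit false
set_option linter.style.haveILetI false

universe u

open CategoryTheory AlgebraicGeometry TopologicalSpace Opposite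

noncomputable section

namespace Groth.L16.CycCov

variable {k : Type u} [Field k] {X : Scheme.{u}}

/-- The structure map of the sections over `U`. -/
def κ (f : X ⟶ Spec (CommRingCat.of k)) (U : X.Opens) : k →+* Γ(X, U) :=
  ((Scheme.ΓSpecIso (CommRingCat.of k)).inv ≫ f.appLE ⊤ U le_top).hom

/-- The sections over `U` as an algebra. -/
@[implicit_reducible]
def algK (f : X ⟶ Spec (CommRingCat.of k)) (U : X.Opens) : Algebra k Γ(X, U) := (κ f U).toAlgebra

theorem smooth_algK (f : X ⟶ Spec (CommRingCat.of k)) [Smooth f] {U : X.Opens} (hU : IsAffineOpen U) :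
    letI := algK f U
    Algebra.Smooth k Γ(X, U) := by
  letI := algK f U
  rw [← RingHom.smooth_algebraMap]
  have h : (f.appLE ⊤ U le_top).hom.Smooth :=
    HasRingHomProperty.appLE (P := @Smooth) f ‹Smooth f› ⟨⊤, isAffineOpen_top _⟩ ⟨U, hU⟩ le_top
  exact RingHom.Smooth.respectsIso.2 _ (Scheme.ΓSpecIso (CommRingCat.of k)).symm.commRingCatIsoToRingEquiv h

theorem specIso_hom_appTop_X {σ : Type u} (R : CommRingCat.{u}) (i : σ) :
    (AffineSpace.SpecIso σ R).hom.appTop ((Scheme.ΓSpecIso (CommRingCat.of (MvPolynomial σ R))).inv (MvPolynomial.X i)) =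
      AffineSpace.coord (Spec R) i := by
  rw [← AffineSpace.SpecIso_inv_appTop_coord]
  have h : (AffineSpace.SpecIso σ R).inv.appTop ≫ (AffineSpace.SpecIso σ R).hom.appTop = 𝟙 _ := by
    rw [← Scheme.Hom.comp_appTop, Iso.hom_inv_id, Scheme.Hom.id_appTop]
  exact ConcreteCategory.congr_hom h _

theorem ofHom_congr {A : Type u} [CommRing A] {B T : Type u} [CommRing B] [CommRing T] {c : A →+* B}
    {rest : CommRingCat.of B ⟶ CommRingCat.of T} {tgt : CommRingCat.of A ⟶ CommRingCat.of T}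
    (h : CommRingCat.ofHom c ≫ rest = tgt) (a : A) : rest.hom (c a) = tgt.hom a := by
  rw [← h]
  rfl

set_option maxHeartbeats 300000 in
theorem exists_chart_ring (f : X ⟶ Spec (CommRingCat.of k)) (W : X.Opens) {n : ℕ} (v : ULift.{u} (Fin n) → Γ(W, ⊤))
    (hét : Etale (AffineSpace.homOfVector (W.ι ≫ f) v)) {U : X.Opens} (hU : IsAffineOpen U) (hUW : U ≤ W) :
    ∃ ψ : MvPolynomial (ULift.{u} (Fin n)) k →+* Γ(X, U), ψ.Etale ∧
      (∀ a : k, ψ (MvPolynomial.C a) = κ f U a) ∧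
      (∀ i, ψ (MvPolynomial.X i) = LogNCD.sectOn W hUW (v i)) := by
  haveI : IsAffine (U : Scheme.{u}) := hU
  let P := MvPolynomial (ULift.{u} (Fin n)) k
  let g : (U : Scheme.{u}) ⟶ Spec (CommRingCat.of P) :=
    X.homOfLE hUW ≫ AffineSpace.homOfVector (W.ι ≫ f) v ≫ (AffineSpace.SpecIso _ (CommRingCat.of k)).hom
  haveI := hét
  haveI : Etale g := inferInstanceAs (Etale (_ ≫ _ ≫ _))
  let ψ : P →+* Γ(X, U) := ((Scheme.ΓSpecIso (CommRingCat.of P)).inv ≫ g.appTop ≫ U.topIso.hom).hom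
  have hψC : ∀ a : k, ψ (MvPolynomial.C a) = κ f U a := by
    have h2 : g ≫ Spec.map (CommRingCat.ofHom (MvPolynomial.C : k →+* P)) = U.ι ≫ f := by
      have h0 := AffineSpace.SpecIso_inv_over (n := ULift.{u} (Fin n)) (CommRingCat.of k)
      calc g ≫ Spec.map (CommRingCat.ofHom (MvPolynomial.C : k →+* P))
          = g ≫ (AffineSpace.SpecIso _ (CommRingCat.of k)).inv ≫
              𝔸(ULift.{u} (Fin n); Spec (CommRingCat.of k)) ↘ Spec (CommRingCat.of k) := congrArg (g ≫ ·) h0.symm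
        _ = U.ι ≫ f := by
          simp only [g, Category.assoc, Iso.hom_inv_id_assoc, AffineSpace.homOfVector_over, Scheme.homOfLE_ι_assoc]
    intro a
    have h3 : (Spec.map (CommRingCat.ofHom (MvPolynomial.C : k →+* P))).appTop ≫ g.appTop = f.appTop ≫ U.ι.appTop :=
      (Scheme.Hom.comp_appTop g _).symm.trans ((congrArg Scheme.Hom.appTop h2).trans (Scheme.Hom.comp_appTop U.ι f))
    have h4 : CommRingCat.ofHom (MvPolynomial.C : k →+* P) ≫ (Scheme.ΓSpecIso (CommRingCat.of P)).inv ≫ g.appTop ≫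
        U.topIso.hom = (Scheme.ΓSpecIso (CommRingCat.of k)).inv ≫ f.appLE ⊤ U le_top := by
      rw [Scheme.ΓSpecIso_inv_naturality_assoc, reassoc_of% h3, Scheme.Opens.ι_appTop,
        Scheme.Opens.topIso_hom, Scheme.Hom.appLE]
      exact congrArg (fun q => (Scheme.ΓSpecIso (CommRingCat.of k)).inv ≫ f.appTop ≫ q)
        (X.presheaf.map_comp _ _).symm
    exact ofHom_congr h4 a
  have hψX : ∀ i, ψ (MvPolynomial.X i) = LogNCD.sectOn W hUW (v i) := fun i => by
    have hgX : g.appTop ((Scheme.ΓSpecIso (CommRingCat.of P)).inv (MvPolynomial.X i)) =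
        (X.homOfLE hUW).appTop (v i) := by
      simp only [g, P, Scheme.Hom.comp_appTop, CommRingCat.comp_apply]
      rw [specIso_hom_appTop_X (CommRingCat.of k) i, AffineSpace.homOfVector_appTop_coord]
    have h5 : (X.homOfLE hUW).appTop ≫ U.topIso.hom = W.topIso.hom ≫ X.presheaf.map (homOfLE hUW).op := by
      rw [Scheme.homOfLE_appTop, Scheme.Opens.topIso_hom, Scheme.Opens.topIso_hom]
      exact ((X.presheaf.map_comp _ _).symm.trans (congrArg X.presheaf.map (Subsingleton.elim _ _))).trans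
        (X.presheaf.map_comp _ _)
    rw [LogNCD.sectOn_apply]
    exact (congrArg (fun q => U.topIso.hom q) hgX).trans (ConcreteCategory.congr_hom h5 (v i))
  refine ⟨ψ, ?_, hψC, hψX⟩
  have h : g.appTop.hom.Etale := (HasRingHomProperty.iff_of_isAffine (P := @Etale)).1 ‹Etale g›
  exact RingHom.Etale.respectsIso.2 _ (Scheme.ΓSpecIso (CommRingCat.of P)).symm.commRingCatIsoToRingEquiv
    (RingHom.Etale.respectsIso.1 _ U.topIso.commRingCatIsoToRingEquiv h)

theorem exists_chart (f : X ⟶ Spec (CommRingCat.of k)) {r : ℕ} {D : Fin r → X.IdealSheafData}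
    (hD : LogNCD.IsNCD D f) {x : X} {j : Fin r} (hx : x ∈ (D j).support) {O : X.Opens} (hO : x ∈ O) :
    ∃ (U : X.affineOpens) (g : Γ(X, U.1)), x ∈ U.1 ∧ U.1 ≤ O ∧ (D j).ideal U = Ideal.span {g} ∧
      letI := algK f U.1
      ∃ δ : Derivation k Γ(X, U.1) Γ(X, U.1), δ g = 1 := by
  obtain ⟨W, hxW, n, v, e, -, hét, hgen, -⟩ := hD x ⟨⟨j, hx⟩⟩
  obtain ⟨U, hU, hxU, hUle⟩ := exists_isAffineOpen_mem_and_subset (show x ∈ W ⊓ O from ⟨hxW, hO⟩)
  have hUW : U ≤ W := fun z hz => (hUle hz).1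
  refine ⟨⟨U, hU⟩, LogNCD.sectOn W hUW (v (ULift.up (e ⟨j, hx⟩))), hxU, fun z hz => (hUle hz).2,
    hgen ⟨j, hx⟩ ⟨U, hU⟩ hUW, ?_⟩
  letI := algK f U
  obtain ⟨ψ, hψ, hψC, hψX⟩ := exists_chart_ring f W v hét hU hUW
  letI : Algebra (MvPolynomial (ULift.{u} (Fin n)) k) Γ(X, U) := ψ.toAlgebra
  haveI : IsScalarTower k (MvPolynomial (ULift.{u} (Fin n)) k) Γ(X, U) :=
    IsScalarTower.of_algebraMap_eq fun a => (hψC a).symm
  haveI : Algebra.Etale (MvPolynomial (ULift.{u} (Fin n)) k) Γ(X, U) := hψ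
  obtain ⟨δ, hδ⟩ := exists_derivation_etale (k := k) (B' := Γ(X, U)) (MvPolynomial.pderiv (ULift.up (e ⟨j, hx⟩)))
  refine ⟨δ, ?_⟩
  rw [← hψX, show ψ (MvPolynomial.X (ULift.up (e ⟨j, hx⟩))) = algebraMap (MvPolynomial (ULift.{u} (Fin n)) k) Γ(X, U) (MvPolynomial.X (ULift.up (e ⟨j, hx⟩))) from rfl,
    hδ, MvPolynomial.pderiv_X_self, map_one]

end Groth.L16.CycCov
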