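import Groth.Agent.L16.CycCov.Branch
import Groth.Agent.L16.CycCov.Coords

/-!
# The reduced preimage of the branch divisor has normal crossings
-/

set_option autoImplicit false
set_option linter.style.haveILetI false

universe u

open CategoryTheory AlgebraicGeometry TopologicalSpace Opposite
open Groth.L18.Frame
open Groth.L02.CycCover

noncomputable section

namespace Groth.L16.CycCov

variable {k : Type u} [Field k]

theorem etale_homOfVector {Y : Scheme.{u}} [IsAffine Y] {σ : Type u} (h : Y ⟶ Spec (CommRingCat.of k))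
    (v : σ → Γ(Y, ⊤)) (ψ : MvPolynomial σ k →+* Γ(Y, ⊤)) (hψ : ψ.Etale)
    (hC : ∀ c : k, ψ (MvPolynomial.C c) = h.appTop ((Scheme.ΓSpecIso (CommRingCat.of k)).inv c))
    (hX : ∀ i, ψ (MvPolynomial.X i) = v i) : Etale (AffineSpace.homOfVector h v) := by
  let g := AffineSpace.homOfVector h v ≫ (AffineSpace.SpecIso σ (CommRingCat.of k)).hom
  suffices hg : Etale g by
    rw [show AffineSpace.homOfVector h v = g ≫ (AffineSpace.SpecIso σ (CommRingCat.of k)).inv by
      simp only [g, Category.assoc, Iso.hom_inv_id, Category.comp_id]]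
    infer_instance
  have h2 : g ≫ Spec.map (CommRingCat.ofHom (MvPolynomial.C : k →+* MvPolynomial σ k)) = h := by
    have h0 := AffineSpace.SpecIso_inv_over (n := σ) (CommRingCat.of k)
    calc g ≫ Spec.map (CommRingCat.ofHom (MvPolynomial.C : k →+* MvPolynomial σ k))
        = g ≫ (AffineSpace.SpecIso _ (CommRingCat.of k)).inv ≫
            𝔸(σ; Spec (CommRingCat.of k)) ↘ Spec (CommRingCat.of k) := congrArg (g ≫ ·) h0.symm
      _ = h := by
        simp only [g, Category.assoc, Iso.hom_inv_id_assoc, AffineSpace.homOfVector_over]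
  have key : ((Scheme.ΓSpecIso (CommRingCat.of (MvPolynomial σ k))).inv ≫ g.appTop).hom = ψ := by
    refine MvPolynomial.ringHom_ext (fun c => ?_) fun i => ?_
    · have h4 : CommRingCat.ofHom (MvPolynomial.C : k →+* MvPolynomial σ k) ≫
          ((Scheme.ΓSpecIso (CommRingCat.of (MvPolynomial σ k))).inv ≫ g.appTop) =
          (Scheme.ΓSpecIso (CommRingCat.of k)).inv ≫ h.appTop := by
        rw [Scheme.ΓSpecIso_inv_naturality_assoc]
        exact congrArg ((Scheme.ΓSpecIso (CommRingCat.of k)).inv ≫ ·)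
          ((Scheme.Hom.comp_appTop g _).symm.trans (congrArg Scheme.Hom.appTop h2))
      exact (ofHom_congr h4 c).trans (hC c).symm
    · rw [hX i]
      simp only [g, Scheme.Hom.comp_appTop, CommRingCat.hom_comp, RingHom.comp_apply]
      rw [specIso_hom_appTop_X (CommRingCat.of k) i, AffineSpace.homOfVector_appTop_coord]
  rw [HasRingHomProperty.iff_of_isAffine (P := @Etale)]
  rw [← key] at hψ
  have := RingHom.Etale.respectsIso.2 _ (Scheme.ΓSpecIso (CommRingCat.of (MvPolynomial σ k))).commRingCatIsoToRingEquiv hψ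
  refine (congrArg RingHom.Etale (RingHom.ext fun z => ?_)).mp this
  show g.appTop ((Scheme.ΓSpecIso _).inv ((Scheme.ΓSpecIso _).hom z)) = g.appTop z
  rw [Iso.hom_inv_id_apply]

/-- Étale coordinates cut out reduced hypersurfaces. -/
theorem isRadical_coord {σ : Type u} [Finite σ] [DecidableEq σ] {C : Type u} [CommRing C]
    (ψ : MvPolynomial σ k →+* C) (hψ : ψ.Etale) (i : σ) : (Ideal.span {ψ (MvPolynomial.X i)}).IsRadical := by
  letI : Algebra (MvPolynomial σ k) C := ψ.toAlgebra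
  haveI : Algebra.Etale (MvPolynomial σ k) C := hψ
  letI : Algebra k C := (ψ.comp MvPolynomial.C).toAlgebra
  haveI : IsScalarTower k (MvPolynomial σ k) C := IsScalarTower.of_algebraMap_eq fun _ => rfl
  haveI : Algebra.Smooth k (MvPolynomial σ k) := ⟨inferInstance, inferInstance⟩
  haveI : Algebra.Smooth (MvPolynomial σ k) C := ⟨inferInstance, inferInstance⟩
  haveI : Algebra.Smooth k C := Algebra.Smooth.comp k (MvPolynomial σ k) C
  obtain ⟨δ, hδ⟩ := exists_derivation_etale (k := k) (B' := C) (MvPolynomial.pderiv i)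
  haveI : Algebra.Smooth k (C ⧸ Ideal.span {ψ (MvPolynomial.X i)}) :=
    Groth.L24.Bertini.smooth_quotient_derivation _ 0 δ (by
      rw [zero_mul, zero_add, show ψ (MvPolynomial.X i) = algebraMap (MvPolynomial σ k) C (MvPolynomial.X i) from rfl,
        hδ, MvPolynomial.pderiv_X_self, map_one])
  have hN := Groth.L19.SmoothNormal.isNormalRing_of_smooth k (C ⧸ Ideal.span {ψ (MvPolynomial.X i)})
    (fun p _ => ⟨inferInstance, inferInstance⟩)
  rw [Ideal.isRadical_iff_quotient_reduced]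
  exact isReduced_ofLocalizationMaximal _ fun p hp => by
    haveI := (hN p).1
    infer_instance

variable [IsAlgClosed k] {X Y : Scheme.{u}} {L : X.Modules} {N : ℕ}
  {s : Coh.structureModule X ⟶ CohB1.tensorPow L N} {π : Y ⟶ X} {r : ℕ} {D : Fin r → X.IdealSheafData}
  {α : Fin r → ℕ}

omit [IsAlgClosed k] in
/-- A chart of the cover adapted to the divisor, from coordinates on an open part. -/
theorem ncd_of_local [IsAffineHom π] (f : X ⟶ Spec (CommRingCat.of k)) {y : Y} {W : X.Opens} {n : ℕ}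
    (v : ULift.{u} (Fin n) → Γ(W, ⊤)) (e : LogNCD.Through D (π y) → Fin n) (he : Function.Injective e)
    (hgen : ∀ (i : LogNCD.Through D (π y)) (U : X.affineOpens) (h : U.1 ≤ W),
      (D i.1).ideal U = Ideal.span {LogNCD.sectOn W h (v (ULift.up (e i)))})
    (hout : ∀ i, π y ∉ (D i).support → ∀ U : X.affineOpens, U.1 ≤ W → (D i).ideal U = ⊤)
    {U : X.Opens} (hU : IsAffineOpen U) (hUW : U ≤ W) {V : Y.Opens} (hV : IsAffineOpen V) (hVU : V ≤ π ⁻¹ᵁ U)
    (hyV : y ∈ V) (ψ : MvPolynomial (ULift.{u} (Fin n)) k →+* Γ(Y, V)) (hψ : ψ.Etale)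
    (hC : ∀ c : k, ψ (MvPolynomial.C c) = π.appLE U V hVU (κ f U c))
    (hrad : ∀ i : LogNCD.Through D (π y),
      (Ideal.span {π.appLE U V hVU (LogNCD.sectOn W hUW (v (ULift.up (e i))))}).radical =
        (Ideal.span {ψ (MvPolynomial.X (ULift.up (e i)))}).radical) :
    ∃ (W' : Y.Opens) (_ : y ∈ W') (v' : ULift.{u} (Fin n) → Γ(W', ⊤))
      (e' : LogNCD.Through (fun j => ((D j).comap π).radical) y → Fin n),
      Function.Injective e' ∧ Etale (AffineSpace.homOfVector (W'.ι ≫ π ≫ f) v') ∧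
      (∀ (i : LogNCD.Through (fun j => ((D j).comap π).radical) y) (V' : Y.affineOpens) (h : V'.1 ≤ W'),
        ((D i.1).comap π).radical.ideal V' = Ideal.span {LogNCD.sectOn W' h (v' (ULift.up (e' i)))}) ∧
      (∀ i, y ∉ ((D i).comap π).radical.support → ∀ V' : Y.affineOpens, V'.1 ≤ W' →
        ((D i).comap π).radical.ideal V' = ⊤) := by
  classical
  have hsupp : ∀ i, y ∈ ((D i).comap π).radical.support ↔ π y ∈ (D i).support := fun i => by
    rw [Scheme.IdealSheafData.support_radical, Scheme.IdealSheafData.support_comap]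
    exact Iff.rfl
  refine ⟨V, hyV, fun i => V.topIso.inv (ψ (MvPolynomial.X i)), fun i => e ⟨i.1, (hsupp i.1).1 i.2⟩,
    fun i i' h => Subtype.ext (congrArg Subtype.val (he h) :), ?_, fun i V' h => ?_, fun i hi V' h => ?_⟩
  · haveI : IsAffine (V : Scheme.{u}) := hV
    refine etale_homOfVector (V.ι ≫ π ≫ f) _ (V.topIso.inv.hom.comp ψ)
      (RingHom.Etale.respectsIso.1 _ V.topIso.symm.commRingCatIsoToRingEquiv hψ) (fun c => ?_) fun i => rfl
    rw [RingHom.comp_apply, hC c]
    have e1 : (V.ι ≫ π ≫ f).appTop = f.appLE ⊤ U le_top ≫ π.appLE U V hVU ≫ V.topIso.inv := by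
      rw [Scheme.Hom.comp_appTop, Scheme.Opens.ι_appTop, ← Category.assoc (f.appLE ⊤ U le_top),
        Scheme.Hom.appLE_comp_appLE, Scheme.Opens.topIso_inv, Scheme.Hom.appLE, Category.assoc]
      exact congrArg ((π ≫ f).appTop ≫ ·) (Y.presheaf.map_comp _ _)
    rw [e1]
    rfl
  · have h0 : ((D i.1).comap π).radical.ideal ⟨V, hV⟩ =
        Ideal.span {ψ (MvPolynomial.X (ULift.up (e ⟨i.1, (hsupp i.1).1 i.2⟩)))} := by
      rw [Scheme.IdealSheafData.radical_ideal, Groth.L22.Ideals.comap_ideal π (D i.1) ⟨U, hU⟩ ⟨V, hV⟩ hVU,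
        hgen ⟨i.1, (hsupp i.1).1 i.2⟩ ⟨U, hU⟩ hUW, Ideal.map_span, Set.image_singleton]
      exact (hrad ⟨i.1, (hsupp i.1).1 i.2⟩).trans (isRadical_coord ψ hψ _).radical
    rw [← Scheme.IdealSheafData.map_ideal _ (U := V') (V := ⟨V, hV⟩) h, h0, Ideal.map_span, Set.image_singleton,
      LogNCD.sectOn_apply]
    simp only [Iso.inv_hom_id_apply]
    rfl
  · rw [← Scheme.IdealSheafData.map_ideal _ (U := V') (V := ⟨V, hV⟩) h, Scheme.IdealSheafData.radical_ideal,
      Groth.L22.Ideals.comap_ideal π (D i) ⟨U, hU⟩ ⟨V, hV⟩ hVU, hout i (fun h => hi ((hsupp i).2 h)) ⟨U, hU⟩ hUW,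
      Ideal.map_top, Ideal.radical_top, Ideal.map_top]

theorem isNCD_radical_comap [IsIntegral X] (f : X ⟶ Spec (CommRingCat.of k)) [Smooth f] (hL : PicF.IsInvertible L)
    (R : CycCov.Root L N s π) (hN : 0 < N) (hNk : (N : k) ≠ 0) (hR : CycCov.IsCover R) (hD : LogNCD.IsNCD D f)
    (hs : CycCov.IsZeroDiv (CohB1.tensorPow L N) s (CycCov.divIdeal D α))
    (hdisj : ∀ (x : X) (j j' : Fin r), 0 < α j → 0 < α j' → x ∈ (D j).support → x ∈ (D j').support → j = j') :
    LogNCD.IsNCD (fun j : Fin r => ((D j).comap π).radical) (π ≫ f) := by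
  classical
  intro y hy
  haveI := hR.1
  have hthr : Nonempty (LogNCD.Through D (π y)) := by
    obtain ⟨i, hi⟩ := hy
    refine ⟨⟨i, ?_⟩⟩
    rw [Scheme.IdealSheafData.support_radical, Scheme.IdealSheafData.support_comap] at hi
    exact hi
  obtain ⟨W, hxW, n, v, e, he, hét, hgen, hout⟩ := hD (π y) hthr
  obtain ⟨O, hxO, hO⟩ := exists_avoid D (fun i => π y ∉ (D i).support) (π y) fun i hi => hi
  obtain ⟨W₁, e₁, hxW₁, he₁⟩ := exists_frame hL (π y)
  obtain ⟨U, hU, hxU, hUle⟩ := exists_isAffineOpen_mem_and_subset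
    (show π y ∈ W ⊓ O ⊓ W₁ from ⟨⟨hxW, hxO⟩, hxW₁⟩)
  have hUW : U ≤ W := fun z hz => (hUle hz).1.1
  have hUO : U ≤ O := fun z hz => (hUle hz).1.2
  have hUW₁ : U ≤ W₁ := fun z hz => (hUle hz).2
  haveI : Nonempty U := ⟨⟨_, hxU⟩⟩
  have heU : IsFrame L U (rs L hUW₁ e₁) := he₁.mono _
  have hY : IsAffineOpen (π ⁻¹ᵁ U) := hU.preimage π
  obtain ⟨ψ₀, hψ₀, hψC, hψX⟩ := exists_chart_ring f W v hét hU hUW
  by_cases hex : ∃ j, 0 < α j ∧ π y ∈ (D j).support
  · obtain ⟨j, hj0, hj⟩ := hex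
    have hOD : ∀ i, i ≠ j → 0 < α i → Disjoint (U : Set X) ((D i).support : Set X) := fun i hi hi' =>
      (hO i fun h => hi (hdisj _ i j hi' hj0 h hj)).mono_left hUO
    let g := LogNCD.sectOn W hUW (v (ULift.up (e ⟨j, hj⟩)))
    letI := algK f U
    letI : Algebra (MvPolynomial (ULift.{u} (Fin n)) k) Γ(X, U) := ψ₀.toAlgebra
    haveI : IsScalarTower k (MvPolynomial (ULift.{u} (Fin n)) k) Γ(X, U) :=
      IsScalarTower.of_algebraMap_eq fun a => (hψC a).symm
    haveI : Algebra.Etale (MvPolynomial (ULift.{u} (Fin n)) k) Γ(X, U) := hψ₀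
    have hδ : ∃ δ : Derivation k Γ(X, U) Γ(X, U), δ g = 1 := by
      obtain ⟨δ, hδ⟩ := exists_derivation_etale (k := k) (B' := Γ(X, U)) (MvPolynomial.pderiv (ULift.up (e ⟨j, hj⟩)))
      refine ⟨δ, ?_⟩
      rw [show g = algebraMap (MvPolynomial (ULift.{u} (Fin n)) k) Γ(X, U) (MvPolynomial.X (ULift.up (e ⟨j, hj⟩))) from
        (hψX _).symm, hδ, MvPolynomial.pderiv_X_self, map_one]
    obtain ⟨u, d, b, φ, hd, hu, hdn, hφ, hφB⟩ := exists_local_of_chart f R hN hNk hR hs hj0 ⟨U, hU⟩ heU hOD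
      (g := g) (hgen ⟨j, hj⟩ ⟨U, hU⟩ hUW) hδ
    have hn : 0 < N / Nat.gcd N (α j) := Nat.div_pos (Nat.gcd_le_left _ hN) (Nat.gcd_pos_of_pos_left _ hN)
    generalize N / Nat.gcd N (α j) = m at φ hφ hφB hdn hn
    rw [Nat.cast_mul] at hdn
    obtain ⟨h, hh, ψ₁, hψ₁, hψ₁C, hψ₁X⟩ := exists_coords_model (k := k) (σ := ULift.{u} (Fin n)) hd hn
      (isUnit_of_mul_isUnit_left hdn) hu b (ULift.up (e ⟨j, hj⟩)) (g := g) (hψX _)
    let V := Y.basicOpen (φ h)
    have hVU : V ≤ π ⁻¹ᵁ U := Y.basicOpen_le _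
    have hσn : φ (AdjoinRoot.root _) ^ m = φ (AdjoinRoot.of _ (coefV d u b)) * π.app U g := by
      rw [← map_pow, root_pow, map_mul, map_mul]
      exact congrArg (φ (AdjoinRoot.of _ (coefV d u b)) * ·) (hφB g)
    have hyV : y ∈ V := by
      have hspan : Ideal.span ({AdjoinRoot.root _, h} : Set (Model d m u g b)) = ⊤ := by
        by_contra hne
        obtain ⟨q, hq, hle⟩ := Ideal.exists_le_maximal _ hne
        exact hh q hq.isPrime (hle (Ideal.subset_span (Set.mem_insert _ _)))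
          (hle (Ideal.subset_span (Set.mem_insert_of_mem _ rfl)))
      obtain ⟨a, c, hac⟩ := Ideal.mem_span_pair.1 ((Ideal.eq_top_iff_one _).1 hspan)
      have hsum := congrArg (fun z => Y.presheaf.germ (π ⁻¹ᵁ U) y hxU (φ z)) hac
      simp only [map_add, map_mul, map_one] at hsum
      rw [Scheme.mem_basicOpen (x := y) (hx := hxU)]
      rcases IsLocalRing.isUnit_or_isUnit_of_add_one hsum with h1 | h1
      swap
      · exact isUnit_of_mul_isUnit_right h1
      exfalso
      have h2 := (isUnit_of_mul_isUnit_right h1).pow m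
      rw [← map_pow, hσn, map_mul] at h2
      have hy2 : y ∈ Y.basicOpen (π.app U g) := (Scheme.mem_basicOpen _ _ y hxU).2 (isUnit_of_mul_isUnit_right h2)
      rw [← Scheme.preimage_basicOpen] at hy2
      have h3 : π y ∈ ((D j).support : Set X) ∩ U := ⟨hj, hxU⟩
      rw [(D j).coe_support_inter ⟨U, hU⟩, hgen ⟨j, hj⟩ ⟨U, hU⟩ hUW, Scheme.zeroLocus_span] at h3
      exact (Scheme.mem_zeroLocus_iff _ _ _).1 h3.1 g rfl hy2
    letI : Algebra (Model d m u g b) Γ(Y, V) :=
      ((Y.presheaf.map (homOfLE (Y.basicOpen_le (φ h))).op).hom.comp φ).toAlgebra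
    haveI : IsLocalization.Away h Γ(Y, V) := by
      letI := (Y.presheaf.map (homOfLE (Y.basicOpen_le (φ h))).op).hom.toAlgebra
      haveI : IsLocalization.Away (φ h) Γ(Y, V) := hY.isLocalization_basicOpen (φ h)
      have := IsLocalization.isLocalization_of_base_ringEquiv (Submonoid.powers (φ h)) Γ(Y, V)
        (RingEquiv.ofBijective φ hφ).symm
      rw [Submonoid.map_powers] at this
      have he : (RingEquiv.ofBijective φ hφ).symm (φ h) = h := (RingEquiv.ofBijective φ hφ).symm_apply_apply h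
      erw [he] at this
      exact this
    let E : Localization.Away h ≃ₐ[Model d m u g b] Γ(Y, V) := IsLocalization.algEquiv (Submonoid.powers h) _ _
    let ψ : MvPolynomial (ULift.{u} (Fin n)) k →+* Γ(Y, V) := E.toRingEquiv.toRingHom.comp ψ₁
    have hE : ∀ z, E (algebraMap _ _ z) = ro hVU (φ z) := fun z => E.commutes z
    have happ : ∀ z, π.appLE U V hVU z = ro hVU (π.app U z) := fun z => rfl
    obtain ⟨W', hyW', v', e', h1, h2, h3, h4⟩ := ncd_of_local f v e he hgen hout hU hUW (hY.basicOpen (φ h)) hVU hyV ψ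
      (RingHom.Etale.respectsIso.1 _ E.toRingEquiv hψ₁) (fun c => by
        show E (ψ₁ (MvPolynomial.C c)) = _
        rw [hψ₁C, hE, hφB, happ]
        rfl) (fun i => by
        rw [show ψ (MvPolynomial.X (ULift.up (e i))) = E (ψ₁ (MvPolynomial.X (ULift.up (e i)))) from rfl, hψ₁X, hE, happ]
        by_cases hi : ULift.up (e i) = ULift.up (e ⟨j, hj⟩)
        · rw [if_pos hi, hi]
          have hcu : IsUnit (ro hVU (φ (AdjoinRoot.of _ (coefV d u b)))) :=
            ((((isUnit_root hd hu).pow b).map _).map φ).map (Y.presheaf.map (homOfLE hVU).op).hom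
          have hpow : ro hVU (φ (AdjoinRoot.root _)) ^ m =
              ro hVU (φ (AdjoinRoot.of _ (coefV d u b))) * ro hVU (π.app U g) := by
            refine ((map_pow (Y.presheaf.map (homOfLE hVU).op).hom _ m).symm.trans ?_).trans (ro_mul hVU _ _)
            exact congrArg (Y.presheaf.map (homOfLE hVU).op).hom hσn
          rw [← Ideal.radical_pow (Ideal.span {ro hVU (φ (AdjoinRoot.root _))}) hn.ne', Ideal.span_singleton_pow,
            hpow, Ideal.span_singleton_mul_left_unit hcu]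
        · rw [if_neg hi, hφB, show algebraMap (MvPolynomial (ULift.{u} (Fin n)) k) Γ(X, U)
            (MvPolynomial.X (ULift.up (e i))) = _ from hψX _])
    exact ⟨W', hyW', n, v', e', h1, h2, h3, h4⟩
  · push Not at hex
    have hOU : ∀ i, 0 < α i → Disjoint (U : Set X) ((D i).support : Set X) := fun i hi =>
      (hO i (hex i hi)).mono_left hUO
    obtain ⟨a, ha⟩ := (isFrame_lpow heU N).exists_coeff le_rfl (SecTwist.val s U)
    rw [rs_self] at ha
    have hau : IsUnit a := isUnit_of_isZeroDiv hs ⟨U, hU⟩ heU ha.symm (ideal_divIdeal_eq_top D α ⟨U, hU⟩ hOU)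
    have hπ := etale_over_affine f R hN hNk hR ⟨U, hU⟩ heU ha.symm hau
    obtain ⟨W', hyW', v', e', h1, h2, h3, h4⟩ := ncd_of_local f v e he hgen hout hU hUW hY le_rfl hxU
      ((π.app U).hom.comp ψ₀) (RingHom.Etale.stableUnderComposition _ _ hψ₀ hπ) (fun c => by
        rw [RingHom.comp_apply, hψC, Scheme.Hom.appLE_eq_app]) (fun i => by
        rw [RingHom.comp_apply, hψX, Scheme.Hom.appLE_eq_app])
    exact ⟨W', hyW', n, v', e', h1, h2, h3, h4⟩

end Groth.L16.CycCov
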