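import Groth.Agent.L16.CycCov.Etale
import Groth.Agent.L16.CycCov.NCD
import Groth.Agent.L16.CycCov.Compare
import Groth.Agent.L22.Ideal

/-!
# The cyclic cover along a single component of the branch divisor
-/

set_option autoImplicit false
set_option linter.style.haveILetI false

universe u

open CategoryTheory AlgebraicGeometry TopologicalSpace Opposite
open Groth.L18.Frame
open Groth.L02.CycCover

noncomputable section

namespace Groth.L16.CycCov

variable {k : Type u} [Field k] [IsAlgClosed k] {X Y : Scheme.{u}} {L : X.Modules} {N : ℕ}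
  {s : Coh.structureModule X ⟶ CohB1.tensorPow L N} {π : Y ⟶ X}

theorem exists_bezout {m n : ℕ} (hm : 0 < m) (hn : 0 < n) (h : Nat.Coprime m n) : ∃ b c : ℕ, b * m = 1 + c * n := by
  rcases eq_or_lt_of_le (Nat.succ_le_of_lt hn) with h1 | h1
  · subst h1
    exact ⟨1, m - 1, by omega⟩
  · obtain ⟨b, -, hb⟩ := Nat.exists_mul_mod_eq_one_of_coprime h h1
    exact ⟨b, m * b / n, by rw [mul_comm b m]; conv_lhs => rw [← Nat.mod_add_div (m * b) n, hb, mul_comm n]⟩

theorem isNormalRing_sections (hY : Pi1.IsNormalScheme Y) {U : Y.Opens} (hU : IsAffineOpen U) :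
    EGA4.IsNormalRing Γ(Y, U) := by
  intro p hp
  let y : Y := hU.fromSpec ⟨p, hp⟩
  have hyU : y ∈ U := hU.range_fromSpec.le ⟨_, rfl⟩
  letI : Algebra Γ(Y, U) (Y.presheaf.stalk y) := (Y.presheaf.germ U y hyU).hom.toAlgebra
  haveI : IsLocalization.AtPrime (Y.presheaf.stalk y) p := hU.isLocalization_stalk' ⟨p, hp⟩ hyU
  let e : Localization.AtPrime p ≃+* Y.presheaf.stalk y :=
    (IsLocalization.algEquiv p.primeCompl (Localization.AtPrime p) (Y.presheaf.stalk y)).toRingEquiv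
  haveI := (hY y).1
  haveI := (hY y).2
  exact ⟨e.toMulEquiv.isDomain _, IsIntegrallyClosed.of_equiv e.symm⟩

omit [IsAlgClosed k] in
theorem isUnit_natCast (f : X ⟶ Spec (CommRingCat.of k)) (U : X.Opens) {N : ℕ} (hNk : (N : k) ≠ 0) :
    IsUnit (N : Γ(X, U)) := by
  rw [← map_natCast (κ f U)]
  exact (IsUnit.mk0 _ hNk).map (κ f U)

/-- The divisor on an open meeting a single component. -/
theorem ideal_divIdeal_single {r : ℕ} (D : Fin r → X.IdealSheafData) (α : Fin r → ℕ) (j : Fin r) (U : X.affineOpens)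
    (h : ∀ i, i ≠ j → 0 < α i → Disjoint (U.1 : Set X) ((D i).support : Set X)) :
    (CycCov.divIdeal D α).ideal U = (D j).ideal U ^ α j := by
  classical
  have h2 : ∏ i, D i ^ α i = D j ^ α j * CycCov.divIdeal D (Function.update α j 0) := by
    rw [CycCov.divIdeal, ← Finset.mul_prod_erase _ _ (Finset.mem_univ j),
      ← Finset.mul_prod_erase Finset.univ (fun i => D i ^ Function.update α j 0 i) (Finset.mem_univ j),
      Function.update_self, pow_zero, one_mul]
    refine congrArg _ (Finset.prod_congr rfl fun i hi => ?_)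
    rw [Function.update_of_ne (Finset.ne_of_mem_erase hi)]
  rw [show CycCov.divIdeal D α = _ from h2, Scheme.IdealSheafData.ideal_mul, Pi.mul_apply,
    ideal_divIdeal_eq_top D (Function.update α j 0) U (fun i hi => ?_), Ideal.mul_top,
    Scheme.IdealSheafData.ideal_pow, Pi.pow_apply]
  rcases eq_or_ne i j with rfl | hne
  · simp at hi
  · rw [Function.update_of_ne hne] at hi
    exact h i hne hi

/-- The model over a given chart. -/
theorem exists_local_of_chart [IsIntegral X] (f : X ⟶ Spec (CommRingCat.of k)) [Smooth f]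
    (R : CycCov.Root L N s π) (hN : 0 < N) (hNk : (N : k) ≠ 0) (hR : CycCov.IsCover R)
    {r : ℕ} {D : Fin r → X.IdealSheafData} {α : Fin r → ℕ}
    (hs : CycCov.IsZeroDiv (CohB1.tensorPow L N) s (CycCov.divIdeal D α)) {j : Fin r} (hj : 0 < α j)
    (U : X.affineOpens) [Nonempty U.1] {eU : Γ(L, U.1)} (he : IsFrame L U.1 eU)
    (hOD : ∀ i, i ≠ j → 0 < α i → Disjoint (U.1 : Set X) ((D i).support : Set X)) {g : Γ(X, U.1)}
    (hUg : (D j).ideal U = Ideal.span {g})
    (hδ : letI := algK f U.1; ∃ δ : Derivation k Γ(X, U.1) Γ(X, U.1), δ g = 1) :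
    ∃ (u : Γ(X, U.1)) (d b : ℕ) (φ : Model d (N / Nat.gcd N (α j)) u g b →+* Γ(Y, π ⁻¹ᵁ U.1)),
      0 < d ∧ IsUnit u ∧ IsUnit ((d * (N / Nat.gcd N (α j)) : ℕ) : Γ(X, U.1)) ∧ Function.Bijective φ ∧
      (∀ z, φ (ofB d _ u g b z) = π.app U.1 z) := by
  letI := algK f U.1
  obtain ⟨δ, hδ⟩ := hδ
  haveI := smooth_algK f U.2
  haveI : Nonempty U.1.toScheme := ‹Nonempty U.1›
  obtain ⟨a, ha⟩ := (isFrame_lpow he N).exists_coeff le_rfl (SecTwist.val s U.1)
  rw [rs_self] at ha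
  have hI : (CycCov.divIdeal D α).ideal U = Ideal.span {g ^ α j} := by
    rw [ideal_divIdeal_single D α j U hOD, hUg,
      Ideal.span_singleton_pow]
  have hspan : Ideal.span {a} = Ideal.span {g ^ α j} := by
    have h := hs U
    rw [hI, ← ha] at h
    refine le_antisymm ?_ ?_
    · have hmem : a • CycCov.lpow L U.1 eU N ∈
          Ideal.span {g ^ α j} • (⊤ : Submodule Γ(X, U.1) ((CohB1.tensorPow L N).val.obj (op U.1))) :=
        h ▸ Submodule.mem_span_singleton_self _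
      rw [Submodule.ideal_span_singleton_smul, Submodule.mem_smul_pointwise_iff_exists] at hmem
      obtain ⟨y, -, hy⟩ := hmem
      obtain ⟨c, hc⟩ := (isFrame_lpow he N).exists_coeff le_rfl y
      rw [rs_self] at hc
      rw [← hc] at hy
      rw [Ideal.span_singleton_le_span_singleton]
      refine ⟨c, ((isGen_of_isFrame (isFrame_lpow he N)).1 ?_).symm⟩
      exact (mul_smul (g ^ α j) c (CycCov.lpow L U.1 eU N)).trans hy
    · have hmem : (g ^ α j) • CycCov.lpow L U.1 eU N ∈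
          Submodule.span Γ(X, U.1) {a • CycCov.lpow L U.1 eU N} :=
        h ▸ Submodule.smul_mem_smul (Ideal.mem_span_singleton_self _) trivial
      obtain ⟨c, hc⟩ := Submodule.mem_span_singleton.1 hmem
      rw [Ideal.span_singleton_le_span_singleton]
      refine ⟨c, (((isGen_of_isFrame (isFrame_lpow he N)).1 ?_).symm).trans (mul_comm c a)⟩
      exact (mul_smul c a (CycCov.lpow L U.1 eU N)).trans hc
  obtain ⟨u, hu⟩ := (Ideal.span_singleton_eq_span_singleton.1 hspan).symm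
  let d := Nat.gcd N (α j)
  have hd : 0 < d := Nat.gcd_pos_of_pos_left _ hN
  have hn : 0 < N / d := Nat.div_pos (Nat.gcd_le_left _ hN) hd
  have hm : 0 < α j / d := Nat.div_pos (Nat.gcd_le_right _ hj) hd
  obtain ⟨b, c, hbc⟩ := exists_bezout hm hn (Nat.coprime_div_gcd_div_gcd hd).symm
  have hdn : d * (N / d) = N := Nat.mul_div_cancel' (Nat.gcd_dvd_left _ _)
  obtain ⟨htors, g', hg', hloc, hinj⟩ := exists_generic R hN hR U he ha.symm
  have hu' : IsUnit ((d * (N / d) : ℕ) : Γ(X, U.1)) := by rw [hdn]; exact isUnit_natCast f U.1 hNk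
  haveI := hR.1
  obtain ⟨φ, hφ, hφB⟩ := model_iso (k := k) (x := g) (u := (u : Γ(X, U.1))) hd hn hdn.symm
    (Nat.mul_div_cancel' (Nat.gcd_dvd_right N (α j))).symm hbc hu' u.isUnit
    (by rw [← hu, mul_comm]) (fun h0 => by rw [h0, map_zero] at hδ; exact zero_ne_one hδ) δ hδ
    (isNormalRing_sections hR.2.1 (U.2.preimage π)) (π.app U.1).hom
    (RingHom.Finite.to_isIntegral (π.finite_app U.1 U.2))
    (CycCov.chart R U _ (isGen_of_isFrame he) a ha.symm) (fun z => AdjoinRoot.lift_of _) hinj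
    (fun g₁ hg₁ z => htors g₁ hg₁ z) hg' hloc
  exact ⟨u, d, b, φ, hd, u.isUnit, hu', hφ, hφB⟩

theorem exists_local [IsIntegral X] (f : X ⟶ Spec (CommRingCat.of k)) [Smooth f] (hL : PicF.IsInvertible L)
    (R : CycCov.Root L N s π) (hN : 0 < N) (hNk : (N : k) ≠ 0) (hR : CycCov.IsCover R)
    {r : ℕ} {D : Fin r → X.IdealSheafData} {α : Fin r → ℕ} (hD : LogNCD.IsNCD D f)
    (hs : CycCov.IsZeroDiv (CohB1.tensorPow L N) s (CycCov.divIdeal D α))
    {x : X} {j : Fin r} (hx : x ∈ (D j).support) (hj : 0 < α j) {O : X.Opens} (hO : x ∈ O)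
    (hOD : ∀ i, i ≠ j → 0 < α i → Disjoint (O : Set X) ((D i).support : Set X)) :
    ∃ (U : X.affineOpens) (_ : Nonempty U.1) (g u : Γ(X, U.1)) (d b : ℕ)
      (φ : Model d (N / Nat.gcd N (α j)) u g b →+* Γ(Y, π ⁻¹ᵁ U.1)),
      x ∈ U.1 ∧ U.1 ≤ O ∧ (D j).ideal U = Ideal.span {g} ∧ 0 < d ∧ IsUnit u ∧
      IsUnit ((d * (N / Nat.gcd N (α j)) : ℕ) : Γ(X, U.1)) ∧ Function.Bijective φ ∧
      (∀ z, φ (ofB d _ u g b z) = π.app U.1 z) ∧
      (letI := algK f U.1; ∃ δ : Derivation k Γ(X, U.1) Γ(X, U.1), δ g = 1) := by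
  obtain ⟨W₁, e₁, hxW₁, he₁⟩ := exists_frame hL x
  obtain ⟨U, g, hxU, hUO, hUg, δ, hδ⟩ := exists_chart f hD hx (show x ∈ O ⊓ W₁ from ⟨hO, hxW₁⟩)
  letI := algK f U.1
  haveI : Nonempty U.1 := ⟨⟨_, hxU⟩⟩
  have he : IsFrame L U.1 (rs L (hUO.trans inf_le_right) e₁) := he₁.mono _
  obtain ⟨u, d, b, φ, hd, hu, hu', hφ, hφB⟩ := exists_local_of_chart f R hN hNk hR hs hj U he
    (fun i hi hi' => (hOD i hi hi').mono_left (hUO.trans inf_le_left)) hUg ⟨δ, hδ⟩
  exact ⟨U, ‹_›, g, u, d, b, φ, hxU, hUO.trans inf_le_left, hUg, hd, hu, hu', hφ, hφB, δ, hδ⟩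

end Groth.L16.CycCov
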